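import Mathlib

set_option autoImplicit false

namespace Cfsg.Agent.Lib.Helper14.Dicyclic

variable {G : Type*} [Group G]

theorem commute_iff_of_not_mem (C : Subgroup G) (hidx : C.index = 2)
    (hinv : ∀ x, x ∉ C → ∀ c ∈ C, x * c * x⁻¹ = c⁻¹)
    (z : G) (hz : z ∈ C) (hz2 : ∀ c ∈ C, c * c = 1 ↔ (c = 1 ∨ c = z))
    (x : G) (hx : x ∉ C) (y : G) : Commute x y ↔ (y = 1 ∨ y = z ∨ y = x ∨ y = x * z) := by
  have key : ∀ c ∈ C, Commute x c → (c = 1 ∨ c = z) := by
    intro c hc hcomm
    have h1 := hinv x hx c hc
    have h2 : x * c * x⁻¹ = c := by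
      rw [hcomm.eq]
      group
    rw [h2] at h1
    exact (hz2 c hc).mp (mul_eq_one_iff_eq_inv.mpr h1)
  have hzz : z * z = 1 := (hz2 z hz).mpr (Or.inr rfl)
  have hxz : Commute x z := by
    have h1 := hinv x hx z hz
    have h2 : z⁻¹ = z := inv_eq_of_mul_eq_one_left hzz
    rw [h2] at h1
    show x * z = z * x
    nth_rewrite 2 [← h1]
    group
  constructor
  · intro hcomm
    by_cases hy : y ∈ C
    · rcases key y hy hcomm with h | h
      · exact Or.inl h
      · exact Or.inr (Or.inl h)
    · have hc : x⁻¹ * y ∈ C := by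
        rw [Subgroup.mul_mem_iff_of_index_two hidx]
        constructor
        · intro h
          exact absurd (C.inv_mem_iff.mp h) hx
        · intro h
          exact absurd h hy
      have hcomm' : Commute x (x⁻¹ * y) := by
        show x * (x⁻¹ * y) = x⁻¹ * y * x
        rw [mul_assoc, ← hcomm.eq]
        group
      rcases key _ hc hcomm' with h | h
      · right; right; left
        have : y = x * (x⁻¹ * y) := by group
        rw [this, h, mul_one]
      · right; right; right
        have : y = x * (x⁻¹ * y) := by group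
        rw [this, h]
  · rintro (h | h | h | h)
    · rw [h]
      exact Commute.one_right x
    · rw [h]
      exact hxz
    · rw [h]
    · rw [h]
      exact (Commute.refl x).mul_right hxz

open Classical in
theorem card_commute [Finite G] (C : Subgroup G)
    (hC : ∀ a ∈ C, ∀ b ∈ C, a * b = b * a)
    (hidx : C.index = 2)
    (hinv : ∀ x, x ∉ C → ∀ c ∈ C, x * c * x⁻¹ = c⁻¹)
    (z : G) (hz : z ∈ C) (hz1 : z ≠ 1) (hz2 : ∀ c ∈ C, c * c = 1 ↔ (c = 1 ∨ c = z)) (x : G) :
    Nat.card {y : G // Commute x y} =
      if x ∈ C then (if x * x = 1 then 2 * Nat.card C else Nat.card C) else 4 := by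
  classical
  have hfin : Fintype G := Fintype.ofFinite G
  have hG : Nat.card G = Nat.card C * 2 := by rw [← C.card_mul_index, hidx]
  by_cases hx : x ∈ C
  · by_cases hx2 : x * x = 1
    · rw [if_pos hx, if_pos hx2]
      have hall : ∀ y : G, Commute x y := by
        intro y
        by_cases hy : y ∈ C
        · exact hC x hx y hy
        · have h1 := hinv y hy x hx
          have h2 : x⁻¹ = x := inv_eq_of_mul_eq_one_left hx2
          rw [h2] at h1
          show x * y = y * x
          nth_rewrite 1 [← h1]
          group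
      rw [Nat.card_congr (Equiv.subtypeUnivEquiv hall), hG, mul_comm]
    · rw [if_pos hx, if_neg hx2]
      apply Nat.card_congr
      apply Equiv.subtypeEquivRight
      intro y
      constructor
      · intro hcomm
        by_contra hy
        have h1 := hinv y hy x hx
        have h2 : y * x * y⁻¹ = x := by
          rw [← hcomm.eq]
          group
        rw [h2] at h1
        exact hx2 (mul_eq_one_iff_eq_inv.mpr h1)
      · intro hy
        exact hC x hx y hy
  · rw [if_neg hx]
    have hset := commute_iff_of_not_mem C hidx hinv z hz hz2 x hx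
    rw [Nat.card_congr (Equiv.subtypeEquivRight hset), Nat.card_eq_fintype_card, Fintype.card_subtype]
    have hfilter : Finset.univ.filter (fun y : G => y = 1 ∨ y = z ∨ y = x ∨ y = x * z) =
        {1, z, x, x * z} := by
      ext y
      simp
    rw [hfilter]
    have hxz : x * z ∉ C := by
      intro h
      exact hx ((Subgroup.mul_mem_cancel_right C hz).mp h)
    have h1 : (1 : G) ∉ ({z, x, x * z} : Finset G) := by
      simp only [Finset.mem_insert, Finset.mem_singleton, not_or]
      refine ⟨fun h => hz1 h.symm, fun h => hx (h ▸ C.one_mem), fun h => hxz (h ▸ C.one_mem)⟩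
    have h2 : z ∉ ({x, x * z} : Finset G) := by
      simp only [Finset.mem_insert, Finset.mem_singleton, not_or]
      refine ⟨fun h => hx (h ▸ hz), fun h => hxz (h ▸ hz)⟩
    have h3 : x ∉ ({x * z} : Finset G) := by
      simp only [Finset.mem_singleton]
      intro h
      apply hz1
      have : x * 1 = x * z := by rw [mul_one]; exact h
      exact (mul_left_cancel this).symm
    rw [Finset.card_insert_of_notMem h1, Finset.card_insert_of_notMem h2,
      Finset.card_insert_of_notMem h3, Finset.card_singleton]

theorem card_conjClasses [Finite G] (C : Subgroup G)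
    (hC : ∀ a ∈ C, ∀ b ∈ C, a * b = b * a)
    (hidx : C.index = 2)
    (hinv : ∀ x, x ∉ C → ∀ c ∈ C, x * c * x⁻¹ = c⁻¹)
    (z : G) (hz : z ∈ C) (hz1 : z ≠ 1) (hz2 : ∀ c ∈ C, c * c = 1 ↔ (c = 1 ∨ c = z)) :
    2 * Nat.card (ConjClasses G) = Nat.card C + 6 := by
  classical
  have hfin : Fintype G := Fintype.ofFinite G
  have hG : Nat.card G = Nat.card C * 2 := by rw [← C.card_mul_index, hidx]
  have hcardC : (Finset.univ.filter (fun x : G => x ∈ C)).card = Nat.card C := by
    rw [Nat.card_eq_fintype_card, Fintype.card_subtype]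
  have hcardnC : (Finset.univ.filter (fun x : G => ¬ x ∈ C)).card = Nat.card C := by
    rw [Finset.filter_not, Finset.card_sdiff_of_subset (Finset.filter_subset _ _), hcardC, Finset.card_univ,
      ← Nat.card_eq_fintype_card, hG]
    omega
  have hsq : (Finset.univ.filter (fun x : G => x ∈ C)).filter (fun x => x * x = 1) = {1, z} := by
    ext c
    simp only [Finset.mem_filter, Finset.mem_univ, true_and, Finset.mem_insert, Finset.mem_singleton]
    constructor
    · rintro ⟨hc, hc2⟩
      exact (hz2 c hc).mp hc2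
    · rintro (h | h)
      · rw [h]
        exact ⟨C.one_mem, mul_one 1⟩
      · rw [h]
        exact ⟨hz, (hz2 z hz).mpr (Or.inr rfl)⟩
  have hcard2 : ((Finset.univ.filter (fun x : G => x ∈ C)).filter (fun x => x * x = 1)).card = 2 := by
    rw [hsq, Finset.card_insert_of_notMem (by simpa using hz1.symm), Finset.card_singleton]
  have hcardn2 : ((Finset.univ.filter (fun x : G => x ∈ C)).filter (fun x => ¬ x * x = 1)).card =
      Nat.card C - 2 := by
    rw [Finset.filter_not, Finset.card_sdiff_of_subset (Finset.filter_subset _ _), hcard2, hcardC]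
  have hP := card_comm_eq_card_conjClasses_mul_card G
  rw [Nat.card_congr (Equiv.subtypeProdEquivSigmaSubtype Commute), Nat.card_sigma] at hP
  simp_rw [card_commute C hC hidx hinv z hz hz1 hz2] at hP
  rw [Finset.sum_ite, Finset.sum_ite, Finset.sum_const, Finset.sum_const, Finset.sum_const, hcard2, hcardn2,
    hcardnC, hG] at hP
  simp only [smul_eq_mul] at hP
  have h2le : 2 ≤ Nat.card C := by
    rw [← hcardC, ← hcard2]
    exact Finset.card_le_card (Finset.filter_subset _ _)
  obtain ⟨m, hm⟩ : ∃ m, Nat.card C = m + 2 := ⟨Nat.card C - 2, by omega⟩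
  rw [hm] at hP ⊢
  simp only [Nat.add_sub_cancel] at hP
  have h3 : (m + 2) * (2 * Nat.card (ConjClasses G)) = (m + 2) * (m + 2 + 6) := by
    linarith [hP]
  exact Nat.eq_of_mul_eq_mul_left (by positivity) h3

theorem normalizer_card [Finite G] (T : Subgroup G)
    (hcomm : ∀ a ∈ T, ∀ b ∈ T, a * b = b * a)
    (hcent : ∀ y : G, (∀ c ∈ T, y * c = c * y) → y ∈ T)
    (hinv : ∀ x ∈ Subgroup.normalizer (T : Set G), x ∉ T → ∀ c ∈ T, x * c * x⁻¹ = c⁻¹)
    (w : G) (hwN : w ∈ Subgroup.normalizer (T : Set G)) (hw : w ∉ T)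
    (z : G) (hz : z ∈ T) (hz1 : z ≠ 1) (hz2 : ∀ c ∈ T, c * c = 1 ↔ (c = 1 ∨ c = z)) :
    Nat.card (Subgroup.normalizer (T : Set G)) = 2 * Nat.card T ∧
    2 * Nat.card (ConjClasses (Subgroup.normalizer (T : Set G))) = Nat.card T + 6 := by
  have hTN : T ≤ Subgroup.normalizer (T : Set G) := Subgroup.le_normalizer
  have hidx : (T.subgroupOf (Subgroup.normalizer (T : Set G))).index = 2 := by
    rw [Subgroup.index_eq_two_iff]
    refine ⟨⟨w, hwN⟩, fun b => ?_⟩
    by_cases hb : (b : G) ∈ T
    · refine Or.inr ⟨Subgroup.mem_subgroupOf.mpr hb, ?_⟩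
      intro h
      have h1 : (b : G) * w ∈ T := Subgroup.mem_subgroupOf.mp h
      exact hw ((Subgroup.mul_mem_cancel_left T hb).mp h1)
    · refine Or.inl ⟨?_, fun h => hb (Subgroup.mem_subgroupOf.mp h)⟩
      rw [Subgroup.mem_subgroupOf]
      show (b : G) * w ∈ T
      apply hcent
      intro c hc
      have h1 := hinv w hwN hw c hc
      have h2 := hinv (b : G) b.2 hb c⁻¹ (T.inv_mem hc)
      rw [inv_inv] at h2
      have h3 : w * c = c⁻¹ * w := by
        rw [← h1]
        group
      have h4 : (b : G) * c⁻¹ = c * b := by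
        nth_rewrite 2 [← h2]
        group
      rw [mul_assoc, h3, ← mul_assoc, h4, mul_assoc]
  have hcardC : Nat.card (T.subgroupOf (Subgroup.normalizer (T : Set G))) = Nat.card T :=
    Nat.card_congr (Subgroup.subgroupOfEquivOfLe hTN).toEquiv
  constructor
  · rw [← (T.subgroupOf (Subgroup.normalizer (T : Set G))).card_mul_index, hidx, hcardC, mul_comm]
  · rw [← hcardC]
    apply card_conjClasses (T.subgroupOf (Subgroup.normalizer (T : Set G))) _ hidx _ ⟨z, hTN hz⟩
    · exact Subgroup.mem_subgroupOf.mpr hz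
    · intro h
      exact hz1 (congrArg Subtype.val h)
    · intro c hc
      have h1 := hz2 (c : G) (Subgroup.mem_subgroupOf.mp hc)
      constructor
      · intro h
        have h' : (c : G) * (c : G) = 1 := congrArg Subtype.val h
        rcases h1.mp h' with h3 | h3
        · exact Or.inl (Subtype.ext h3)
        · exact Or.inr (Subtype.ext h3)
      · rintro (h | h)
        · exact Subtype.ext (h1.mpr (Or.inl (congrArg Subtype.val h)))
        · exact Subtype.ext (h1.mpr (Or.inr (congrArg Subtype.val h)))
    · intro a ha b hb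
      exact Subtype.ext (hcomm (a : G) (Subgroup.mem_subgroupOf.mp ha) (b : G) (Subgroup.mem_subgroupOf.mp hb))
    · intro x hx c hc
      apply Subtype.ext
      exact hinv (x : G) x.2 (fun h => hx (Subgroup.mem_subgroupOf.mpr h)) (c : G) (Subgroup.mem_subgroupOf.mp hc)

end Cfsg.Agent.Lib.Helper14.Dicyclic
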