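import Mathlib
import Cfsg.Prelude.Def_Classical
import Cfsg.Agent.Lib.Helper14.Laws
import Cfsg.Agent.Lib.Helper14.LawEmb
import Cfsg.Agent.S0248
import Cfsg.Agent.S0281

set_option autoImplicit false

namespace Cfsg.Agent.Lib.Helper14.LawFam

open Matrix Cfsg.Agent.Lib.Helper14.Laws Cfsg.Agent.Lib.Helper14.LawEmb

/-- the hypotheses: the law fails in `PSL_2` over large fields and in large alternating groups. -/
def Hyp1 (w : FreeGroup ℕ) (N₁ : ℕ) : Prop :=
  ∀ (K : Type) [Field K] [Fintype K], N₁ ≤ Fintype.card K →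
    ¬ IsLaw w (Matrix.ProjectiveSpecialLinearGroup (Fin 2) K)

def Hyp2 (w : FreeGroup ℕ) (N₂ : ℕ) : Prop :=
  ∀ n : ℕ, N₂ ≤ n → ¬ IsLaw w (alternatingGroup (Fin n))

/-- `A_n` embeds in `GL_n(F)`. -/
noncomputable def altGL (m : ℕ) (F : Type) [Field F] :
    alternatingGroup (Fin m) →* Matrix.GeneralLinearGroup (Fin m) F :=
  (Matrix.permMatrixHom (R := F) (n := Fin m)).toHomUnits.comp (alternatingGroup (Fin m)).subtype

theorem altGL_injective (m : ℕ) (F : Type) [Field F] : Function.Injective (altGL m F) := by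
  intro a b h
  apply Subtype.ext
  apply permHom_injective (F := F)
  exact congrArg Units.val h

/-- `GL_k(F)` embeds in `GL_{k+j}(F)`. -/
noncomputable def blockGL (k j : ℕ) (F : Type) [Field F] :
    Matrix.GeneralLinearGroup (Fin k) F →* Matrix.GeneralLinearGroup (Fin (k + j)) F :=
  Units.map (blockHom k j F)

theorem blockGL_injective (k j : ℕ) (F : Type) [Field F] :
    Function.Injective (blockGL k j F) :=
  Units.map_injective (blockHom_injective k j F)

/-- `SL_k(F)` embeds in `GL_{k+j}(F)`. -/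
noncomputable def slGL (k j : ℕ) (F : Type) [Field F] :
    Matrix.SpecialLinearGroup (Fin k) F →* Matrix.GeneralLinearGroup (Fin (k + j)) F :=
  (blockGL k j F).comp Matrix.SpecialLinearGroup.toGL

theorem slGL_injective (k j : ℕ) (F : Type) [Field F] : Function.Injective (slGL k j F) :=
  (blockGL_injective k j F).comp Matrix.SpecialLinearGroup.toGL_injective

/-- `SL_k(F)` embeds in `SL_{k+j}(F)`. -/
noncomputable def slSL (k j : ℕ) (F : Type) [Field F] :
    Matrix.SpecialLinearGroup (Fin k) F →* Matrix.SpecialLinearGroup (Fin (k + j)) F where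
  toFun A := ⟨blockHom k j F A.1, by rw [det_blockHom]; exact A.2⟩
  map_one' := by
    apply Subtype.ext
    exact map_one (blockHom k j F)
  map_mul' A B := by
    apply Subtype.ext
    exact map_mul (blockHom k j F) A.1 B.1

theorem slSL_injective (k j : ℕ) (F : Type) [Field F] : Function.Injective (slSL k j F) := by
  intro A B h
  apply Subtype.ext
  exact blockHom_injective k j F (congrArg Subtype.val h)

/-- `A_n` embeds in `SL_n(F)`. -/
noncomputable def altSL (m : ℕ) (F : Type) [Field F] :
    alternatingGroup (Fin m) →* Matrix.SpecialLinearGroup (Fin m) F where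
  toFun σ := ⟨Matrix.permMatrixHom (R := F) (σ : Equiv.Perm (Fin m)), by
    rw [det_permHom, Equiv.Perm.mem_alternatingGroup.1 σ.2]; simp⟩
  map_one' := by
    apply Subtype.ext
    exact map_one (Matrix.permMatrixHom (R := F) (n := Fin m))
  map_mul' A B := by
    apply Subtype.ext
    exact map_mul (Matrix.permMatrixHom (R := F) (n := Fin m)) A.1 B.1

theorem altSL_injective (m : ℕ) (F : Type) [Field F] : Function.Injective (altSL m F) := by
  intro a b h
  apply Subtype.ext
  apply permHom_injective (F := F)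
  exact congrArg Subtype.val h

theorem alt_of_center {w : FreeGroup ℕ} {N₂ : ℕ} (H₂ : Hyp2 w N₂) (m : ℕ) (hm : max N₂ 4 ≤ m)
    (h : IsLaw w (alternatingGroup (Fin m) ⧸ Subgroup.center (alternatingGroup (Fin m)))) :
    False := by
  have h4 : 4 ≤ Nat.card (Fin m) := by
    rw [Nat.card_eq_fintype_card, Fintype.card_fin]
    exact le_trans (le_max_right _ _) hm
  exact H₂ m (le_trans (le_max_left _ _) hm)
    (IsLaw.of_center_bot (alternatingGroup.center_eq_bot h4) h)

/-- the linear groups. -/
theorem psl {w : FreeGroup ℕ} {N₁ N₂ : ℕ} (H₁ : Hyp1 w N₁) (H₂ : Hyp2 w N₂)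
    (F : Type) [Field F] [Fintype F] (n : ℕ) (hn : 2 ≤ n)
    (h : IsLaw w (Matrix.ProjectiveSpecialLinearGroup (Fin n) F)) :
    Fintype.card F < N₁ ∧ n < max N₂ 4 := by
  constructor
  · by_contra hc
    push Not at hc
    obtain ⟨j, rfl⟩ : ∃ j, n = 2 + j := ⟨n - 2, by omega⟩
    exact H₁ F hc (IsLaw.center_quot (slSL 2 j F) (slSL_injective 2 j F) h)
  · by_contra hc
    push Not at hc
    exact alt_of_center H₂ n hc (IsLaw.center_quot (altSL n F) (altSL_injective n F) h)

/-- the Levi embedding into the symplectic group. -/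
noncomputable def leviSp (m : ℕ) (F : Type) [Field F] :
    Matrix.GeneralLinearGroup (Fin m) F →* Matrix.symplecticGroup (Fin m) F :=
  (leviHom0 m F).codRestrict _ (leviHom0_mem_symp m F)

theorem leviSp_injective (m : ℕ) (F : Type) [Field F] : Function.Injective (leviSp m F) := by
  intro A B h
  exact leviHom0_injective m F (congrArg Subtype.val h)

/-- the symplectic groups. -/
theorem psp {w : FreeGroup ℕ} {N₁ N₂ : ℕ} (H₁ : Hyp1 w N₁) (H₂ : Hyp2 w N₂)
    (F : Type) [Field F] [Fintype F] (m : ℕ) (hm : 2 ≤ m)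
    (h : IsLaw w (Cfsg.PSp m F)) :
    Fintype.card F < N₁ ∧ m < max N₂ 4 := by
  constructor
  · by_contra hc
    push Not at hc
    obtain ⟨j, rfl⟩ : ∃ j, m = 2 + j := ⟨m - 2, by omega⟩
    exact H₁ F hc (IsLaw.center_quot ((leviSp (2 + j) F).comp (slGL 2 j F))
      ((leviSp_injective (2 + j) F).comp (slGL_injective 2 j F)) h)
  · by_contra hc
    push Not at hc
    exact alt_of_center H₂ m hc (IsLaw.center_quot ((leviSp m F).comp (altGL m F))
      ((leviSp_injective m F).comp (altGL_injective m F)) h)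

/-- the orthogonal groups, given a Levi embedding. -/
theorem pomega {w : FreeGroup ℕ} {N₁ N₂ : ℕ} (H₁ : Hyp1 w N₁) (H₂ : Hyp2 w N₂)
    (F : Type) [Field F] [Fintype F] {ι : Type} [Fintype ι] [DecidableEq ι]
    (Q : (ι → F) → F) (m : ℕ) (hm : 3 ≤ m)
    (lam : Matrix.GeneralLinearGroup (Fin m) F →* ↥(Cfsg.isometryGroup F Q))
    (hlam : Function.Injective lam)
    (h : IsLaw w (Cfsg.POmega F Q)) :
    Fintype.card F < N₁ ∧ m < max N₂ 5 := by
  constructor
  · obtain ⟨j, rfl⟩ : ∃ j, m = 3 + j := ⟨m - 3, by omega⟩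
    have h3 : IsLaw w (Matrix.ProjectiveSpecialLinearGroup (Fin 3) F) :=
      IsLaw.of_perfect (lam.comp (slGL 3 j F)) (hlam.comp (slGL_injective 3 j F))
        (Cfsg.Agent.S0248.result 3 le_rfl) h
    exact (psl H₁ H₂ F 3 (by norm_num) h3).1
  · by_contra hc
    push Not at hc
    have h5 : 5 ≤ Nat.card (Fin m) := by
      rw [Nat.card_eq_fintype_card, Fintype.card_fin]
      exact le_trans (le_max_right _ _) hc
    have hA : IsLaw w (alternatingGroup (Fin m) ⧸ Subgroup.center (alternatingGroup (Fin m))) :=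
      IsLaw.of_perfect (lam.comp (altGL m F)) (hlam.comp (altGL_injective m F))
        (commutator_alternatingGroup_eq_top h5) h
    have hc' : max N₂ 4 ≤ m := by
      have := le_max_left N₂ 5
      have := le_max_right N₂ 5
      rcases le_total N₂ 4 with h4 | h4
      · rw [max_eq_right h4]; omega
      · rw [max_eq_left h4]; omega
    exact alt_of_center H₂ m hc' hA

end Cfsg.Agent.Lib.Helper14.LawFam
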