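import Mathlib
import Cfsg.Prelude.Def_Classical
import Cfsg.Agent.Lib.Helper14.Laws
import Cfsg.Agent.Lib.Helper14.LawEmb
import Cfsg.Agent.Lib.Helper14.LawFam
import Cfsg.Agent.S0281

set_option autoImplicit false

namespace Cfsg.Agent.Lib.Helper14.LawFam

open Matrix Cfsg.Agent.Lib.Helper14.Laws Cfsg.Agent.Lib.Helper14.LawEmb

/-! ### unitary groups -/

theorem isU_perm {F : Type} [Field F] (n q : ℕ) (σ : Equiv.Perm (Fin n)) (u v : Fin n → F) :
    Cfsg.hermForm n F q (Matrix.permMatrixHom (R := F) σ *ᵥ u)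
      (Matrix.permMatrixHom (R := F) σ *ᵥ v) = Cfsg.hermForm n F q u v := by
  rw [permHom_mulVec, permHom_mulVec]
  simp only [Cfsg.hermForm, Function.comp_apply]
  exact Equiv.sum_comp (σ⁻¹ : Equiv.Perm (Fin n)) (fun i => u i * v i ^ q)

theorem isU_block {F : Type} [Field F] (k j q : ℕ) (A : Matrix (Fin k) (Fin k) F)
    (hA : ∀ u v : Fin k → F, Cfsg.hermForm k F q (A *ᵥ u) (A *ᵥ v) = Cfsg.hermForm k F q u v)
    (u v : Fin (k + j) → F) :
    Cfsg.hermForm (k + j) F q (blockHom k j F A *ᵥ u) (blockHom k j F A *ᵥ v) =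
      Cfsg.hermForm (k + j) F q u v := by
  simp only [Cfsg.hermForm]
  rw [Fin.sum_univ_add, Fin.sum_univ_add]
  simp only [blockHom_mulVec_castAdd, blockHom_mulVec_natAdd]
  congr 1
  exact hA _ _

/-- `A_n` embeds in `SU_n`. -/
noncomputable def altSU (n q : ℕ) (F : Type) [Field F] :
    alternatingGroup (Fin n) →* ↥(Cfsg.SU n F q) :=
  (altSL n F).codRestrict _ (fun σ => by
    intro u v
    exact isU_perm n q σ.1 u v)

theorem altSU_injective (n q : ℕ) (F : Type) [Field F] : Function.Injective (altSU n q F) := by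
  intro a b h
  exact altSL_injective n F (congrArg Subtype.val h)

/-- `SU_k` embeds in `SU_{k+j}`. -/
noncomputable def suSU (k j q : ℕ) (F : Type) [Field F] :
    ↥(Cfsg.SU k F q) →* ↥(Cfsg.SU (k + j) F q) :=
  ((slSL k j F).comp (Cfsg.SU k F q).subtype).codRestrict _ (fun g => by
    intro u v
    exact isU_block k j q g.1.1 (fun u v => g.2 u v) u v)

theorem suSU_injective (k j q : ℕ) (F : Type) [Field F] : Function.Injective (suSU k j q F) := by
  intro a b h
  apply Subtype.ext
  exact slSL_injective k j F (congrArg Subtype.val h)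

/-- a field with `q` elements, when `q ^ 2` is the order of a finite field. -/
theorem exists_field_card {F : Type} [Field F] [Fintype F] (q : ℕ) (hF : Fintype.card F = q ^ 2) :
    ∃ (K : Type) (_ : Field K) (_ : Fintype K), Fintype.card K = q := by
  obtain ⟨p, hp⟩ := CharP.exists F
  obtain ⟨n, hpr, hn⟩ := FiniteField.card F p
  have : Fact p.Prime := ⟨hpr⟩
  have hq : q ∣ p ^ (n : ℕ) := by
    rw [← hn, hF]
    exact Dvd.intro_left (q ^ 1) (by ring)
  obtain ⟨j, -, rfl⟩ := (Nat.dvd_prime_pow hpr).1 hq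
  have hj : j ≠ 0 := by
    rintro rfl
    have h1 : 1 < Fintype.card F := Fintype.one_lt_card
    rw [hF] at h1
    simp at h1
  refine ⟨GaloisField p j, inferInstance, Fintype.ofFinite _, ?_⟩
  exact Fintype.card_eq_nat_card.trans (GaloisField.card p j hj)

/-- the unitary groups. -/
theorem psu {w : FreeGroup ℕ} {N₁ N₂ : ℕ} (H₁ : Hyp1 w N₁) (H₂ : Hyp2 w N₂)
    (F : Type) [Field F] [Fintype F] (n q : ℕ) (hF : Fintype.card F = q ^ 2) (hn : 3 ≤ n)
    (h : IsLaw w (Cfsg.PSU n F q)) :
    q < N₁ ∧ n < max N₂ 4 := by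
  constructor
  · by_contra hc
    push Not at hc
    obtain ⟨j, rfl⟩ : ∃ j, n = 2 + j := ⟨n - 2, by omega⟩
    obtain ⟨K, _, _, hK⟩ := exists_field_card q hF
    obtain ⟨e⟩ := Cfsg.Agent.S0281.result (F := F) (K := K) hF hK
    have h2 : IsLaw w (↥(Cfsg.SU 2 F q) ⧸ Subgroup.center ↥(Cfsg.SU 2 F q)) :=
      IsLaw.center_quot (suSU 2 j q F) (suSU_injective 2 j q F) h
    have h3 : IsLaw w (Matrix.ProjectiveSpecialLinearGroup (Fin 2) K) :=
      IsLaw.center_quot e.symm.toMonoidHom e.symm.injective h2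
    exact H₁ K (hK ▸ hc) h3
  · by_contra hc
    push Not at hc
    exact alt_of_center H₂ n hc (IsLaw.center_quot (altSU n q F) (altSU_injective n q F) h)

/-! ### Levi embeddings into the orthogonal groups -/

noncomputable def leviPlus (m : ℕ) (F : Type) [Field F] :
    Matrix.GeneralLinearGroup (Fin m) F →* ↥(Cfsg.isometryGroup F (Cfsg.quadFormPlus m F)) :=
  ((leviHom0 m F).toHomUnits).codRestrict _ (fun g => by
    intro u v
    exact quadFormPlus_levi m F g u)

theorem leviPlus_injective (m : ℕ) (F : Type) [Field F] : Function.Injective (leviPlus m F) := by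
  intro A B h
  exact leviHom0_injective m F (congrArg Units.val (congrArg Subtype.val h))

noncomputable def leviOdd (m : ℕ) (F : Type) [Field F] :
    Matrix.GeneralLinearGroup (Fin m) F →* ↥(Cfsg.isometryGroup F (Cfsg.quadFormOdd m F)) :=
  (((inrHom0 Unit (Fin m ⊕ Fin m) F).comp (leviHom0 m F)).toHomUnits).codRestrict _ (fun g => by
    intro u v
    show Cfsg.quadFormOdd m F (inrHom0 Unit (Fin m ⊕ Fin m) F (leviHom0 m F g) *ᵥ u) =
      Cfsg.quadFormOdd m F u
    rw [inrHom0_mulVec]
    have h1 := quadFormPlus_levi m F g (u ∘ Sum.inr)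
    simp only [Cfsg.quadFormPlus, Function.comp_apply] at h1
    simp only [Cfsg.quadFormOdd, Sum.elim_inl, Sum.elim_inr, Function.comp_apply]
    rw [h1])

theorem leviOdd_injective (m : ℕ) (F : Type) [Field F] : Function.Injective (leviOdd m F) := by
  intro A B h
  exact leviHom0_injective m F (inrHom0_injective Unit (Fin m ⊕ Fin m) F
    (congrArg Units.val (congrArg Subtype.val h)))

noncomputable def leviMinus (m : ℕ) (F : Type) [Field F] (a b : F) :
    Matrix.GeneralLinearGroup (Fin m) F →*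
      ↥(Cfsg.isometryGroup F (Cfsg.quadFormMinus m F a b)) :=
  (((inlHom0 (Fin m ⊕ Fin m) (Fin 2) F).comp (leviHom0 m F)).toHomUnits).codRestrict _
    (fun g => by
    intro u v
    show Cfsg.quadFormMinus m F a b (inlHom0 (Fin m ⊕ Fin m) (Fin 2) F (leviHom0 m F g) *ᵥ u) =
      Cfsg.quadFormMinus m F a b u
    rw [inlHom0_mulVec]
    have h1 := quadFormPlus_levi m F g (u ∘ Sum.inl)
    simp only [Cfsg.quadFormPlus, Function.comp_apply] at h1
    simp only [Cfsg.quadFormMinus, Sum.elim_inl, Sum.elim_inr, Function.comp_apply]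
    rw [h1])

theorem leviMinus_injective (m : ℕ) (F : Type) [Field F] (a b : F) :
    Function.Injective (leviMinus m F a b) := by
  intro A B h
  exact leviHom0_injective m F (inlHom0_injective (Fin m ⊕ Fin m) (Fin 2) F
    (congrArg Units.val (congrArg Subtype.val h)))

/-! ### cardinality bounds -/

theorem card_matrix (ι : Type) [Fintype ι] [DecidableEq ι] (F : Type) [Field F] [Fintype F] :
    Nat.card (Matrix ι ι F) = Fintype.card F ^ (Fintype.card ι * Fintype.card ι) := by
  have : Nat.card (Matrix ι ι F) = Nat.card (ι → ι → F) := rfl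
  rw [this, Nat.card_eq_fintype_card]
  simp [pow_mul]

theorem card_psl (F : Type) [Field F] [Fintype F] (n : ℕ) :
    Nat.card (Matrix.ProjectiveSpecialLinearGroup (Fin n) F) ≤ Fintype.card F ^ (n * n) := by
  have h := card_le_of_inj_surj (X := Matrix (Fin n) (Fin n) F)
    (fun A : Matrix.SpecialLinearGroup (Fin n) F => A.1) Subtype.val_injective
    (QuotientGroup.mk' (Subgroup.center (Matrix.SpecialLinearGroup (Fin n) F)))
    (QuotientGroup.mk'_surjective _)
  rw [card_matrix, Fintype.card_fin] at h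
  exact h

theorem card_psp (F : Type) [Field F] [Fintype F] (m : ℕ) :
    Nat.card (Cfsg.PSp m F) ≤ Fintype.card F ^ ((m + m) * (m + m)) := by
  have h := card_le_of_inj_surj (X := Matrix (Fin m ⊕ Fin m) (Fin m ⊕ Fin m) F)
    (fun A : Matrix.symplecticGroup (Fin m) F => A.1) Subtype.val_injective
    (QuotientGroup.mk' (Subgroup.center (Matrix.symplecticGroup (Fin m) F)))
    (QuotientGroup.mk'_surjective _)
  rw [card_matrix, Fintype.card_sum, Fintype.card_fin] at h
  exact h

theorem card_psu (F : Type) [Field F] [Fintype F] (n q : ℕ) :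
    Nat.card (Cfsg.PSU n F q) ≤ Fintype.card F ^ (n * n) := by
  have h := card_le_of_inj_surj (X := Matrix (Fin n) (Fin n) F)
    (fun A : ↥(Cfsg.SU n F q) => A.1.1)
    (fun A B hAB => Subtype.ext (Subtype.ext hAB))
    (QuotientGroup.mk' (Subgroup.center ↥(Cfsg.SU n F q)))
    (QuotientGroup.mk'_surjective _)
  rw [card_matrix, Fintype.card_fin] at h
  exact h

theorem card_pomega (F : Type) [Field F] [Fintype F] {ι : Type} [Fintype ι] [DecidableEq ι]
    (Q : (ι → F) → F) :
    Nat.card (Cfsg.POmega F Q) ≤ Fintype.card F ^ (Fintype.card ι * Fintype.card ι) := by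
  have h := card_le_of_inj_surj (X := Matrix ι ι F)
    (fun A : ↥(Cfsg.Omega F Q) => ((A.1.1 : Matrix.GeneralLinearGroup ι F) : Matrix ι ι F))
    (fun A B hAB => Subtype.ext (Subtype.ext (Units.ext hAB)))
    (QuotientGroup.mk' (Subgroup.center ↥(Cfsg.Omega F Q)))
    (QuotientGroup.mk'_surjective _)
  rw [card_matrix] at h
  exact h

end Cfsg.Agent.Lib.Helper14.LawFam
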