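import Mathlib
import Cfsg.Agent.Lib.Helper14.GL2Conj

set_option autoImplicit false

namespace Cfsg.Agent.Lib.Helper14.SL2Odd

open Cfsg.Agent.Lib.Helper14.GL2Conj

variable {F : Type*} [Field F]

theorem two_ne_zero_of_odd [Fintype F] (hodd : Fintype.card F % 2 = 1) : (2 : F) ≠ 0 := by
  intro h2
  have h3 : ringChar F = 2 := CharP.ringChar_of_prime_eq_zero Nat.prime_two (by exact_mod_cast h2)
  have := FiniteField.even_card_of_char_two h3
  omega

def tr2 (M : Matrix.SpecialLinearGroup (Fin 2) F) : F :=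
  (M : Matrix (Fin 2) (Fin 2) F) 0 0 + (M : Matrix (Fin 2) (Fin 2) F) 1 1

theorem tr2_eq (M : Matrix.SpecialLinearGroup (Fin 2) F) :
    tr2 M = (M : Matrix (Fin 2) (Fin 2) F).trace := by
  rw [Matrix.trace_fin_two]
  rfl

theorem tr2_conj (P M : Matrix.SpecialLinearGroup (Fin 2) F) : tr2 (P * M * P⁻¹) = tr2 M := by
  rw [tr2_eq, tr2_eq]
  simp only [Matrix.SpecialLinearGroup.coe_mul]
  rw [Matrix.trace_mul_comm, ← Matrix.mul_assoc, ← Matrix.SpecialLinearGroup.coe_mul, inv_mul_cancel]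
  simp

theorem tr2_of_isConj {g h : Matrix.SpecialLinearGroup (Fin 2) F} (hc : IsConj g h) : tr2 h = tr2 g := by
  obtain ⟨c, hc⟩ := isConj_iff.mp hc
  rw [← hc, tr2_conj]

theorem scalar_of_isConj {g h : Matrix.SpecialLinearGroup (Fin 2) F} (hc : IsConj g h)
    (hg : IsScalarMat (g : Matrix (Fin 2) (Fin 2) F)) : h = g := by
  obtain ⟨c, hc⟩ := isConj_iff.mp hc
  have hrel : (c : Matrix (Fin 2) (Fin 2) F) * (g : Matrix (Fin 2) (Fin 2) F) =
      (h : Matrix (Fin 2) (Fin 2) F) * (c : Matrix (Fin 2) (Fin 2) F) := by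
    have h1 : c * g = h * c := by rw [← hc]; group
    have := congrArg (fun X : Matrix.SpecialLinearGroup (Fin 2) F => (X : Matrix (Fin 2) (Fin 2) F)) h1
    simpa using this
  have hdet : (c : Matrix (Fin 2) (Fin 2) F).det ≠ 0 := by rw [c.det_coe]; exact one_ne_zero
  exact Subtype.ext (isScalarMat_conj hg _ hdet hrel)

theorem not_scalar_of_isConj {g h : Matrix.SpecialLinearGroup (Fin 2) F} (hc : IsConj g h)
    (hg : ¬ IsScalarMat (g : Matrix (Fin 2) (Fin 2) F)) : ¬ IsScalarMat (h : Matrix (Fin 2) (Fin 2) F) := by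
  intro hh
  have := scalar_of_isConj hc.symm hh
  exact hg (this ▸ hh)

theorem conj_of_det (g h : Matrix.SpecialLinearGroup (Fin 2) F) (R : Matrix (Fin 2) (Fin 2) F)
    (hRel : R * (g : Matrix (Fin 2) (Fin 2) F) = (h : Matrix (Fin 2) (Fin 2) F) * R) (a b : F)
    (hab : (a ^ 2 + tr2 g * a * b + b ^ 2) * R.det = 1) : IsConj g h := by
  have hgd := g.det_coe
  rw [Matrix.det_fin_two] at hgd
  have hdY : (a • (1 : Matrix (Fin 2) (Fin 2) F) + b • (g : Matrix (Fin 2) (Fin 2) F)).det =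
      a ^ 2 + tr2 g * a * b + b ^ 2 := by
    rw [Matrix.det_fin_two]
    simp only [Matrix.add_apply, Matrix.smul_apply, Matrix.one_apply_eq, Matrix.one_apply_ne, ne_eq,
      zero_ne_one, one_ne_zero, not_false_eq_true, smul_eq_mul, mul_one, mul_zero, zero_add]
    unfold tr2
    linear_combination (b ^ 2) * hgd
  have hdet : (R * (a • (1 : Matrix (Fin 2) (Fin 2) F) + b • (g : Matrix (Fin 2) (Fin 2) F))).det = 1 := by
    rw [Matrix.det_mul, hdY, mul_comm]
    exact hab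
  let c : Matrix.SpecialLinearGroup (Fin 2) F :=
    ⟨R * (a • (1 : Matrix (Fin 2) (Fin 2) F) + b • (g : Matrix (Fin 2) (Fin 2) F)), hdet⟩
  have hc : c * g = h * c := by
    apply Subtype.ext
    simp only [Matrix.SpecialLinearGroup.coe_mul]
    change R * (a • (1 : Matrix (Fin 2) (Fin 2) F) + b • (g : Matrix (Fin 2) (Fin 2) F)) *
        (g : Matrix (Fin 2) (Fin 2) F) =
      (h : Matrix (Fin 2) (Fin 2) F) * (R * (a • (1 : Matrix (Fin 2) (Fin 2) F) + b • (g : Matrix (Fin 2) (Fin 2) F)))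
    rw [← Matrix.mul_assoc, ← hRel, Matrix.mul_assoc, Matrix.mul_assoc]
    congr 1
    simp [Matrix.add_mul, Matrix.mul_add]
  rw [isConj_iff]
  exact ⟨c, by rw [mul_inv_eq_iff_eq_mul]; exact hc⟩

theorem conj_of_trace [Fintype F] (hodd : Fintype.card F % 2 = 1)
    (g h : Matrix.SpecialLinearGroup (Fin 2) F)
    (hg : ¬ IsScalarMat (g : Matrix (Fin 2) (Fin 2) F)) (hh : ¬ IsScalarMat (h : Matrix (Fin 2) (Fin 2) F))
    (htr : tr2 g = tr2 h) (ht : tr2 g ^ 2 ≠ 4) : IsConj g h := by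
  have h2 : (2 : F) ≠ 0 := two_ne_zero_of_odd hodd
  have h4 : (4 : F) ≠ 0 := by
    have : (4 : F) = 2 * 2 := by norm_num
    rw [this]
    exact mul_ne_zero h2 h2
  have hdetgh : (g : Matrix (Fin 2) (Fin 2) F).det = (h : Matrix (Fin 2) (Fin 2) F).det := by
    rw [g.det_coe, h.det_coe]
  obtain ⟨R, hR, hRel⟩ := exists_conj _ _ hg hh (by rw [← tr2_eq, ← tr2_eq, htr]) hdetgh
  have hk : 1 - tr2 g ^ 2 / 4 ≠ 0 := by
    intro hk
    apply ht
    field_simp at hk
    linear_combination (-1 : F) * hk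
  have hf : (Polynomial.X ^ 2 - Polynomial.C (R.det)⁻¹ : Polynomial F).degree = 2 :=
    Polynomial.degree_X_pow_sub_C (by norm_num) _
  have hgp : (Polynomial.C (1 - tr2 g ^ 2 / 4) * Polynomial.X ^ 2 : Polynomial F).degree = 2 := by
    rw [Polynomial.degree_C_mul hk, Polynomial.degree_X_pow]
    rfl
  obtain ⟨u, b, hub⟩ := FiniteField.exists_root_sum_quadratic hf hgp hodd
  simp only [Polynomial.eval_sub, Polynomial.eval_pow, Polynomial.eval_X, Polynomial.eval_C,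
    Polynomial.eval_mul] at hub
  apply conj_of_det g h R hRel (u - tr2 g * b / 2) b
  have h5 : (u - tr2 g * b / 2) ^ 2 + tr2 g * (u - tr2 g * b / 2) * b + b ^ 2 = (R.det)⁻¹ := by
    field_simp
    field_simp at hub
    linear_combination hub
  rw [h5]
  exact inv_mul_cancel₀ hR

def Qf (M : Matrix (Fin 2) (Fin 2) F) (x y : F) : F :=
  M 1 0 * x ^ 2 + (M 1 1 - M 0 0) * x * y - M 0 1 * y ^ 2

theorem Qf_rel (A B R : Matrix (Fin 2) (Fin 2) F) (hRel : R * A = B * R) (x y : F) :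
    Qf B (R 0 0 * x + R 0 1 * y) (R 1 0 * x + R 1 1 * y) = R.det * Qf A x y := by
  have e00 := congrFun (congrFun hRel 0) 0
  have e01 := congrFun (congrFun hRel 0) 1
  have e10 := congrFun (congrFun hRel 1) 0
  have e11 := congrFun (congrFun hRel 1) 1
  simp only [Matrix.mul_apply, Fin.sum_univ_two] at e00 e01 e10 e11
  unfold Qf
  rw [Matrix.det_fin_two]
  linear_combination (-((R 0 0 * x + R 0 1 * y) * x)) * e10 - ((R 0 0 * x + R 0 1 * y) * y) * e11 +
    ((R 1 0 * x + R 1 1 * y) * x) * e00 + ((R 1 0 * x + R 1 1 * y) * y) * e01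

def Chi (g : Matrix.SpecialLinearGroup (Fin 2) F) : Prop :=
  ∃ x y s : F, s ≠ 0 ∧ Qf (g : Matrix (Fin 2) (Fin 2) F) x y = s ^ 2

theorem chi_of_isConj {g h : Matrix.SpecialLinearGroup (Fin 2) F} (hc : IsConj g h) (hg : Chi g) : Chi h := by
  obtain ⟨c, hc⟩ := isConj_iff.mp hc
  have hrel : (c : Matrix (Fin 2) (Fin 2) F) * (g : Matrix (Fin 2) (Fin 2) F) =
      (h : Matrix (Fin 2) (Fin 2) F) * (c : Matrix (Fin 2) (Fin 2) F) := by
    have h1 : c * g = h * c := by rw [← hc]; group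
    have := congrArg (fun X : Matrix.SpecialLinearGroup (Fin 2) F => (X : Matrix (Fin 2) (Fin 2) F)) h1
    simpa using this
  obtain ⟨x, y, s, hs, hq⟩ := hg
  refine ⟨(c : Matrix (Fin 2) (Fin 2) F) 0 0 * x + (c : Matrix (Fin 2) (Fin 2) F) 0 1 * y,
    (c : Matrix (Fin 2) (Fin 2) F) 1 0 * x + (c : Matrix (Fin 2) (Fin 2) F) 1 1 * y, s, hs, ?_⟩
  rw [Qf_rel _ _ _ hrel x y, c.det_coe, one_mul, hq]

theorem chi_iff_of_isConj {g h : Matrix.SpecialLinearGroup (Fin 2) F} (hc : IsConj g h) : Chi g ↔ Chi h :=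
  ⟨chi_of_isConj hc, chi_of_isConj hc.symm⟩

theorem rank_one [Fintype F] (hodd : Fintype.card F % 2 = 1) (g : Matrix.SpecialLinearGroup (Fin 2) F)
    (hg : ¬ IsScalarMat (g : Matrix (Fin 2) (Fin 2) F)) (ht : tr2 g ^ 2 = 4) :
    ∃ l : F, l ≠ 0 ∧ (∀ x y : F, ∃ m : F, Qf (g : Matrix (Fin 2) (Fin 2) F) x y = l * m ^ 2) ∧
      ∃ x y : F, Qf (g : Matrix (Fin 2) (Fin 2) F) x y = l := by
  have h2 : (2 : F) ≠ 0 := two_ne_zero_of_odd hodd
  have hd := g.det_coe
  rw [Matrix.det_fin_two] at hd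
  unfold tr2 at ht
  rw [isScalarMat_iff] at hg
  have hdisc : ((g : Matrix (Fin 2) (Fin 2) F) 1 1 - (g : Matrix (Fin 2) (Fin 2) F) 0 0) ^ 2 +
      4 * (g : Matrix (Fin 2) (Fin 2) F) 0 1 * (g : Matrix (Fin 2) (Fin 2) F) 1 0 = 0 := by
    linear_combination ht - 4 * hd
  by_cases hc : (g : Matrix (Fin 2) (Fin 2) F) 1 0 = 0
  · have hda : (g : Matrix (Fin 2) (Fin 2) F) 1 1 - (g : Matrix (Fin 2) (Fin 2) F) 0 0 = 0 := by
      rw [hc, mul_zero, add_zero] at hdisc
      exact pow_eq_zero_iff (by norm_num) |>.mp hdisc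
    have hb : (g : Matrix (Fin 2) (Fin 2) F) 0 1 ≠ 0 := by
      intro hb
      exact hg ⟨hb, hc, (sub_eq_zero.mp hda).symm⟩
    refine ⟨-(g : Matrix (Fin 2) (Fin 2) F) 0 1, neg_ne_zero.mpr hb, ?_, ?_⟩
    · intro x y
      refine ⟨y, ?_⟩
      unfold Qf
      rw [hc, hda]
      ring
    · refine ⟨0, 1, ?_⟩
      unfold Qf
      ring
  · refine ⟨(g : Matrix (Fin 2) (Fin 2) F) 1 0, hc, ?_, ?_⟩
    · intro x y
      refine ⟨x + ((g : Matrix (Fin 2) (Fin 2) F) 1 1 - (g : Matrix (Fin 2) (Fin 2) F) 0 0) * y /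
        (2 * (g : Matrix (Fin 2) (Fin 2) F) 1 0), ?_⟩
      unfold Qf
      field_simp
      linear_combination (-(y ^ 2)) * hdisc
    · refine ⟨1, 0, ?_⟩
      unfold Qf
      ring

theorem conj_of_chi [Fintype F] (hodd : Fintype.card F % 2 = 1)
    (g h : Matrix.SpecialLinearGroup (Fin 2) F)
    (hg : ¬ IsScalarMat (g : Matrix (Fin 2) (Fin 2) F)) (hh : ¬ IsScalarMat (h : Matrix (Fin 2) (Fin 2) F))
    (htr : tr2 g = tr2 h) (ht : tr2 g ^ 2 = 4) (hchi : Chi g ↔ Chi h) : IsConj g h := by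
  classical
  have h2 : (2 : F) ≠ 0 := two_ne_zero_of_odd hodd
  have hdetgh : (g : Matrix (Fin 2) (Fin 2) F).det = (h : Matrix (Fin 2) (Fin 2) F).det := by
    rw [g.det_coe, h.det_coe]
  obtain ⟨R, hR, hRel⟩ := exists_conj _ _ hg hh (by rw [← tr2_eq, ← tr2_eq, htr]) hdetgh
  obtain ⟨lg, hlg, hg1, x0, y0, hg2⟩ := rank_one hodd g hg ht
  obtain ⟨lh, hlh, hh1, x1, y1, hh2⟩ := rank_one hodd h hh (htr ▸ ht)
  have hchig : Chi g ↔ IsSquare lg := by
    constructor
    · rintro ⟨x, y, s, hs, hq⟩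
      obtain ⟨m, hm⟩ := hg1 x y
      rw [hm] at hq
      have hm0 : m ≠ 0 := by
        intro hm0
        rw [hm0] at hq
        apply hs
        have : s ^ 2 = 0 := by rw [← hq]; ring
        exact pow_eq_zero_iff (by norm_num) |>.mp this
      refine ⟨s / m, ?_⟩
      field_simp
      linear_combination hq
    · rintro ⟨m, hm⟩
      refine ⟨x0, y0, m, ?_, ?_⟩
      · intro hm0
        apply hlg
        rw [hm, hm0, mul_zero]
      · rw [hg2, hm, pow_two]
  have hchih : Chi h ↔ IsSquare lh := by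
    constructor
    · rintro ⟨x, y, s, hs, hq⟩
      obtain ⟨m, hm⟩ := hh1 x y
      rw [hm] at hq
      have hm0 : m ≠ 0 := by
        intro hm0
        rw [hm0] at hq
        apply hs
        have : s ^ 2 = 0 := by rw [← hq]; ring
        exact pow_eq_zero_iff (by norm_num) |>.mp this
      refine ⟨s / m, ?_⟩
      field_simp
      linear_combination hq
    · rintro ⟨m, hm⟩
      refine ⟨x1, y1, m, ?_, ?_⟩
      · intro hm0
        apply hlh
        rw [hm, hm0, mul_zero]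
      · rw [hh2, hm, pow_two]
  have hsq : IsSquare lg ↔ IsSquare lh := by rw [← hchig, ← hchih]; exact hchi
  have hrel := Qf_rel _ _ _ hRel x0 y0
  rw [hg2] at hrel
  obtain ⟨m, hm⟩ := hh1 (R 0 0 * x0 + R 0 1 * y0) (R 1 0 * x0 + R 1 1 * y0)
  rw [hm] at hrel
  have hm0 : m ≠ 0 := by
    intro hm0
    rw [hm0] at hrel
    have : R.det * lg = 0 := by rw [← hrel]; ring
    exact mul_ne_zero hR hlg this
  have hRsq : IsSquare R.det := by
    by_cases hsg : IsSquare lg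
    · obtain ⟨a, ha⟩ := hsg
      obtain ⟨b, hb⟩ := hsq.mp ⟨a, ha⟩
      have ha0 : a ≠ 0 := by
        intro ha0
        apply hlg
        rw [ha, ha0, mul_zero]
      refine ⟨b * m / a, ?_⟩
      field_simp
      rw [ha, hb] at hrel
      linear_combination (-1 : F) * hrel
    · have hsh : ¬ IsSquare lh := fun hsh => hsg (hsq.mpr hsh)
      have e1 := congrArg (quadraticChar F) hrel
      rw [map_mul, map_mul, map_pow, quadraticChar_sq_one hm0, mul_one,
        quadraticChar_neg_one_iff_not_isSquare.mpr hsg, quadraticChar_neg_one_iff_not_isSquare.mpr hsh] at e1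
      have e2 : quadraticChar F R.det = 1 := by
        have := e1
        linarith
      exact (quadraticChar_one_iff_isSquare hR).mp e2
  obtain ⟨s, hs⟩ := hRsq
  have hs0 : s ≠ 0 := by
    intro hs0
    apply hR
    rw [hs, hs0, mul_zero]
  apply conj_of_det g h R hRel s⁻¹ 0
  rw [hs]
  field_simp
  ring

theorem chi_def (g : Matrix.SpecialLinearGroup (Fin 2) F) :
    Chi g ↔ ∃ x y s : F, s ≠ 0 ∧ Qf (g : Matrix (Fin 2) (Fin 2) F) x y = s ^ 2 := Iff.rfl

def negOne : Matrix.SpecialLinearGroup (Fin 2) F :=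
  ⟨!![-1, 0; 0, -1], by simp [Matrix.det_fin_two_of]⟩

theorem negOne_coe :
    ((negOne : Matrix.SpecialLinearGroup (Fin 2) F) : Matrix (Fin 2) (Fin 2) F) = !![-1, 0; 0, -1] := rfl

theorem isScalarMat_one : IsScalarMat ((1 : Matrix.SpecialLinearGroup (Fin 2) F) : Matrix (Fin 2) (Fin 2) F) := by
  rw [isScalarMat_iff]
  simp

theorem isScalarMat_negOne :
    IsScalarMat ((negOne : Matrix.SpecialLinearGroup (Fin 2) F) : Matrix (Fin 2) (Fin 2) F) := by
  rw [isScalarMat_iff, negOne_coe]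
  simp

theorem negOne_ne_one (h2 : (2 : F) ≠ 0) : (negOne : Matrix.SpecialLinearGroup (Fin 2) F) ≠ 1 := by
  intro h
  have h1 : ((negOne : Matrix.SpecialLinearGroup (Fin 2) F) : Matrix (Fin 2) (Fin 2) F) 0 0 =
      (1 : Matrix (Fin 2) (Fin 2) F) 0 0 := by
    rw [h]; rfl
  rw [negOne_coe] at h1
  simp at h1
  apply h2
  linear_combination (-1 : F) * h1

theorem scalar_cases (g : Matrix.SpecialLinearGroup (Fin 2) F)
    (hg : IsScalarMat (g : Matrix (Fin 2) (Fin 2) F)) : g = 1 ∨ g = negOne := by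
  obtain ⟨s, hs⟩ := hg
  have hd := g.det_coe
  rw [hs] at hd
  have hs2 : s = 1 ∨ s = -1 := by
    simpa [Matrix.det_fin_two] using hd
  rcases hs2 with h | h
  · left
    apply Subtype.ext
    rw [hs, h]
    simp
  · right
    apply Subtype.ext
    rw [hs, h, negOne_coe]
    ext i j
    fin_cases i <;> fin_cases j <;> simp

def uni (e b : F) (he : e * e = 1) : Matrix.SpecialLinearGroup (Fin 2) F :=
  ⟨!![e, b; 0, e], by rw [Matrix.det_fin_two_of]; linear_combination he⟩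

theorem uni_coe (e b : F) (he : e * e = 1) :
    ((uni e b he : Matrix.SpecialLinearGroup (Fin 2) F) : Matrix (Fin 2) (Fin 2) F) = !![e, b; 0, e] := rfl

theorem uni_not_scalar (e b : F) (he : e * e = 1) (hb : b ≠ 0) :
    ¬ IsScalarMat ((uni e b he : Matrix.SpecialLinearGroup (Fin 2) F) : Matrix (Fin 2) (Fin 2) F) := by
  rw [isScalarMat_iff, uni_coe]
  simp [hb]

theorem tr2_uni (e b : F) (he : e * e = 1) : tr2 (uni e b he) = 2 * e := by
  unfold tr2
  rw [uni_coe]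
  simp
  ring

theorem Qf_uni (e b : F) (he : e * e = 1) (x y : F) :
    Qf ((uni e b he : Matrix.SpecialLinearGroup (Fin 2) F) : Matrix (Fin 2) (Fin 2) F) x y = -b * y ^ 2 := by
  unfold Qf
  rw [uni_coe]
  simp

theorem chi_uni_iff (e b : F) (he : e * e = 1) (hb : b ≠ 0) : Chi (uni e b he) ↔ IsSquare (-b) := by
  constructor
  · rintro ⟨x, y, s, hs, hq⟩
    rw [Qf_uni] at hq
    have hy : y ≠ 0 := by
      intro hy
      rw [hy] at hq
      apply hs
      have : s ^ 2 = 0 := by rw [← hq]; ring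
      exact pow_eq_zero_iff (by norm_num) |>.mp this
    refine ⟨s / y, ?_⟩
    field_simp
    linear_combination hq
  · rintro ⟨m, hm⟩
    refine ⟨0, 1, m, ?_, ?_⟩
    · intro hm0
      apply hb
      have : -b = 0 := by rw [hm, hm0, mul_zero]
      exact neg_eq_zero.mp this
    · rw [Qf_uni, hm]
      ring

theorem chi_comp (t : F) :
    Chi (⟨comp t 1, comp_det t 1⟩ : Matrix.SpecialLinearGroup (Fin 2) F) := by
  refine ⟨1, 0, 1, one_ne_zero, ?_⟩
  unfold Qf
  show (comp t (1 : F)) 1 0 * 1 ^ 2 + ((comp t (1 : F)) 1 1 - (comp t (1 : F)) 0 0) * 1 * 0 -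
    (comp t (1 : F)) 0 1 * 0 ^ 2 = 1 ^ 2
  simp [comp]

theorem tr2_comp (t : F) :
    tr2 (⟨comp t 1, comp_det t 1⟩ : Matrix.SpecialLinearGroup (Fin 2) F) = t := by
  unfold tr2
  show (comp t (1 : F)) 0 0 + (comp t (1 : F)) 1 1 = t
  simp [comp]

theorem comp_not_scalar' (t : F) :
    ¬ IsScalarMat ((⟨comp t 1, comp_det t 1⟩ : Matrix.SpecialLinearGroup (Fin 2) F) :
      Matrix (Fin 2) (Fin 2) F) := comp_not_scalar t 1

end Cfsg.Agent.Lib.Helper14.SL2Odd
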