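import Mathlib
import Cfsg.Agent.Lib.Helper14.SL2Odd

set_option autoImplicit false

namespace Cfsg.Agent.Lib.Helper14.PSL2

open Cfsg.Agent.Lib.Helper14.GL2Conj Cfsg.Agent.Lib.Helper14.SL2Odd

variable {F : Type*} [Field F]

theorem cayley (X : Matrix.SpecialLinearGroup (Fin 2) F) :
    (X : Matrix (Fin 2) (Fin 2) F) * (X : Matrix (Fin 2) (Fin 2) F) =
      tr2 X • (X : Matrix (Fin 2) (Fin 2) F) - 1 := by
  have hd := X.det_coe
  rw [Matrix.det_fin_two] at hd
  unfold tr2
  ext i j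
  fin_cases i <;> fin_cases j
  · simp [Matrix.mul_apply, Fin.sum_univ_two]
    linear_combination (-1 : F) * hd
  · simp [Matrix.mul_apply, Fin.sum_univ_two]
    ring
  · simp [Matrix.mul_apply, Fin.sum_univ_two]
    ring
  · simp [Matrix.mul_apply, Fin.sum_univ_two]
    linear_combination (-1 : F) * hd

theorem tr2_mul_self (X : Matrix.SpecialLinearGroup (Fin 2) F) : tr2 (X * X) = tr2 X ^ 2 - 2 := by
  have hd := X.det_coe
  rw [Matrix.det_fin_two] at hd
  unfold tr2
  rw [Matrix.SpecialLinearGroup.coe_mul]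
  simp only [Matrix.mul_apply, Fin.sum_univ_two]
  linear_combination (-2 : F) * hd

theorem tr2_inv (M : Matrix.SpecialLinearGroup (Fin 2) F) : tr2 M⁻¹ = tr2 M := by
  unfold tr2
  rw [Matrix.SpecialLinearGroup.coe_inv, Matrix.adjugate_fin_two]
  simp only [Matrix.of_apply, Matrix.cons_val_zero, Matrix.cons_val_one, Matrix.cons_val']
  ring

theorem tr2_one : tr2 (1 : Matrix.SpecialLinearGroup (Fin 2) F) = 2 := by
  unfold tr2
  simp
  norm_num

theorem tr2_negOne : tr2 (negOne : Matrix.SpecialLinearGroup (Fin 2) F) = -2 := by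
  unfold tr2
  rw [negOne_coe]
  simp
  norm_num

theorem tr2_negOne_mul (M : Matrix.SpecialLinearGroup (Fin 2) F) : tr2 (negOne * M) = - tr2 M := by
  unfold tr2
  rw [Matrix.SpecialLinearGroup.coe_mul, negOne_coe]
  simp [Matrix.mul_apply, Fin.sum_univ_two]
  ring

theorem not_scalar_of_trace (M : Matrix.SpecialLinearGroup (Fin 2) F) (h : tr2 M ^ 2 ≠ 4) :
    ¬ IsScalarMat (M : Matrix (Fin 2) (Fin 2) F) := by
  intro hs
  apply h
  rcases scalar_cases M hs with h1 | h1
  · rw [h1, tr2_one]; norm_num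
  · rw [h1, tr2_negOne]; norm_num

theorem mk_eq_one_iff (X : Matrix.SpecialLinearGroup (Fin 2) F) :
    (QuotientGroup.mk X : Matrix.ProjectiveSpecialLinearGroup (Fin 2) F) = 1 ↔
      IsScalarMat (X : Matrix (Fin 2) (Fin 2) F) := by
  rw [QuotientGroup.eq_one_iff, Matrix.SpecialLinearGroup.mem_center_iff]
  constructor
  · rintro ⟨r, _, hscal⟩
    rw [isScalarMat_iff, ← hscal]
    simp [Matrix.scalar_apply]
  · rintro ⟨s, hs⟩
    refine ⟨s, ?_, ?_⟩
    · have hd := X.det_coe
      rw [hs] at hd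
      simp only [Fintype.card_fin]
      simpa [Matrix.det_fin_two, pow_two] using hd
    · rw [hs]
      ext i j
      fin_cases i <;> fin_cases j <;> simp [Matrix.scalar_apply]

theorem mk_negOne :
    (QuotientGroup.mk (negOne : Matrix.SpecialLinearGroup (Fin 2) F) :
      Matrix.ProjectiveSpecialLinearGroup (Fin 2) F) = 1 :=
  (mk_eq_one_iff _).mpr isScalarMat_negOne

theorem mk_negOne_mul (M : Matrix.SpecialLinearGroup (Fin 2) F) :
    (QuotientGroup.mk (negOne * M) : Matrix.ProjectiveSpecialLinearGroup (Fin 2) F) = QuotientGroup.mk M := by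
  rw [QuotientGroup.mk_mul, mk_negOne, one_mul]

theorem sq_eq_negOne_of_trace_zero (X : Matrix.SpecialLinearGroup (Fin 2) F) (h : tr2 X = 0) :
    X * X = negOne := by
  apply Subtype.ext
  rw [Matrix.SpecialLinearGroup.coe_mul, cayley, h, negOne_coe]
  ext i j
  fin_cases i <;> fin_cases j <;> simp

theorem pow_char_scalar (p : ℕ) [Fact p.Prime] [CharP F p] (X : Matrix.SpecialLinearGroup (Fin 2) F)
    (ht : tr2 X ^ 2 = 4) :
    IsScalarMat ((X ^ p : Matrix.SpecialLinearGroup (Fin 2) F) : Matrix (Fin 2) (Fin 2) F) := by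
  have hp : p.Prime := Fact.out
  obtain ⟨e, he, hte⟩ : ∃ e : F, e * e = 1 ∧ tr2 X = 2 * e := by
    have : (tr2 X - 2) * (tr2 X + 2) = 0 := by linear_combination ht
    rcases mul_eq_zero.mp this with h4 | h4
    · exact ⟨1, by ring, by linear_combination h4⟩
    · exact ⟨-1, by ring, by linear_combination h4⟩
  have hY : ((X : Matrix (Fin 2) (Fin 2) F) - e • (1 : Matrix (Fin 2) (Fin 2) F)) ^ 2 = 0 := by
    rw [pow_two, Matrix.sub_mul, Matrix.mul_sub, Matrix.mul_sub, cayley, hte]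
    simp only [Matrix.smul_mul, Matrix.mul_smul, Matrix.one_mul, Matrix.mul_one, smul_smul, he]
    ext i j
    fin_cases i <;> fin_cases j <;> simp <;> ring
  have hYp : ((X : Matrix (Fin 2) (Fin 2) F) - e • (1 : Matrix (Fin 2) (Fin 2) F)) ^ p = 0 :=
    pow_eq_zero_of_le hp.two_le hY
  have hcomm : Commute (e • (1 : Matrix (Fin 2) (Fin 2) F))
      ((X : Matrix (Fin 2) (Fin 2) F) - e • (1 : Matrix (Fin 2) (Fin 2) F)) :=
    Commute.smul_left (Commute.one_left _) e
  have hX : (X : Matrix (Fin 2) (Fin 2) F) = e • (1 : Matrix (Fin 2) (Fin 2) F) +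
      ((X : Matrix (Fin 2) (Fin 2) F) - e • (1 : Matrix (Fin 2) (Fin 2) F)) := by
    rw [add_sub_cancel]
  rw [Matrix.SpecialLinearGroup.coe_pow, hX, add_pow_char_of_commute p hcomm, hYp, add_zero,
    smul_pow, one_pow]
  exact ⟨e ^ p, rfl⟩

theorem trace_sq_of_pow_char_scalar (p : ℕ) [Fact p.Prime] [CharP F p]
    (B : Matrix.SpecialLinearGroup (Fin 2) F)
    (h : IsScalarMat ((B ^ p : Matrix.SpecialLinearGroup (Fin 2) F) : Matrix (Fin 2) (Fin 2) F)) :
    tr2 B ^ 2 = 4 := by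
  have hp : p.Prime := Fact.out
  have hd := B.det_coe
  rw [Matrix.det_fin_two] at hd
  rcases scalar_cases _ h with h1 | h1
  · have h2 : ((B : Matrix (Fin 2) (Fin 2) F) - 1) ^ p = 0 := by
      rw [sub_pow_char_of_commute p (Commute.one_right _), one_pow, ← Matrix.SpecialLinearGroup.coe_pow,
        h1]
      simp
    have h3 : ((B : Matrix (Fin 2) (Fin 2) F) - 1).det = 0 := by
      have := congrArg Matrix.det h2
      rw [Matrix.det_pow, Matrix.det_zero] at this
      exact pow_eq_zero_iff hp.ne_zero |>.mp this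
    rw [Matrix.det_fin_two] at h3
    simp at h3
    have h4 : tr2 B = 2 := by
      unfold tr2
      linear_combination (-1 : F) * h3 + hd
    rw [h4]; norm_num
  · have h2 : ((B : Matrix (Fin 2) (Fin 2) F) + 1) ^ p = 0 := by
      rw [add_pow_char_of_commute p (Commute.one_right _), one_pow, ← Matrix.SpecialLinearGroup.coe_pow,
        h1, negOne_coe]
      ext i j
      fin_cases i <;> fin_cases j <;> simp
    have h3 : ((B : Matrix (Fin 2) (Fin 2) F) + 1).det = 0 := by
      have := congrArg Matrix.det h2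
      rw [Matrix.det_pow, Matrix.det_zero] at this
      exact pow_eq_zero_iff hp.ne_zero |>.mp this
    rw [Matrix.det_fin_two] at h3
    simp at h3
    have h4 : tr2 B = -2 := by
      unfold tr2
      linear_combination h3 - hd
    rw [h4]; norm_num

def nf (l t : F) (hl : l ≠ 0) : Matrix.SpecialLinearGroup (Fin 2) F :=
  ⟨!![0, -l⁻¹; l, t], by rw [Matrix.det_fin_two_of]; simp [hl]⟩

theorem nf_coe (l t : F) (hl : l ≠ 0) :
    ((nf l t hl : Matrix.SpecialLinearGroup (Fin 2) F) : Matrix (Fin 2) (Fin 2) F) = !![0, -l⁻¹; l, t] := rfl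

theorem exists_nf (A : Matrix.SpecialLinearGroup (Fin 2) F)
    (hA : ¬ IsScalarMat (A : Matrix (Fin 2) (Fin 2) F)) :
    ∃ (P : Matrix.SpecialLinearGroup (Fin 2) F) (l : F) (hl : l ≠ 0), A = P * nf l (tr2 A) hl * P⁻¹ := by
  obtain ⟨P, hP, hAP⟩ := exists_conj_comp (A : Matrix (Fin 2) (Fin 2) F) hA
  have hdet : (P * !![1, 0; 0, (P.det)⁻¹]).det = 1 := by
    rw [Matrix.det_mul, Matrix.det_fin_two_of]
    simp [hP]
  let P' : Matrix.SpecialLinearGroup (Fin 2) F := ⟨P * !![1, 0; 0, (P.det)⁻¹], hdet⟩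
  have hP' : (P' : Matrix (Fin 2) (Fin 2) F) = P * !![1, 0; 0, (P.det)⁻¹] := rfl
  refine ⟨P', P.det, hP, ?_⟩
  rw [eq_mul_inv_iff_mul_eq]
  apply Subtype.ext
  simp only [Matrix.SpecialLinearGroup.coe_mul]
  rw [hP', nf_coe, ← Matrix.mul_assoc, hAP, Matrix.mul_assoc, Matrix.mul_assoc]
  congr 1
  rw [A.det_coe, tr2_eq]
  unfold comp
  rw [Matrix.mul_fin_two, Matrix.mul_fin_two]
  ext i j
  fin_cases i <;> fin_cases j <;> simp [hP, mul_comm]

end Cfsg.Agent.Lib.Helper14.PSL2
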