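import Mathlib
import Cfsg.Agent.Lib.Helper14.PSL2
import Cfsg.Agent.Lib.Helper14.ClassSize

set_option autoImplicit false

namespace Cfsg.Agent.Lib.Helper14.SL2Odd2

open Cfsg.Agent.Lib.Helper14.GL2Conj Cfsg.Agent.Lib.Helper14.SL2Odd Cfsg.Agent.Lib.Helper14.PSL2
open Cfsg.Agent.Lib.Helper14.ClassSize

variable {F : Type*} [Field F]

theorem chi_iff_isSquare (g : Matrix.SpecialLinearGroup (Fin 2) F) (l : F) (hl : l ≠ 0)
    (h1 : ∀ x y : F, ∃ m : F, Qf (g : Matrix (Fin 2) (Fin 2) F) x y = l * m ^ 2)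
    (h2 : ∃ x y : F, Qf (g : Matrix (Fin 2) (Fin 2) F) x y = l) : Chi g ↔ IsSquare l := by
  constructor
  · rintro ⟨x, y, s, hs, hq⟩
    obtain ⟨m, hm⟩ := h1 x y
    rw [hm] at hq
    have hm0 : m ≠ 0 := by
      intro hm0
      rw [hm0] at hq
      apply hs
      have : s ^ 2 = 0 := by rw [← hq]; ring
      exact pow_eq_zero_iff (by norm_num) |>.mp this
    refine ⟨s / m, ?_⟩
    field_simp
    linear_combination hq
  · rintro ⟨m, hm⟩
    obtain ⟨x0, y0, h0⟩ := h2
    refine ⟨x0, y0, m, ?_, ?_⟩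
    · intro hm0
      apply hl
      rw [hm, hm0, mul_zero]
    · rw [h0, hm, pow_two]

def twistFun (n : F) (hn : n ≠ 0) (H : Matrix.SpecialLinearGroup (Fin 2) F) :
    Matrix.SpecialLinearGroup (Fin 2) F :=
  ⟨!![(H : Matrix (Fin 2) (Fin 2) F) 0 0, n * (H : Matrix (Fin 2) (Fin 2) F) 0 1;
      (H : Matrix (Fin 2) (Fin 2) F) 1 0 / n, (H : Matrix (Fin 2) (Fin 2) F) 1 1], by
    have hd := H.det_coe
    rw [Matrix.det_fin_two] at hd
    rw [Matrix.det_fin_two_of]
    field_simp
    linear_combination hd⟩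

theorem twistFun_coe (n : F) (hn : n ≠ 0) (H : Matrix.SpecialLinearGroup (Fin 2) F) :
    ((twistFun n hn H : Matrix.SpecialLinearGroup (Fin 2) F) : Matrix (Fin 2) (Fin 2) F) =
      !![(H : Matrix (Fin 2) (Fin 2) F) 0 0, n * (H : Matrix (Fin 2) (Fin 2) F) 0 1;
        (H : Matrix (Fin 2) (Fin 2) F) 1 0 / n, (H : Matrix (Fin 2) (Fin 2) F) 1 1] := rfl

def twist (n : F) (hn : n ≠ 0) :
    Matrix.SpecialLinearGroup (Fin 2) F →* Matrix.SpecialLinearGroup (Fin 2) F where
  toFun := twistFun n hn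
  map_one' := by
    apply Subtype.ext
    rw [twistFun_coe]
    ext i j
    fin_cases i <;> fin_cases j <;> simp
  map_mul' := by
    intro A B
    apply Subtype.ext
    rw [Matrix.SpecialLinearGroup.coe_mul, twistFun_coe, twistFun_coe, twistFun_coe,
      Matrix.SpecialLinearGroup.coe_mul, Matrix.mul_fin_two]
    ext i j
    fin_cases i <;> fin_cases j <;>
      simp [Matrix.mul_apply, Fin.sum_univ_two] <;> field_simp

theorem twist_coe (n : F) (hn : n ≠ 0) (H : Matrix.SpecialLinearGroup (Fin 2) F) :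
    ((twist n hn H : Matrix.SpecialLinearGroup (Fin 2) F) : Matrix (Fin 2) (Fin 2) F) =
      !![(H : Matrix (Fin 2) (Fin 2) F) 0 0, n * (H : Matrix (Fin 2) (Fin 2) F) 0 1;
        (H : Matrix (Fin 2) (Fin 2) F) 1 0 / n, (H : Matrix (Fin 2) (Fin 2) F) 1 1] := rfl

theorem twist_injective (n : F) (hn : n ≠ 0) : Function.Injective (twist n hn) := by
  intro A B h
  have h' := congrArg (fun X : Matrix.SpecialLinearGroup (Fin 2) F => (X : Matrix (Fin 2) (Fin 2) F)) h
  simp only [twist_coe] at h'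
  have e00 : (A : Matrix (Fin 2) (Fin 2) F) 0 0 = (B : Matrix (Fin 2) (Fin 2) F) 0 0 :=
    congrFun (congrFun h' 0) 0
  have e01 : n * (A : Matrix (Fin 2) (Fin 2) F) 0 1 = n * (B : Matrix (Fin 2) (Fin 2) F) 0 1 :=
    congrFun (congrFun h' 0) 1
  have e10 : (A : Matrix (Fin 2) (Fin 2) F) 1 0 / n = (B : Matrix (Fin 2) (Fin 2) F) 1 0 / n :=
    congrFun (congrFun h' 1) 0
  have e11 : (A : Matrix (Fin 2) (Fin 2) F) 1 1 = (B : Matrix (Fin 2) (Fin 2) F) 1 1 :=
    congrFun (congrFun h' 1) 1
  apply Subtype.ext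
  ext i j
  fin_cases i <;> fin_cases j
  · exact e00
  · exact mul_left_cancel₀ hn e01
  · have := (div_left_inj' hn).mp e10
    exact this
  · exact e11

theorem tr2_twist (n : F) (hn : n ≠ 0) (H : Matrix.SpecialLinearGroup (Fin 2) F) :
    tr2 (twist n hn H) = tr2 H := by
  unfold tr2
  rw [twist_coe]
  simp

theorem twist_not_scalar (n : F) (hn : n ≠ 0) (H : Matrix.SpecialLinearGroup (Fin 2) F)
    (hH : ¬ IsScalarMat (H : Matrix (Fin 2) (Fin 2) F)) :
    ¬ IsScalarMat ((twist n hn H : Matrix.SpecialLinearGroup (Fin 2) F) : Matrix (Fin 2) (Fin 2) F) := by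
  rw [isScalarMat_iff] at hH ⊢
  rw [twist_coe]
  simp only [Matrix.of_apply, Matrix.cons_val_zero, Matrix.cons_val_one, Matrix.cons_val']
  rintro ⟨h1, h2, h3⟩
  apply hH
  refine ⟨?_, ?_, h3⟩
  · rcases mul_eq_zero.mp h1 with h | h
    · exact absurd h hn
    · exact h
  · rcases div_eq_zero_iff.mp h2 with h | h
    · exact h
    · exact absurd h hn

theorem Qf_twist (n : F) (hn : n ≠ 0) (H : Matrix.SpecialLinearGroup (Fin 2) F) (x y : F) :
    Qf ((twist n hn H : Matrix.SpecialLinearGroup (Fin 2) F) : Matrix (Fin 2) (Fin 2) F) x y =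
      n⁻¹ * Qf (H : Matrix (Fin 2) (Fin 2) F) x (n * y) := by
  unfold Qf
  rw [twist_coe]
  simp only [Matrix.of_apply, Matrix.cons_val_zero, Matrix.cons_val_one, Matrix.cons_val']
  field_simp

theorem chi_twist [Fintype F] (hodd : Fintype.card F % 2 = 1) (n : F) (hn : ¬ IsSquare n)
    (hn0 : n ≠ 0) (G : Matrix.SpecialLinearGroup (Fin 2) F)
    (hG : ¬ IsScalarMat (G : Matrix (Fin 2) (Fin 2) F)) (ht : tr2 G ^ 2 = 4) :
    Chi (twist n hn0 G) ↔ ¬ Chi G := by
  classical
  obtain ⟨l, hl, h1, x0, y0, h2⟩ := rank_one hodd G hG ht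
  have hchi := chi_iff_isSquare G l hl h1 ⟨x0, y0, h2⟩
  have hln : n⁻¹ * l ≠ 0 := mul_ne_zero (inv_ne_zero hn0) hl
  have hchi' : Chi (twist n hn0 G) ↔ IsSquare (n⁻¹ * l) := by
    apply chi_iff_isSquare _ _ hln
    · intro x y
      obtain ⟨m, hm⟩ := h1 x (n * y)
      refine ⟨m, ?_⟩
      rw [Qf_twist, hm]
      ring
    · refine ⟨x0, y0 / n, ?_⟩
      rw [Qf_twist]
      have : n * (y0 / n) = y0 := by field_simp
      rw [this, h2]
  rw [hchi', hchi]
  have hqn : quadraticChar F n = -1 := quadraticChar_neg_one_iff_not_isSquare.mpr hn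
  have hqn' : quadraticChar F n⁻¹ = -1 := by
    have h3 : quadraticChar F n⁻¹ * quadraticChar F n = 1 := by
      rw [← map_mul, inv_mul_cancel₀ hn0, map_one]
    rw [hqn] at h3
    linarith
  rw [← quadraticChar_one_iff_isSquare hln, ← quadraticChar_neg_one_iff_not_isSquare, map_mul, hqn']
  constructor
  · intro h
    linarith
  · intro h
    rw [h]
    norm_num

theorem class_ncard_regular [Fintype F] (hodd : Fintype.card F % 2 = 1)
    (G : Matrix.SpecialLinearGroup (Fin 2) F) (ht4 : tr2 G ^ 2 ≠ 4) :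
    Set.ncard {H : Matrix.SpecialLinearGroup (Fin 2) F | IsConj G H} =
      Nat.card {p : F // p * (tr2 G - p) = 1} * Fintype.card F + Fintype.card F * (Fintype.card F - 1) := by
  rw [← card_trace_eq (tr2 G), ← Nat.card_coe_set_eq]
  apply Nat.card_congr
  apply Equiv.subtypeEquivRight
  intro H
  change IsConj G H ↔ tr2 H = tr2 G
  constructor
  · exact fun h => tr2_of_isConj h
  · intro h
    exact conj_of_trace hodd G H (not_scalar_of_trace G ht4) (not_scalar_of_trace H (by rw [h]; exact ht4))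
      h.symm ht4

theorem roots_unip (e : F) (he : e * e = 1) : Nat.card {p : F // p * (2 * e - p) = 1} = 1 := by
  rw [Nat.card_eq_one_iff_exists]
  refine ⟨⟨e, by linear_combination he⟩, ?_⟩
  rintro ⟨p, hp⟩
  apply Subtype.ext
  show p = e
  have h1 : (p - e) ^ 2 = 0 := by linear_combination (-1 : F) * hp + he
  exact sub_eq_zero.mp (pow_eq_zero_iff (by norm_num) |>.mp h1)

theorem class_ncard_unip [Fintype F] (hodd : Fintype.card F % 2 = 1)
    (G : Matrix.SpecialLinearGroup (Fin 2) F) (hG : ¬ IsScalarMat (G : Matrix (Fin 2) (Fin 2) F))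
    (ht : tr2 G ^ 2 = 4) :
    2 * Set.ncard {H : Matrix.SpecialLinearGroup (Fin 2) F | IsConj G H} = Fintype.card F ^ 2 - 1 := by
  classical
  have h2 : (2 : F) ≠ 0 := two_ne_zero_of_odd hodd
  have hchar : ringChar F ≠ 2 := by
    intro hch
    have := FiniteField.even_card_of_char_two hch
    omega
  obtain ⟨n, hn⟩ := FiniteField.exists_nonsquare hchar
  have hn0 : n ≠ 0 := by
    intro h0
    apply hn
    rw [h0]
    exact ⟨0, by simp⟩
  obtain ⟨e, he, hte⟩ : ∃ e : F, e * e = 1 ∧ tr2 G = 2 * e := by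
    have : (tr2 G - 2) * (tr2 G + 2) = 0 := by linear_combination ht
    rcases mul_eq_zero.mp this with h4 | h4
    · exact ⟨1, by ring, by linear_combination h4⟩
    · exact ⟨-1, by ring, by linear_combination h4⟩
  have hG' : ¬ IsScalarMat ((twist n hn0 G : Matrix.SpecialLinearGroup (Fin 2) F) : Matrix (Fin 2) (Fin 2) F) :=
    twist_not_scalar n hn0 G hG
  have hchiG' := chi_twist hodd n hn hn0 G hG ht
  have himg : {H : Matrix.SpecialLinearGroup (Fin 2) F | IsConj (twist n hn0 G) H} =
      (twist n hn0) '' {H : Matrix.SpecialLinearGroup (Fin 2) F | IsConj G H} := by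
    ext H
    constructor
    · intro hH
      have hH' : IsConj (twist n hn0 G) H := hH
      have htrH : tr2 H = tr2 G := by rw [tr2_of_isConj hH', tr2_twist]
      have hHs : ¬ IsScalarMat (H : Matrix (Fin 2) (Fin 2) F) := not_scalar_of_isConj hH' hG'
      have hninv : n⁻¹ ≠ 0 := inv_ne_zero hn0
      have hback : twist n hn0 (twist n⁻¹ hninv H) = H := by
        apply Subtype.ext
        rw [twist_coe, twist_coe]
        ext i j
        fin_cases i <;> fin_cases j <;> simp [hn0]
      refine ⟨twist n⁻¹ hninv H, ?_, hback⟩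
      have hK : ¬ IsScalarMat ((twist n⁻¹ hninv H : Matrix.SpecialLinearGroup (Fin 2) F) :
          Matrix (Fin 2) (Fin 2) F) := twist_not_scalar _ _ H hHs
      have htrK : tr2 (twist n⁻¹ hninv H) = tr2 G := by rw [tr2_twist, htrH]
      have hchiK : Chi G ↔ Chi (twist n⁻¹ hninv H) := by
        have e1 := chi_twist hodd n hn hn0 (twist n⁻¹ hninv H) hK (by rw [htrK]; exact ht)
        rw [hback] at e1
        have e2 := chi_iff_of_isConj hH'
        rw [hchiG'] at e2
        rw [e1] at e2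
        exact not_iff_not.mp e2
      exact conj_of_chi hodd G _ hG hK htrK.symm ht hchiK
    · rintro ⟨K, hK, rfl⟩
      exact MonoidHom.map_isConj (twist n hn0) hK
  have hcard : Set.ncard {H : Matrix.SpecialLinearGroup (Fin 2) F | IsConj (twist n hn0 G) H} =
      Set.ncard {H : Matrix.SpecialLinearGroup (Fin 2) F | IsConj G H} := by
    rw [himg, Set.ncard_image_of_injective _ (twist_injective n hn0)]
  have hdisj : Disjoint {H : Matrix.SpecialLinearGroup (Fin 2) F | IsConj G H}
      {H : Matrix.SpecialLinearGroup (Fin 2) F | IsConj (twist n hn0 G) H} := by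
    rw [Set.disjoint_left]
    intro H h1 h3
    have h1' : IsConj G H := h1
    have h3' : IsConj (twist n hn0 G) H := h3
    have e1 := chi_iff_of_isConj (h1'.trans h3'.symm)
    rw [hchiG'] at e1
    by_cases hc : Chi G
    · exact (e1.mp hc) hc
    · exact hc (e1.mpr hc)
  let E : Matrix.SpecialLinearGroup (Fin 2) F := uni e 0 he
  have hE : IsScalarMat (E : Matrix (Fin 2) (Fin 2) F) := by
    rw [isScalarMat_iff, uni_coe]
    simp
  have hunion : {H : Matrix.SpecialLinearGroup (Fin 2) F | IsConj G H} ∪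
      {H : Matrix.SpecialLinearGroup (Fin 2) F | IsConj (twist n hn0 G) H} =
      {H : Matrix.SpecialLinearGroup (Fin 2) F |
        (H : Matrix (Fin 2) (Fin 2) F) 0 0 + (H : Matrix (Fin 2) (Fin 2) F) 1 1 = tr2 G} \ {E} := by
    ext H
    constructor
    · rintro (h1 | h1)
      · have h1' : IsConj G H := h1
        refine ⟨tr2_of_isConj h1', ?_⟩
        intro hHE
        rw [Set.mem_singleton_iff] at hHE
        exact not_scalar_of_isConj h1' hG (hHE ▸ hE)
      · have h1' : IsConj (twist n hn0 G) H := h1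
        refine ⟨by rw [← tr2_twist n hn0 G]; exact tr2_of_isConj h1', ?_⟩
        intro hHE
        rw [Set.mem_singleton_iff] at hHE
        exact not_scalar_of_isConj h1' hG' (hHE ▸ hE)
    · rintro ⟨h1, h3⟩
      have h1' : tr2 H = tr2 G := h1
      have hHs : ¬ IsScalarMat (H : Matrix (Fin 2) (Fin 2) F) := by
        intro hs
        apply h3
        rw [Set.mem_singleton_iff]
        have htE : tr2 E = 2 * e := tr2_uni e 0 he
        rcases scalar_cases H hs with h4 | h4 <;> rcases scalar_cases E hE with h5 | h5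
        · rw [h4, h5]
        · exfalso
          rw [h4, tr2_one, hte] at h1'
          rw [h5, tr2_negOne] at htE
          apply h2
          have h6 : (2 : F) * 2 = 0 := by linear_combination h1' - htE
          exact mul_self_eq_zero.mp h6
        · exfalso
          rw [h4, tr2_negOne, hte] at h1'
          rw [h5, tr2_one] at htE
          apply h2
          have h6 : (2 : F) * 2 = 0 := by linear_combination htE - h1'
          exact mul_self_eq_zero.mp h6
        · rw [h4, h5]
      by_cases hc : Chi H ↔ Chi G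
      · left
        exact conj_of_chi hodd G H hG hHs h1'.symm ht hc.symm
      · right
        have hc' : Chi (twist n hn0 G) ↔ Chi H := by
          rw [hchiG']
          constructor
          · intro h5
            by_contra h6
            exact hc ⟨fun h7 => absurd h7 h6, fun h7 => absurd h7 h5⟩
          · intro h5 h6
            exact hc ⟨fun _ => h6, fun _ => h5⟩
        exact conj_of_chi hodd _ H hG' hHs (by rw [tr2_twist, h1']) (by rw [tr2_twist]; exact ht) hc'
  have hEmem : E ∈ {H : Matrix.SpecialLinearGroup (Fin 2) F |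
      (H : Matrix (Fin 2) (Fin 2) F) 0 0 + (H : Matrix (Fin 2) (Fin 2) F) 1 1 = tr2 G} := by
    show tr2 E = tr2 G
    rw [hte]
    exact tr2_uni e 0 he
  have hfin : ∀ s : Set (Matrix.SpecialLinearGroup (Fin 2) F), s.Finite := fun s => Set.toFinite s
  have hsum := Set.ncard_union_eq hdisj (hfin _) (hfin _)
  rw [hunion, Set.ncard_sdiff_singleton_of_mem hEmem, hcard, ← Nat.card_coe_set_eq] at hsum
  have hct := card_trace_eq (tr2 G)
  rw [hte, roots_unip e he] at hct
  have hct' : Nat.card ↑{H : Matrix.SpecialLinearGroup (Fin 2) F |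
      (H : Matrix (Fin 2) (Fin 2) F) 0 0 + (H : Matrix (Fin 2) (Fin 2) F) 1 1 = tr2 G} =
      1 * Fintype.card F + Fintype.card F * (Fintype.card F - 1) := by
    rw [hte]
    exact hct
  rw [hct'] at hsum
  rw [two_mul, ← hsum]
  have hq : 1 ≤ Fintype.card F := Fintype.card_pos
  obtain ⟨m, hm⟩ : ∃ m, Fintype.card F = m + 1 := ⟨Fintype.card F - 1, by omega⟩
  rw [hm]
  simp only [Nat.add_sub_cancel]
  congr 1
  ring

end Cfsg.Agent.Lib.Helper14.SL2Odd2
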