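import Mathlib
import Cfsg.Agent.Lib.Helper14.PSL2
import Cfsg.Agent.S2507
import Cfsg.Agent.S2508

set_option linter.unusedVariables false

namespace Cfsg.Agent.Lib.Helper14.OddGr

open Cfsg.Agent.Lib.Helper14.GL2Conj Cfsg.Agent.Lib.Helper14.SL2Odd Cfsg.Agent.Lib.Helper14.PSL2

variable {F : Type*} [Field F]

def mk4 (a b c d : F) (h : a * d - b * c = 1) : Matrix.SpecialLinearGroup (Fin 2) F :=
  ⟨!![a, b; c, d], by rw [Matrix.det_fin_two_of]; exact h⟩

theorem mk4_coe (a b c d : F) (h : a * d - b * c = 1) :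
    ((mk4 a b c d h : Matrix.SpecialLinearGroup (Fin 2) F) : Matrix (Fin 2) (Fin 2) F) =
      !![a, b; c, d] := rfl

theorem mk4_00 (a b c d : F) (h : a * d - b * c = 1) :
    ((mk4 a b c d h : Matrix.SpecialLinearGroup (Fin 2) F) : Matrix (Fin 2) (Fin 2) F) 0 0 = a := by
  simp [mk4_coe]

theorem mk4_01 (a b c d : F) (h : a * d - b * c = 1) :
    ((mk4 a b c d h : Matrix.SpecialLinearGroup (Fin 2) F) : Matrix (Fin 2) (Fin 2) F) 0 1 = b := by
  simp [mk4_coe]

theorem mk4_10 (a b c d : F) (h : a * d - b * c = 1) :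
    ((mk4 a b c d h : Matrix.SpecialLinearGroup (Fin 2) F) : Matrix (Fin 2) (Fin 2) F) 1 0 = c := by
  simp [mk4_coe]

theorem mk4_11 (a b c d : F) (h : a * d - b * c = 1) :
    ((mk4 a b c d h : Matrix.SpecialLinearGroup (Fin 2) F) : Matrix (Fin 2) (Fin 2) F) 1 1 = d := by
  simp [mk4_coe]

theorem tr2_mul (A B : Matrix.SpecialLinearGroup (Fin 2) F) :
    tr2 (A * B) = (A : Matrix (Fin 2) (Fin 2) F) 0 0 * (B : Matrix (Fin 2) (Fin 2) F) 0 0
      + (A : Matrix (Fin 2) (Fin 2) F) 0 1 * (B : Matrix (Fin 2) (Fin 2) F) 1 0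
      + (A : Matrix (Fin 2) (Fin 2) F) 1 0 * (B : Matrix (Fin 2) (Fin 2) F) 0 1
      + (A : Matrix (Fin 2) (Fin 2) F) 1 1 * (B : Matrix (Fin 2) (Fin 2) F) 1 1 := by
  unfold tr2
  rw [Matrix.SpecialLinearGroup.coe_mul]
  simp only [Matrix.mul_apply, Fin.sum_univ_two]
  ring

theorem tr2_mul_comm (A B : Matrix.SpecialLinearGroup (Fin 2) F) : tr2 (A * B) = tr2 (B * A) := by
  rw [tr2_mul, tr2_mul]
  ring

theorem det4 (A : Matrix.SpecialLinearGroup (Fin 2) F) :
    (A : Matrix (Fin 2) (Fin 2) F) 0 0 * (A : Matrix (Fin 2) (Fin 2) F) 1 1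
      - (A : Matrix (Fin 2) (Fin 2) F) 0 1 * (A : Matrix (Fin 2) (Fin 2) F) 1 0 = 1 := by
  have hd := A.det_coe
  rw [Matrix.det_fin_two] at hd
  exact hd

theorem trace_zero_of_sq_scalar (I : Matrix.SpecialLinearGroup (Fin 2) F)
    (hI : ¬ IsScalarMat (I : Matrix (Fin 2) (Fin 2) F))
    (hI2 : IsScalarMat ((I * I : Matrix.SpecialLinearGroup (Fin 2) F) : Matrix (Fin 2) (Fin 2) F)) :
    tr2 I = 0 := by
  by_contra ht
  apply hI
  have h1 := cayley I
  obtain ⟨s, hs⟩ := hI2
  rw [Matrix.SpecialLinearGroup.coe_mul] at hs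
  rw [hs] at h1
  refine ⟨(tr2 I)⁻¹ * (s + 1), ?_⟩
  have h3 : tr2 I • (I : Matrix (Fin 2) (Fin 2) F) = (s + 1) • (1 : Matrix (Fin 2) (Fin 2) F) := by
    rw [add_smul, one_smul, h1, sub_add_cancel]
  rw [← smul_smul, ← h3, smul_smul, inv_mul_cancel₀ ht, one_smul]

theorem exists_comm_of_not_odd [Fintype F] (M : Matrix.SpecialLinearGroup (Fin 2) F)
    (h : ¬ Odd (orderOf (QuotientGroup.mk M : Matrix.ProjectiveSpecialLinearGroup (Fin 2) F))) :
    ∃ I : Matrix.SpecialLinearGroup (Fin 2) F, tr2 I = 0 ∧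
      ¬ IsScalarMat (I : Matrix (Fin 2) (Fin 2) F) ∧ I * M = M * I := by
  classical
  have hfin : Finite (Matrix.ProjectiveSpecialLinearGroup (Fin 2) F) := by
    unfold Matrix.ProjectiveSpecialLinearGroup
    infer_instance
  have hpos : 0 < orderOf (QuotientGroup.mk M : Matrix.ProjectiveSpecialLinearGroup (Fin 2) F) :=
    orderOf_pos _
  rw [Nat.not_odd_iff_even] at h
  obtain ⟨j, hj⟩ := h
  have hj0 : j ≠ 0 := by omega
  have hjlt : j < orderOf (QuotientGroup.mk M : Matrix.ProjectiveSpecialLinearGroup (Fin 2) F) := by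
    omega
  have hns : ¬ IsScalarMat ((M ^ j : Matrix.SpecialLinearGroup (Fin 2) F) : Matrix (Fin 2) (Fin 2) F) := by
    rw [← mk_eq_one_iff, QuotientGroup.mk_pow]
    exact pow_ne_one_of_lt_orderOf hj0 hjlt
  have hs : IsScalarMat ((M ^ j * M ^ j : Matrix.SpecialLinearGroup (Fin 2) F) :
      Matrix (Fin 2) (Fin 2) F) := by
    rw [← mk_eq_one_iff, ← pow_add, QuotientGroup.mk_pow, ← hj]
    exact pow_orderOf_eq_one _
  exact ⟨M ^ j, trace_zero_of_sq_scalar _ hns hs, hns, (Commute.pow_self M j).eq⟩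

theorem trace_form_of_comm (I M : Matrix.SpecialLinearGroup (Fin 2) F) (hI0 : tr2 I = 0)
    (hI : ¬ IsScalarMat (I : Matrix (Fin 2) (Fin 2) F)) (hc : I * M = M * I) :
    ∃ β : F, tr2 M ^ 2 - 4 = -4 * β ^ 2 ∧
      (β = 0 → IsScalarMat (M : Matrix (Fin 2) (Fin 2) F)) := by
  have hdI := det4 I
  have hdM := det4 M
  have hcm : (I : Matrix (Fin 2) (Fin 2) F) * (M : Matrix (Fin 2) (Fin 2) F) =
      (M : Matrix (Fin 2) (Fin 2) F) * (I : Matrix (Fin 2) (Fin 2) F) := by
    rw [← Matrix.SpecialLinearGroup.coe_mul, hc, Matrix.SpecialLinearGroup.coe_mul]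
  have e00 := congrFun (congrFun hcm 0) 0
  have e01 := congrFun (congrFun hcm 0) 1
  have e10 := congrFun (congrFun hcm 1) 0
  simp only [Matrix.mul_apply, Fin.sum_univ_two] at e00 e01 e10
  unfold tr2 at hI0 ⊢
  simp only [isScalarMat_iff] at hI ⊢
  generalize (I : Matrix (Fin 2) (Fin 2) F) 0 0 = a at *
  generalize (I : Matrix (Fin 2) (Fin 2) F) 0 1 = b at *
  generalize (I : Matrix (Fin 2) (Fin 2) F) 1 0 = c at *
  generalize (I : Matrix (Fin 2) (Fin 2) F) 1 1 = d at *
  generalize (M : Matrix (Fin 2) (Fin 2) F) 0 0 = m1 at *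
  generalize (M : Matrix (Fin 2) (Fin 2) F) 0 1 = m2 at *
  generalize (M : Matrix (Fin 2) (Fin 2) F) 1 0 = m3 at *
  generalize (M : Matrix (Fin 2) (Fin 2) F) 1 1 = m4 at *
  have hd : d = -a := by linear_combination hI0
  subst hd
  have key : ∃ β : F, m1 - m4 = 2 * a * β ∧ m2 = β * b ∧ m3 = β * c := by
    by_cases hb : b = 0
    · by_cases hc0 : c = 0
      · have ha2 : 2 * a ≠ 0 := by
          intro h
          apply hI
          refine ⟨hb, hc0, ?_⟩
          linear_combination h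
        have hm2 : m2 = 0 := by
          have : (2 * a) * m2 = 0 := by
            rw [hb] at e01
            linear_combination e01
          rcases mul_eq_zero.mp this with h | h
          · exact absurd h ha2
          · exact h
        have hm3 : m3 = 0 := by
          have : (2 * a) * m3 = 0 := by
            rw [hc0] at e10
            linear_combination -e10
          rcases mul_eq_zero.mp this with h | h
          · exact absurd h ha2
          · exact h
        refine ⟨(m1 - m4) / (2 * a), ?_, ?_, ?_⟩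
        · rw [mul_div_assoc', mul_div_cancel_left₀ _ ha2]
        · rw [hm2, hb, mul_zero]
        · rw [hm3, hc0, mul_zero]
      · have h3 : m3 = m3 / c * c := by field_simp
        refine ⟨m3 / c, ?_, ?_, h3⟩
        · apply mul_left_cancel₀ hc0
          rw [hb] at e00
          field_simp
          linear_combination e10
        · rw [hb, mul_zero]
          have : m2 * c = 0 := by
            rw [hb] at e00
            linear_combination -e00
          rcases mul_eq_zero.mp this with h | h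
          · exact h
          · exact absurd h hc0
    · have h2 : m2 = m2 / b * b := by field_simp
      refine ⟨m2 / b, ?_, h2, ?_⟩
      · apply mul_left_cancel₀ hb
        field_simp
        linear_combination -e01
      · apply mul_left_cancel₀ hb
        field_simp
        linear_combination e00
  obtain ⟨β, h1, h2, h3⟩ := key
  refine ⟨β, ?_, ?_⟩
  · grind
  · intro hβ
    rw [hβ] at h1 h2 h3
    refine ⟨by rw [h2, zero_mul], by rw [h3, zero_mul], ?_⟩
    linear_combination h1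

def Good (M : Matrix.SpecialLinearGroup (Fin 2) F) : Prop :=
  ¬ IsScalarMat (M : Matrix (Fin 2) (Fin 2) F) ∧ ∀ β : F, tr2 M ^ 2 - 4 = -4 * β ^ 2 → β = 0

theorem odd_of_good [Fintype F] (M : Matrix.SpecialLinearGroup (Fin 2) F) (hM : Good M) :
    Odd (orderOf (QuotientGroup.mk M : Matrix.ProjectiveSpecialLinearGroup (Fin 2) F)) := by
  by_contra h
  obtain ⟨I, hI0, hI, hc⟩ := exists_comm_of_not_odd M h
  obtain ⟨β, hβ, hβ0⟩ := trace_form_of_comm I M hI0 hI hc
  exact hM.1 (hβ0 (hM.2 β hβ))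

theorem conj_of_trace_zero [Fintype F] (g h : Matrix.SpecialLinearGroup (Fin 2) F)
    (hg0 : tr2 g = 0) (hh0 : tr2 h = 0)
    (hg : ¬ IsScalarMat (g : Matrix (Fin 2) (Fin 2) F))
    (hh : ¬ IsScalarMat (h : Matrix (Fin 2) (Fin 2) F)) : IsConj g h := by
  by_cases hodd : Fintype.card F % 2 = 1
  · refine conj_of_trace hodd g h hg hh (by rw [hg0, hh0]) ?_
    rw [hg0]
    have h2 := two_ne_zero_of_odd hodd
    intro h4
    apply h2
    have h5 : (2 : F) * 2 = 0 := by linear_combination -h4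
    exact mul_self_eq_zero.mp h5
  · have h2 : 2 ∣ Fintype.card F := by omega
    have hch : CharP F 2 := Cfsg.Agent.S2507.charTwo_of_dvd h2
    have hg1 : g ≠ 1 := fun e => hg (e ▸ isScalarMat_one)
    have hh1 : h ≠ 1 := fun e => hh (e ▸ isScalarMat_one)
    rw [Cfsg.Agent.S2507.conj_iff g h hg1]
    exact ⟨hh1, hh0.trans hg0.symm⟩

theorem comb (A B : Matrix.SpecialLinearGroup (Fin 2) F) (hA : tr2 A = 0) (hB : tr2 B = 0)
    (α β γ : F)
    (h : α ^ 2 + β ^ 2 - α * β * tr2 (A * B) + γ ^ 2 * (4 - tr2 (A * B) ^ 2) = 1) :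
    ∃ C : Matrix.SpecialLinearGroup (Fin 2) F, tr2 C = 0 ∧
      tr2 (A * C) = -2 * α + β * tr2 (A * B) ∧ tr2 (C * B) = α * tr2 (A * B) - 2 * β := by
  have hdA := det4 A
  have hdB := det4 B
  simp only [tr2_mul] at h ⊢
  unfold tr2 at hA hB
  generalize (A : Matrix (Fin 2) (Fin 2) F) 0 0 = a at *
  generalize (A : Matrix (Fin 2) (Fin 2) F) 0 1 = b at *
  generalize (A : Matrix (Fin 2) (Fin 2) F) 1 0 = c at *
  generalize (A : Matrix (Fin 2) (Fin 2) F) 1 1 = d at *
  generalize (B : Matrix (Fin 2) (Fin 2) F) 0 0 = e at *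
  generalize (B : Matrix (Fin 2) (Fin 2) F) 0 1 = f at *
  generalize (B : Matrix (Fin 2) (Fin 2) F) 1 0 = g at *
  generalize (B : Matrix (Fin 2) (Fin 2) F) 1 1 = d' at *
  have hd : d = -a := by linear_combination hA
  have hd' : d' = -e := by linear_combination hB
  subst hd hd'
  refine ⟨mk4 (α * a + β * e + γ * (b * g - c * f)) (α * b + β * f + 2 * γ * (a * f - b * e))
    (α * c + β * g + 2 * γ * (c * e - a * g)) (-(α * a + β * e + γ * (b * g - c * f))) ?_, ?_, ?_, ?_⟩
  · grind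
  · unfold tr2
    rw [mk4_00, mk4_11]
    ring
  · rw [mk4_00, mk4_01, mk4_10, mk4_11]
    grind
  · rw [mk4_00, mk4_01, mk4_10, mk4_11]
    grind

theorem sum_sq_zero (hi : ¬ IsSquare (-1 : F)) (x y : F) (h : x * x + y * y = 0) : y = 0 := by
  by_contra hy
  apply hi
  refine ⟨x / y, ?_⟩
  field_simp
  linear_combination -h

theorem sq_or_neg_sq [Fintype F] (hm1 : ¬ IsSquare (-1 : F)) (a : F) :
    IsSquare a ∨ IsSquare (-a) := by
  classical
  by_cases ha : IsSquare a
  · exact Or.inl ha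
  · right
    have h1 := quadraticChar_neg_one_iff_not_isSquare.mpr ha
    have h2 := quadraticChar_neg_one_iff_not_isSquare.mpr hm1
    have ha0 : -a ≠ 0 := by
      intro h0
      apply ha
      rw [neg_eq_zero] at h0
      rw [h0]
      exact ⟨0, by simp⟩
    rw [← quadraticChar_one_iff_isSquare ha0]
    have e : -a = (-1) * a := by ring
    rw [e, map_mul, h1, h2]
    norm_num

end Cfsg.Agent.Lib.Helper14.OddGr
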