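import Mathlib
import Cfsg.Agent.Lib.Helper14.OddGr1

set_option linter.unusedVariables false

namespace Cfsg.Agent.Lib.Helper14.OddGr

open Cfsg.Agent.Lib.Helper14.GL2Conj Cfsg.Agent.Lib.Helper14.SL2Odd Cfsg.Agent.Lib.Helper14.PSL2

variable {F : Type*} [Field F]

def psi1 (r : Fˣ) : F := ((r : F) + ((r⁻¹ : Fˣ) : F)) / 2

def psi2 (r : Fˣ) : F := ((r : F) - ((r⁻¹ : Fˣ) : F)) / 2

theorem pigeon [Fintype F] (hm1 : ¬ IsSquare (-1 : F)) (h2 : (2 : F) ≠ 0) (c₀ κ : F) (hκ : κ ≠ 0) :
    ∃ x y k : F, x ^ 2 + y ^ 2 = -1 ∧ (c₀ + κ * y) ^ 2 - 1 = k ^ 2 := by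
  classical
  by_contra hne
  push Not at hne
  have hq : Fintype.card Fˣ = Fintype.card F - 1 := Fintype.card_units F
  have hq1 : 1 ≤ Fintype.card F := Fintype.card_pos
  have h1neg : (1 : F) ≠ -1 := by
    intro h
    apply h2
    linear_combination h
  -- bound for the image of psi2
  have hY : 2 * (Finset.univ.image (psi2 (F := F))).card ≤ Fintype.card F - 1 := by
    rw [← hq, ← Finset.card_univ]
    apply Finset.mul_card_image_le_card
    intro v hv
    obtain ⟨r, -, rfl⟩ := Finset.mem_image.mp hv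
    have h3 : 1 < (Finset.univ.filter (fun a : Fˣ => psi2 a = psi2 r)).card := by
      rw [Finset.one_lt_card]
      refine ⟨r, by simp, -r⁻¹, ?_, ?_⟩
      · simp only [Finset.mem_filter, Finset.mem_univ, true_and]
        unfold psi2
        simp only [inv_neg, inv_inv, Units.val_neg]
        ring
      · intro h
        apply hm1
        refine ⟨(r : F), ?_⟩
        have h' : (r : F) = -((r⁻¹ : Fˣ) : F) := by
          have := congrArg (fun u : Fˣ => (u : F)) h
          simpa using this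
        have h3 : (r : F) * ((r⁻¹ : Fˣ) : F) = 1 := by simp
        calc (-1 : F) = -((r : F) * ((r⁻¹ : Fˣ) : F)) := by rw [h3]
          _ = (r : F) * (-((r⁻¹ : Fˣ) : F)) := by ring
          _ = (r : F) * (r : F) := by rw [← h']
    exact h3
  -- bound for the image of psi1
  have hU' : Fintype.card F - 1 ≤ ((Finset.univ : Finset Fˣ) \ {1, -1}).card + 2 := by
    have h1 := Finset.card_le_card_sdiff_add_card (s := (Finset.univ : Finset Fˣ)) (t := {1, -1})
    have h3 : ({1, -1} : Finset Fˣ).card ≤ 2 := Finset.card_le_two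
    rw [Finset.card_univ, hq] at h1
    omega
  have hfib : ((Finset.univ : Finset Fˣ) \ {1, -1}).card ≤
      2 * (((Finset.univ : Finset Fˣ) \ {1, -1}).image (psi1 (F := F))).card := by
    apply Finset.card_le_mul_card_image
    intro v hv
    obtain ⟨r, hr, rfl⟩ := Finset.mem_image.mp hv
    have hsub : ((Finset.univ : Finset Fˣ) \ {1, -1}).filter (fun a => psi1 a = psi1 r) ⊆
        {r, r⁻¹} := by
      intro a ha
      rw [Finset.mem_filter] at ha
      have h1 := ha.2
      unfold psi1 at h1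
      have h1' : (a : F) + ((a⁻¹ : Fˣ) : F) = (r : F) + ((r⁻¹ : Fˣ) : F) := by
        rw [div_left_inj' h2] at h1
        exact h1
      have ha1 : (a : F) * ((a⁻¹ : Fˣ) : F) = 1 := by simp
      have hr1 : (r : F) * ((r⁻¹ : Fˣ) : F) = 1 := by simp
      have h5 : ((a : F) - (r : F)) * ((a : F) - ((r⁻¹ : Fˣ) : F)) = 0 := by
        linear_combination (a : F) * h1' - ha1 + hr1
      rw [Finset.mem_insert, Finset.mem_singleton]
      rcases mul_eq_zero.mp h5 with h | h
      · left; exact Units.ext (sub_eq_zero.mp h)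
      · right; exact Units.ext (sub_eq_zero.mp h)
    exact (Finset.card_le_card hsub).trans Finset.card_le_two
  have hP1 : (1 : F) ∉ ((Finset.univ : Finset Fˣ) \ {1, -1}).image (psi1 (F := F)) := by
    intro h
    obtain ⟨r, hr, h1⟩ := Finset.mem_image.mp h
    unfold psi1 at h1
    have hr1 : (r : F) * ((r⁻¹ : Fˣ) : F) = 1 := by simp
    have h3 : (r : F) + ((r⁻¹ : Fˣ) : F) = 2 := by
      rw [div_eq_iff h2] at h1
      rw [h1]
      ring
    have h4 : ((r : F) - 1) * ((r : F) - 1) = 0 := by linear_combination (r : F) * h3 - hr1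
    have h5 : r = 1 := Units.ext (by simpa using sub_eq_zero.mp (mul_self_eq_zero.mp h4))
    rw [h5] at hr
    simp at hr
  have hPm1 : (-1 : F) ∉ ((Finset.univ : Finset Fˣ) \ {1, -1}).image (psi1 (F := F)) := by
    intro h
    obtain ⟨r, hr, h1⟩ := Finset.mem_image.mp h
    unfold psi1 at h1
    have hr1 : (r : F) * ((r⁻¹ : Fˣ) : F) = 1 := by simp
    have h3 : (r : F) + ((r⁻¹ : Fˣ) : F) = -2 := by
      rw [div_eq_iff h2] at h1
      rw [h1]
      ring
    have h4 : ((r : F) + 1) * ((r : F) + 1) = 0 := by linear_combination (r : F) * h3 - hr1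
    have h5 : r = -1 := Units.ext (by
      have := mul_self_eq_zero.mp h4
      rw [Units.val_neg, Units.val_one]
      linear_combination this)
    rw [h5] at hr
    simp at hr
  have hPsq : ∀ t ∈ insert (1 : F) (insert (-1)
      (((Finset.univ : Finset Fˣ) \ {1, -1}).image (psi1 (F := F)))), ∃ k : F, t ^ 2 - 1 = k ^ 2 := by
    intro t ht
    rw [Finset.mem_insert, Finset.mem_insert] at ht
    rcases ht with rfl | rfl | ht
    · exact ⟨0, by ring⟩
    · exact ⟨0, by ring⟩
    · obtain ⟨r, -, rfl⟩ := Finset.mem_image.mp ht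
      refine ⟨psi2 r, ?_⟩
      unfold psi1 psi2
      have hr1 : (r : F) * ((r⁻¹ : Fˣ) : F) = 1 := by simp
      field_simp
      linear_combination 4 * hr1
  have hPcard : (insert (1 : F) (insert (-1)
      (((Finset.univ : Finset Fˣ) \ {1, -1}).image (psi1 (F := F))))).card =
      (((Finset.univ : Finset Fˣ) \ {1, -1}).image (psi1 (F := F))).card + 2 := by
    rw [Finset.card_insert_of_notMem, Finset.card_insert_of_notMem hPm1]
    rw [Finset.mem_insert]
    push Not
    exact ⟨h1neg, hP1⟩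
  have hYc : ∀ y z : F, 1 + y ^ 2 = z ^ 2 → y ∈ Finset.univ.image (psi2 (F := F)) := by
    intro y z hz
    have hu : (z + y) * (z - y) = 1 := by linear_combination -hz
    rw [Finset.mem_image]
    refine ⟨⟨z + y, z - y, hu, by rw [mul_comm]; exact hu⟩, Finset.mem_univ _, ?_⟩
    show ((z + y) - (z - y)) / 2 = y
    field_simp
    ring
  have hcover : ∀ y : F, y ∈ Finset.univ.image (psi2 (F := F)) ∨
      (c₀ + κ * y) ∉ insert (1 : F) (insert (-1)
      (((Finset.univ : Finset Fˣ) \ {1, -1}).image (psi1 (F := F)))) := by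
    intro y
    by_cases hy : y ∈ Finset.univ.image (psi2 (F := F))
    · exact Or.inl hy
    · right
      intro ht
      obtain ⟨k, hk⟩ := hPsq _ ht
      have hns : ¬ IsSquare (1 + y ^ 2) := by
        rintro ⟨z, hz⟩
        exact hy (hYc y z (by rw [hz]; ring))
      rcases sq_or_neg_sq hm1 (1 + y ^ 2) with h | ⟨x, hx⟩
      · exact hns h
      · exact hne x y k (by linear_combination -hx) hk
  have hS : (Finset.univ.filter (fun y : F => c₀ + κ * y ∉ insert (1 : F) (insert (-1)
      (((Finset.univ : Finset Fˣ) \ {1, -1}).image (psi1 (F := F)))))).card ≤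
      Fintype.card F - (insert (1 : F) (insert (-1)
      (((Finset.univ : Finset Fˣ) \ {1, -1}).image (psi1 (F := F))))).card := by
    rw [← Finset.card_compl]
    apply Finset.card_le_card_of_injOn (fun y => c₀ + κ * y)
    · intro y hy
      exact Finset.mem_coe.mpr (Finset.mem_compl.mpr (Finset.mem_filter.mp (Finset.mem_coe.mp hy)).2)
    · intro y _ y' _ h
      exact mul_left_cancel₀ hκ (add_left_cancel h)
  have huniv : Fintype.card F ≤ (Finset.univ.image (psi2 (F := F))).card +
      (Finset.univ.filter (fun y : F => c₀ + κ * y ∉ insert (1 : F) (insert (-1)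
      (((Finset.univ : Finset Fˣ) \ {1, -1}).image (psi1 (F := F)))))).card := by
    rw [← Finset.card_univ]
    refine (Finset.card_le_card ?_).trans (Finset.card_union_le _ _)
    intro y _
    rw [Finset.mem_union]
    rcases hcover y with h | h
    · exact Or.inl h
    · right
      rw [Finset.mem_filter]
      exact ⟨Finset.mem_univ _, h⟩
  have hPle := Finset.card_le_univ (insert (1 : F) (insert (-1)
      (((Finset.univ : Finset Fˣ) \ {1, -1}).image (psi1 (F := F)))))
  omega

theorem graph_aux {V : Type*} (G : SimpleGraph V)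
    (h1 : ∀ u v : V, u ≠ v → G.Adj u v ∨ ∃ w, G.Adj u w ∧ G.Adj w v)
    (h2 : ∃ u v : V, u ≠ v ∧ ¬ G.Adj u v) : G.Connected ∧ G.diam = 2 := by
  obtain ⟨u₀, v₀, hne, hnadj⟩ := h2
  have hle : ∀ u v, G.edist u v ≤ 2 := by
    intro u v
    by_cases huv : u = v
    · subst huv
      simp
    · rcases h1 u v huv with h | ⟨w, h, h'⟩
      · have := (SimpleGraph.edist_eq_one_iff_adj).mpr h
        rw [this]
        norm_num
      · have := SimpleGraph.edist_le
          (SimpleGraph.Walk.cons h (SimpleGraph.Walk.cons h' SimpleGraph.Walk.nil))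
        simpa using this
  have hd : G.ediam = 2 := by
    apply le_antisymm (SimpleGraph.ediam_le_of_edist_le hle)
    have h3 : ¬ G.edist u₀ v₀ ≤ 1 := by
      rw [SimpleGraph.edist_le_one_iff_adj_or_eq]
      push Not
      exact ⟨hnadj, hne⟩
    have h4 : (2 : ℕ∞) ≤ G.edist u₀ v₀ := by
      rw [not_le] at h3
      have := Order.add_one_le_of_lt h3
      simpa [one_add_one_eq_two] using this
    exact h4.trans SimpleGraph.edist_le_ediam
  have hconn : G.Connected := by
    have : Nonempty V := ⟨u₀⟩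
    apply SimpleGraph.connected_of_ediam_ne_top
    rw [hd]
    exact ENat.natCast_ne_top 2
  refine ⟨hconn, ?_⟩
  unfold SimpleGraph.diam
  rw [hd]
  rfl

theorem par_left (A B C : Matrix.SpecialLinearGroup (Fin 2) F) (hA : tr2 A = 0)
    (hs : IsScalarMat ((A * C : Matrix.SpecialLinearGroup (Fin 2) F) : Matrix (Fin 2) (Fin 2) F)) :
    tr2 (C * B) = tr2 (A * B) ∨ tr2 (C * B) = - tr2 (A * B) := by
  have hAA := sq_eq_negOne_of_trace_zero A hA
  have hC0 : C = (negOne * A) * (A * C) := by
    calc C = (negOne * negOne) * C := by rw [Cfsg.Agent.S2508.negOne_sq, one_mul]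
      _ = (negOne * (A * A)) * C := by rw [hAA]
      _ = (negOne * A) * (A * C) := by simp only [mul_assoc]
  rcases scalar_cases _ hs with h | h
  · right
    rw [h, mul_one] at hC0
    rw [hC0, mul_assoc, tr2_negOne_mul]
  · left
    rw [h, Cfsg.Agent.S2508.negOne_comm A, mul_assoc, Cfsg.Agent.S2508.negOne_sq, mul_one] at hC0
    rw [hC0]

theorem par_right (A B C : Matrix.SpecialLinearGroup (Fin 2) F) (hB : tr2 B = 0)
    (hs : IsScalarMat ((C * B : Matrix.SpecialLinearGroup (Fin 2) F) : Matrix (Fin 2) (Fin 2) F)) :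
    tr2 (A * C) = tr2 (A * B) ∨ tr2 (A * C) = - tr2 (A * B) := by
  have hBB := sq_eq_negOne_of_trace_zero B hB
  have hC0 : C = (C * B) * (B * negOne) := by
    calc C = C * (negOne * negOne) := by rw [Cfsg.Agent.S2508.negOne_sq, mul_one]
      _ = C * ((B * B) * negOne) := by rw [hBB]
      _ = (C * B) * (B * negOne) := by simp only [mul_assoc]
  rcases scalar_cases _ hs with h | h
  · right
    rw [h, one_mul] at hC0
    rw [hC0, ← mul_assoc, ← Cfsg.Agent.S2508.negOne_comm, tr2_negOne_mul]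
  · left
    rw [h, ← Cfsg.Agent.S2508.negOne_comm B, ← mul_assoc, Cfsg.Agent.S2508.negOne_sq, one_mul] at hC0
    rw [hC0]

theorem good_of_char_two (h2 : (2 : F) = 0) (M : Matrix.SpecialLinearGroup (Fin 2) F)
    (hM : tr2 M ≠ 0) : Good M := by
  refine ⟨?_, ?_⟩
  · intro hs
    apply hM
    rcases scalar_cases M hs with h | h
    · rw [h, tr2_one]
      exact h2
    · rw [h, tr2_negOne, h2, neg_zero]
  · intro β hβ
    exfalso
    apply hM
    have h4 : (4 : F) = 0 := by linear_combination 2 * h2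
    have h5 : tr2 M ^ 2 = 0 := by linear_combination hβ + (1 - β ^ 2) * h4
    exact (pow_eq_zero_iff two_ne_zero).mp h5

theorem order_two_of_trace_zero (C : Matrix.SpecialLinearGroup (Fin 2) F) (h0 : tr2 C = 0)
    (hC : ¬ IsScalarMat (C : Matrix (Fin 2) (Fin 2) F)) :
    orderOf (QuotientGroup.mk C : Matrix.ProjectiveSpecialLinearGroup (Fin 2) F) = 2 := by
  apply orderOf_eq_prime
  · rw [pow_two, ← QuotientGroup.mk_mul, sq_eq_negOne_of_trace_zero C h0, mk_negOne]
  · rw [Ne, mk_eq_one_iff]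
    exact hC

theorem trace_zero_of_order_two (A : Matrix.SpecialLinearGroup (Fin 2) F)
    (h : orderOf (QuotientGroup.mk A : Matrix.ProjectiveSpecialLinearGroup (Fin 2) F) = 2) :
    tr2 A = 0 ∧ ¬ IsScalarMat (A : Matrix (Fin 2) (Fin 2) F) := by
  have hA : ¬ IsScalarMat (A : Matrix (Fin 2) (Fin 2) F) := by
    rw [← mk_eq_one_iff]
    intro h1
    rw [h1, orderOf_one] at h
    omega
  refine ⟨trace_zero_of_sq_scalar A hA ?_, hA⟩
  have h5 := pow_orderOf_eq_one (QuotientGroup.mk A : Matrix.ProjectiveSpecialLinearGroup (Fin 2) F)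
  rw [h] at h5
  rw [← mk_eq_one_iff, QuotientGroup.mk_mul, ← pow_two]
  exact h5

theorem alg_II (h2 : (2 : F) ≠ 0) (s Δ u u' g : F) (hΔ : Δ ≠ 0) (hs : 1 - s ^ 2 = Δ)
    (hg : g ^ 2 = (1 - u ^ 2) * Δ - (u' - s * u) ^ 2) :
    ((u - s * u') / Δ) ^ 2 + ((u' - s * u) / Δ) ^ 2
        - (u - s * u') / Δ * ((u' - s * u) / Δ) * (-2 * s)
        + (g / (2 * Δ)) ^ 2 * (4 - (-2 * s) ^ 2) = 1 ∧
      -2 * ((u - s * u') / Δ) + (u' - s * u) / Δ * (-2 * s) = -2 * u ∧
      (u - s * u') / Δ * (-2 * s) - 2 * ((u' - s * u) / Δ) = -2 * u' := by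
  refine ⟨?_, ?_, ?_⟩
  · field_simp
    grind
  · field_simp
    grind
  · field_simp
    grind

end Cfsg.Agent.Lib.Helper14.OddGr
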