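import Mathlib

namespace Cfsg.Agent.Lib.Helper14.SSConj

open Polynomial

universe u v

variable {F : Type u} [Field F] {V : Type v} [AddCommGroup V] [Module F V]

/-- The evaluation map `p ↦ p(φ) v`. -/
noncomputable def evalAt (φ : Module.End F V) (v : V) : F[X] →ₗ[F] V :=
  (LinearMap.applyₗ v) ∘ₗ (Polynomial.aeval φ).toLinearMap

theorem evalAt_apply (φ : Module.End F V) (v : V) (p : F[X]) :
    evalAt φ v p = (Polynomial.aeval φ p) v := rfl

theorem ker_mk_le (φ : Module.End F V) (v : V) (f : F[X]) (hv : (Polynomial.aeval φ f) v = 0) :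
    LinearMap.ker (AdjoinRoot.mkₐ f).toLinearMap ≤ LinearMap.ker (evalAt φ v) := by
  intro p hp
  rw [LinearMap.mem_ker] at hp ⊢
  have hp' : AdjoinRoot.mk f p = 0 := hp
  rw [AdjoinRoot.mk_eq_zero] at hp'
  obtain ⟨r, rfl⟩ := hp'
  rw [evalAt_apply, mul_comm, map_mul, Module.End.mul_apply, hv, map_zero]

/-- The cyclic map `F[X]/(f) → V`, `[p] ↦ p(φ) v`. -/
noncomputable def cyc (φ : Module.End F V) (v : V) (f : F[X]) (hv : (Polynomial.aeval φ f) v = 0) :
    AdjoinRoot f →ₗ[F] V :=
  ((LinearMap.ker (AdjoinRoot.mkₐ f).toLinearMap).liftQ (evalAt φ v) (ker_mk_le φ v f hv)) ∘ₗ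
    ((AdjoinRoot.mkₐ f).toLinearMap.quotKerEquivOfSurjective AdjoinRoot.mk_surjective).symm.toLinearMap

theorem cyc_mk (φ : Module.End F V) (v : V) (f : F[X]) (hv : (Polynomial.aeval φ f) v = 0)
    (p : F[X]) : cyc φ v f hv (AdjoinRoot.mk f p) = (Polynomial.aeval φ p) v := by
  unfold cyc
  have h1 : ((AdjoinRoot.mkₐ f).toLinearMap.quotKerEquivOfSurjective AdjoinRoot.mk_surjective).symm
      (AdjoinRoot.mk f p) = Submodule.Quotient.mk p :=
    LinearMap.quotKerEquivOfSurjective_symm_apply (f := (AdjoinRoot.mkₐ f).toLinearMap)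
      AdjoinRoot.mk_surjective p
  rw [LinearMap.comp_apply, LinearEquiv.coe_coe, h1]
  rfl

theorem cyc_root_mul (φ : Module.End F V) (v : V) (f : F[X]) (hv : (Polynomial.aeval φ f) v = 0)
    (a : AdjoinRoot f) : φ (cyc φ v f hv a) = cyc φ v f hv (AdjoinRoot.root f * a) := by
  obtain ⟨p, rfl⟩ := AdjoinRoot.mk_surjective a
  rw [← AdjoinRoot.mk_X, ← map_mul, cyc_mk, cyc_mk, map_mul, Polynomial.aeval_X,
    Module.End.mul_apply]

theorem cyc_injective (φ : Module.End F V) (v : V) (f : F[X]) (hf : Irreducible f)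
    (hv : (Polynomial.aeval φ f) v = 0) (hv0 : v ≠ 0) : Function.Injective (cyc φ v f hv) := by
  rw [injective_iff_map_eq_zero]
  intro a ha
  obtain ⟨p, rfl⟩ := AdjoinRoot.mk_surjective a
  rw [cyc_mk] at ha
  rw [AdjoinRoot.mk_eq_zero]
  by_contra hnd
  have hcop : IsCoprime f p := (Irreducible.coprime_iff_not_dvd hf).mpr hnd
  obtain ⟨r, s, hrs⟩ := hcop
  apply hv0
  have h1 : (Polynomial.aeval φ (r * f + s * p)) v = v := by
    rw [hrs, map_one, Module.End.one_apply]
  rw [map_add, map_mul, map_mul, LinearMap.add_apply, Module.End.mul_apply, Module.End.mul_apply,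
    hv, ha, map_zero, map_zero, add_zero] at h1
  exact h1.symm


variable [FiniteDimensional F V]

/-- An irreducible factor of the characteristic polynomial has a non-zero kernel vector. -/
theorem exists_ker_of_dvd_charpoly (ψ : Module.End F V) (f : F[X]) (hf : Irreducible f)
    (hd : f ∣ ψ.charpoly) : ∃ w : V, w ≠ 0 ∧ (Polynomial.aeval ψ f) w = 0 := by
  by_contra hcon
  push Not at hcon
  have hinj : LinearMap.ker (Polynomial.aeval ψ f) = ⊥ := by
    rw [Submodule.eq_bot_iff]
    intro w hw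
    by_contra hw0
    exact hcon w hw0 hw
  have hunit : IsUnit (Polynomial.aeval ψ f) := (LinearMap.isUnit_iff_ker_eq_bot _).mpr hinj
  have hfact : Fact (Irreducible f) := ⟨hf⟩
  let K := AdjoinRoot f
  let B : Module.End F V →ₐ[F] Module.End K (TensorProduct F K V) := Module.End.baseChangeHom F K V
  have hunit2 : IsUnit (B (Polynomial.aeval ψ f)) := hunit.map B
  rw [← Polynomial.aeval_algHom_apply] at hunit2
  -- eigenvalue
  have hroot : (B ψ).charpoly.IsRoot (AdjoinRoot.root f) := by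
    have h1 : (B ψ).charpoly = ψ.charpoly.map (algebraMap F K) := LinearMap.charpoly_baseChange ψ K
    obtain ⟨g, hg⟩ := hd
    rw [h1, hg, Polynomial.map_mul, Polynomial.IsRoot.def, Polynomial.eval_mul,
      AdjoinRoot.algebraMap_eq, Polynomial.eval_map, AdjoinRoot.eval₂_root, zero_mul]
  have hev : (B ψ).HasEigenvalue (AdjoinRoot.root f) :=
    (Module.End.hasEigenvalue_iff_isRoot_charpoly _ _).mpr hroot
  obtain ⟨x, hx⟩ := hev.exists_hasEigenvector
  have h2 : (Polynomial.aeval (B ψ) (f.map (algebraMap F K))) x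
      = ((f.map (algebraMap F K)).eval (AdjoinRoot.root f)) • x :=
    Module.End.aeval_apply_of_hasEigenvector hx
  rw [Polynomial.aeval_map_algebraMap, AdjoinRoot.algebraMap_eq, Polynomial.eval_map,
    AdjoinRoot.eval₂_root, zero_smul] at h2
  have hker : LinearMap.ker (Polynomial.aeval (B ψ) f) = ⊥ :=
    (LinearMap.isUnit_iff_ker_eq_bot _).mp hunit2
  have hx0 : x ∈ LinearMap.ker (Polynomial.aeval (B ψ) f) := h2
  rw [hker, Submodule.mem_bot] at hx0
  exact hx.2 hx0

/-- A nontrivial finite-dimensional space with an endomorphism has an irreducible factor of the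
characteristic polynomial with a kernel vector. -/
theorem exists_irreducible_ker [Nontrivial V] (φ : Module.End F V) :
    ∃ f : F[X], Irreducible f ∧ f ∣ φ.charpoly ∧ ∃ v : V, v ≠ 0 ∧ (Polynomial.aeval φ f) v = 0 := by
  have hnu : ¬ IsUnit (minpoly F φ) := minpoly.not_isUnit F φ
  obtain ⟨f, -, hirr, hdvd⟩ := Polynomial.exists_monic_irreducible_factor _ hnu
  refine ⟨f, hirr, hdvd.trans (LinearMap.minpoly_dvd_charpoly φ), ?_⟩
  obtain ⟨g, hg⟩ := hdvd
  have hg0 : g ≠ 0 := by
    rintro rfl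
    rw [mul_zero] at hg
    exact minpoly.ne_zero (Algebra.IsIntegral.isIntegral φ) hg
  have hgφ : Polynomial.aeval φ g ≠ 0 := by
    intro h0
    have h1 : minpoly F φ ∣ g := minpoly.dvd F φ h0
    rw [hg] at h1
    have h2 : f * g ∣ 1 * g := by rwa [one_mul]
    have h3 : f ∣ 1 := (mul_dvd_mul_iff_right hg0).mp h2
    exact hirr.not_isUnit (isUnit_of_dvd_one h3)
  obtain ⟨x, hx⟩ : ∃ x, (Polynomial.aeval φ g) x ≠ 0 := by
    by_contra hcon
    push Not at hcon
    exact hgφ (LinearMap.ext hcon)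
  refine ⟨(Polynomial.aeval φ g) x, hx, ?_⟩
  rw [← Module.End.mul_apply, ← map_mul, ← hg, minpoly.aeval, LinearMap.zero_apply]


omit [FiniteDimensional F V] in
/-- Peeling off a simple summand `F[X]/(f)` from a semisimple endomorphism. -/
theorem peel (φ : Module.End F V) (hφ : φ.IsSemisimple) (f : F[X]) (hf : Irreducible f)
    (v : V) (hv0 : v ≠ 0) (hv : (Polynomial.aeval φ f) v = 0) :
    ∃ (U' : Submodule F V) (hU' : U' ∈ φ.invtSubmodule) (Θ : (AdjoinRoot f × U') ≃ₗ[F] V),
      ∀ (a : AdjoinRoot f) (u' : U'),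
        φ (Θ (a, u')) = Θ (AdjoinRoot.root f * a, φ.restrict hU' u') := by
  have hT := cyc_injective φ v f hf hv hv0
  have hU : LinearMap.range (cyc φ v f hv) ∈ φ.invtSubmodule := by
    rw [Module.End.mem_invtSubmodule]
    rintro x ⟨a, rfl⟩
    show φ (cyc φ v f hv a) ∈ LinearMap.range (cyc φ v f hv)
    rw [cyc_root_mul]
    exact ⟨_, rfl⟩
  obtain ⟨U', hU', hc⟩ := Module.End.isSemisimple_iff.mp hφ _ hU
  refine ⟨U', hU', ((LinearEquiv.ofInjective (cyc φ v f hv) hT).prodCongr
    (LinearEquiv.refl F U')).trans (Submodule.prodEquivOfIsCompl _ U' hc), ?_⟩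
  intro a u'
  have h1 : ∀ (b : AdjoinRoot f) (w : U'),
      (((LinearEquiv.ofInjective (cyc φ v f hv) hT).prodCongr
        (LinearEquiv.refl F U')).trans (Submodule.prodEquivOfIsCompl _ U' hc)) (b, w)
        = cyc φ v f hv b + (w : V) := by
    intro b w
    simp [Submodule.coe_prodEquivOfIsCompl']
  rw [h1, h1, map_add, cyc_root_mul]
  rfl


/-- Multiplication by the root on `F[X]/(f)`. -/
noncomputable def mulRoot (f : F[X]) : Module.End F (AdjoinRoot f) :=
  LinearMap.mulLeft F (AdjoinRoot.root f)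

omit [FiniteDimensional F V] in
theorem peel_conj (φ : Module.End F V) (f : F[X]) (U' : Submodule F V)
    (hU' : U' ∈ φ.invtSubmodule) (Θ : (AdjoinRoot f × U') ≃ₗ[F] V)
    (h : ∀ (a : AdjoinRoot f) (u' : U'),
        φ (Θ (a, u')) = Θ (AdjoinRoot.root f * a, φ.restrict hU' u')) :
    Θ.conj ((mulRoot f).prodMap (φ.restrict hU')) = φ := by
  apply LinearMap.ext
  intro x
  obtain ⟨⟨a, u⟩, rfl⟩ := Θ.surjective x
  rw [LinearEquiv.conj_apply, LinearMap.comp_apply, LinearMap.comp_apply, LinearEquiv.coe_coe,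
    LinearEquiv.coe_coe, LinearEquiv.symm_apply_apply, h]
  rfl

theorem peel_charpoly (φ : Module.End F V) (f : F[X]) [Module.Finite F (AdjoinRoot f)]
    (U' : Submodule F V)
    (hU' : U' ∈ φ.invtSubmodule) (Θ : (AdjoinRoot f × U') ≃ₗ[F] V)
    (h : ∀ (a : AdjoinRoot f) (u' : U'),
        φ (Θ (a, u')) = Θ (AdjoinRoot.root f * a, φ.restrict hU' u')) :
    φ.charpoly = (mulRoot f).charpoly * (φ.restrict hU').charpoly := by
  rw [← LinearMap.charpoly_prodMap, ← LinearEquiv.charpoly_conj Θ, peel_conj φ f U' hU' Θ h]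

omit [FiniteDimensional F V] in
theorem peel_finrank [FiniteDimensional F V] (f : F[X]) (hf : Irreducible f) (U' : Submodule F V)
    (Θ : (AdjoinRoot f × U') ≃ₗ[F] V) :
    Module.finrank F U' < Module.finrank F V := by
  have hK : Module.Finite F (AdjoinRoot f) := (AdjoinRoot.powerBasis hf.ne_zero).finite
  have hfact : Fact (Irreducible f) := ⟨hf⟩
  have h1 := Θ.finrank_eq
  rw [Module.finrank_prod] at h1
  have h2 : 0 < Module.finrank F (AdjoinRoot f) := Module.finrank_pos
  omega

/-- Semisimple endomorphisms with the same characteristic polynomial are conjugate. -/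
theorem conj_of_charpoly : ∀ (d : ℕ) (V W : Type v) [AddCommGroup V] [Module F V]
    [FiniteDimensional F V] [AddCommGroup W] [Module F W] [FiniteDimensional F W]
    (φ : Module.End F V) (ψ : Module.End F W), Module.finrank F V = d → φ.IsSemisimple →
    ψ.IsSemisimple → φ.charpoly = ψ.charpoly → ∃ e : V ≃ₗ[F] W, ∀ x, e (φ x) = ψ (e x) := by
  intro d
  induction d using Nat.strong_induction_on with
  | _ d ih =>
    intro V W _ _ _ _ _ _ φ ψ hd hφ hψ hc
    have hdW : Module.finrank F W = d := by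
      rw [← hd, ← LinearMap.charpoly_natDegree φ, ← LinearMap.charpoly_natDegree ψ, hc]
    rcases Nat.eq_zero_or_pos d with h0 | hpos
    · have hsub : Subsingleton W := Module.finrank_zero_iff.mp (hdW.trans h0)
      exact ⟨LinearEquiv.ofFinrankEq V W (hd.trans hdW.symm), fun x => Subsingleton.elim _ _⟩
    · have hnt : Nontrivial V := Module.nontrivial_of_finrank_pos (R := F) (by omega)
      obtain ⟨f, hf, hfd, v, hv0, hv⟩ := exists_irreducible_ker φ
      obtain ⟨w, hw0, hw⟩ := exists_ker_of_dvd_charpoly ψ f hf (hc ▸ hfd)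
      obtain ⟨U1, hU1, Θ1, h1⟩ := peel φ hφ f hf v hv0 hv
      obtain ⟨U2, hU2, Θ2, h2⟩ := peel ψ hψ f hf w hw0 hw
      have hK : Module.Finite F (AdjoinRoot f) := (AdjoinRoot.powerBasis hf.ne_zero).finite
      have c1 := peel_charpoly φ f U1 hU1 Θ1 h1
      have c2 := peel_charpoly ψ f U2 hU2 Θ2 h2
      have hc' : (φ.restrict hU1).charpoly = (ψ.restrict hU2).charpoly := by
        have hm : (mulRoot f).charpoly ≠ 0 := (LinearMap.charpoly_monic _).ne_zero
        apply mul_left_cancel₀ hm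
        rw [← c1, ← c2, hc]
      have hfr : Module.finrank F U1 < d := hd ▸ peel_finrank f hf U1 Θ1
      obtain ⟨e', he'⟩ := ih _ hfr U1 U2 (φ.restrict hU1) (ψ.restrict hU2) rfl
        (hφ.restrict hU1) (hψ.restrict hU2) hc'
      refine ⟨Θ1.symm.trans (((LinearEquiv.refl F (AdjoinRoot f)).prodCongr e').trans Θ2), ?_⟩
      intro x
      obtain ⟨⟨a, u⟩, rfl⟩ := Θ1.surjective x
      rw [h1]
      simp only [LinearEquiv.trans_apply, LinearEquiv.symm_apply_apply,
        LinearEquiv.prodCongr_apply, LinearEquiv.refl_apply, he', h2]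


/-- The centraliser of a semisimple endomorphism (of a nonzero space over a finite field) has
surjective determinant. -/
theorem exists_comm_det [Finite F] [Nontrivial V] (φ : Module.End F V) (hφ : φ.IsSemisimple)
    (c : F) : ∃ z : Module.End F V, z * φ = φ * z ∧ LinearMap.det z = c := by
  obtain ⟨f, hf, hfd, v, hv0, hv⟩ := exists_irreducible_ker φ
  obtain ⟨U', hU', Θ, h⟩ := peel φ hφ f hf v hv0 hv
  have hfact : Fact (Irreducible f) := ⟨hf⟩
  have hK : Module.Finite F (AdjoinRoot f) := (AdjoinRoot.powerBasis hf.ne_zero).finite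
  have hKfin : Finite (AdjoinRoot f) := Module.finite_of_finite F
  obtain ⟨u, hu⟩ := FiniteField.norm_surjective F (AdjoinRoot f) c
  have hz : ∀ (a : AdjoinRoot f) (w : U'),
      (Θ.conj ((LinearMap.mulLeft F u).prodMap LinearMap.id)) (Θ (a, w)) = Θ (u * a, w) := by
    intro a w
    rw [LinearEquiv.conj_apply, LinearMap.comp_apply, LinearMap.comp_apply, LinearEquiv.coe_coe,
      LinearEquiv.coe_coe, LinearEquiv.symm_apply_apply]
    rfl
  refine ⟨Θ.conj ((LinearMap.mulLeft F u).prodMap LinearMap.id), ?_, ?_⟩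
  · apply LinearMap.ext
    intro x
    obtain ⟨⟨a, w⟩, rfl⟩ := Θ.surjective x
    rw [Module.End.mul_apply, Module.End.mul_apply, h, hz, hz, h, mul_left_comm]
  · rw [LinearEquiv.conj_apply, LinearMap.comp_assoc, LinearMap.det_conj, LinearMap.det_prodMap,
      LinearMap.det_id, mul_one]
    exact hu

end Cfsg.Agent.Lib.Helper14.SSConj
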