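import Mathlib
import Cfsg.Agent.Lib.Helper14.SSConj1

namespace Cfsg.Agent.Lib.Helper14.SSConj

open Polynomial

universe u

variable {F : Type u} [Field F] {n : ℕ}

/-- Matrix semisimplicity: killed by a squarefree polynomial. -/
def MSS (M : Matrix (Fin n) (Fin n) F) : Prop :=
  ∃ s : F[X], Squarefree s ∧ Polynomial.aeval M s = 0

theorem mss_toLin (M : Matrix (Fin n) (Fin n) F) (h : MSS M) :
    Module.End.IsSemisimple (Matrix.toLin' M) := by
  obtain ⟨s, hs, h0⟩ := h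
  apply Module.End.isSemisimple_of_squarefree_aeval_eq_zero hs
  have h1 : Polynomial.aeval (Matrix.toLinAlgEquiv' M) s
      = Matrix.toLinAlgEquiv' (Polynomial.aeval M s) :=
    Polynomial.aeval_algHom_apply (Matrix.toLinAlgEquiv' (R := F) (n := Fin n)) M s
  rw [h0, map_zero] at h1
  exact h1

theorem mss_of_pow_eq_one (M : Matrix (Fin n) (Fin n) F) (m : ℕ) (hm : (m : F) ≠ 0)
    (h : M ^ m = 1) : MSS M := by
  refine ⟨X ^ m - C 1, (Polynomial.separable_X_pow_sub_C 1 hm one_ne_zero).squarefree, ?_⟩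
  simp [h]

theorem conj_of_mss (A B : Matrix (Fin n) (Fin n) F) (hA : MSS A) (hB : MSS B)
    (hc : A.charpoly = B.charpoly) :
    ∃ X : Matrix (Fin n) (Fin n) F, X.det ≠ 0 ∧ X * A = B * X := by
  obtain ⟨e, he⟩ := conj_of_charpoly (F := F) _ (Fin n → F) (Fin n → F) (Matrix.toLin' A)
    (Matrix.toLin' B) rfl (mss_toLin A hA) (mss_toLin B hB)
    (by rw [Matrix.charpoly_toLin', Matrix.charpoly_toLin', hc])
  refine ⟨LinearMap.toMatrix' (e : (Fin n → F) →ₗ[F] (Fin n → F)), ?_, ?_⟩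
  · rw [LinearMap.det_toMatrix']
    exact (LinearEquiv.isUnit_det' e).ne_zero
  · have h1 : (e : (Fin n → F) →ₗ[F] (Fin n → F)) ∘ₗ Matrix.toLin' A
        = Matrix.toLin' B ∘ₗ (e : (Fin n → F) →ₗ[F] (Fin n → F)) := by
      apply LinearMap.ext
      intro x
      exact he x
    have h2 := congrArg LinearMap.toMatrix' h1
    rw [LinearMap.toMatrix'_comp, LinearMap.toMatrix'_comp, LinearMap.toMatrix'_toLin',
      LinearMap.toMatrix'_toLin'] at h2
    exact h2

theorem exists_comm_det_mat [Finite F] (hn : 0 < n) (A : Matrix (Fin n) (Fin n) F) (hA : MSS A)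
    (c : F) : ∃ Z : Matrix (Fin n) (Fin n) F, Z * A = A * Z ∧ Z.det = c := by
  have hne : Nonempty (Fin n) := ⟨⟨0, hn⟩⟩
  obtain ⟨z, hz, hzd⟩ := exists_comm_det (Matrix.toLin' A) (mss_toLin A hA) c
  refine ⟨LinearMap.toMatrix' z, ?_, ?_⟩
  · have h2 := congrArg LinearMap.toMatrix' hz
    rw [Module.End.mul_eq_comp, Module.End.mul_eq_comp, LinearMap.toMatrix'_comp,
      LinearMap.toMatrix'_comp, LinearMap.toMatrix'_toLin'] at h2
    exact h2
  · rw [LinearMap.det_toMatrix', hzd]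

/-- Semisimple matrices of determinant one with equal characteristic polynomials are conjugate
under a matrix of determinant one. -/
theorem sl_conj_of_mss [Finite F] (hn : 0 < n) (A B : Matrix (Fin n) (Fin n) F) (hA : MSS A)
    (hB : MSS B) (hc : A.charpoly = B.charpoly) :
    ∃ Y : Matrix (Fin n) (Fin n) F, Y.det = 1 ∧ Y * A = B * Y := by
  obtain ⟨X, hX, hXA⟩ := conj_of_mss A B hA hB hc
  obtain ⟨Z, hZ, hZd⟩ := exists_comm_det_mat hn A hA (X.det)⁻¹
  refine ⟨X * Z, ?_, ?_⟩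
  · rw [Matrix.det_mul, hZd, mul_inv_cancel₀ hX]
  · rw [Matrix.mul_assoc, hZ, ← Matrix.mul_assoc, hXA, Matrix.mul_assoc]

end Cfsg.Agent.Lib.Helper14.SSConj
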