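import Mathlib
import Cfsg.Agent.Lib.Helper14.SSConj2

namespace Cfsg.Agent.Lib.Helper14.SSConj

open Polynomial

universe u v

variable {F : Type u} [Field F]

/-- Transfer an endomorphism killed by a squarefree polynomial to a matrix. -/
theorem exists_mat_of_end {V : Type v} [AddCommGroup V] [Module F V] [FiniteDimensional F V]
    (φ : Module.End F V) (s : F[X]) (hs : Squarefree s) (h0 : Polynomial.aeval φ s = 0) (d : ℕ)
    (hd : φ.charpoly.natDegree = d) :
    ∃ A : Matrix (Fin d) (Fin d) F, MSS A ∧ A.charpoly = φ.charpoly := by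
  have hfr : Module.finrank F V = d := by rw [← hd, LinearMap.charpoly_natDegree]
  let b := Module.finBasisOfFinrankEq F V hfr
  refine ⟨LinearMap.toMatrix b b φ, ⟨s, hs, ?_⟩, LinearMap.charpoly_toMatrix φ b⟩
  have h1 : Polynomial.aeval (LinearMap.toMatrixAlgEquiv b φ) s
      = LinearMap.toMatrixAlgEquiv b (Polynomial.aeval φ s) :=
    Polynomial.aeval_algHom_apply (LinearMap.toMatrixAlgEquiv b) φ s
  rw [h0, map_zero] at h1
  exact h1

theorem aeval_mulRoot (f : F[X]) : Polynomial.aeval (mulRoot f) f = 0 := by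
  have h1 : Polynomial.aeval (Algebra.lmul F (AdjoinRoot f) (AdjoinRoot.root f)) f
      = Algebra.lmul F (AdjoinRoot f) (Polynomial.aeval (AdjoinRoot.root f) f) :=
    Polynomial.aeval_algHom_apply (Algebra.lmul F (AdjoinRoot f)) (AdjoinRoot.root f) f
  rw [AdjoinRoot.aeval_eq, AdjoinRoot.mk_self, map_zero] at h1
  exact h1

theorem charpoly_mulRoot (f : F[X]) (hf : f.Monic) (hf0 : f ≠ 0)
    [Module.Finite F (AdjoinRoot f)] : (mulRoot f).charpoly = f := by
  have h1 := charpoly_leftMulMatrix (AdjoinRoot.powerBasis hf0)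
  rw [Algebra.leftMulMatrix_apply, LinearMap.charpoly_toMatrix, AdjoinRoot.powerBasis_gen,
    AdjoinRoot.minpoly_root hf0, hf.leadingCoeff, inv_one, map_one, mul_one] at h1
  exact h1

theorem aeval_prodMap {V W : Type v} [AddCommGroup V] [Module F V] [AddCommGroup W] [Module F W]
    (φ : Module.End F V) (ψ : Module.End F W) (s : F[X]) :
    Polynomial.aeval (φ.prodMap ψ) s
      = (Polynomial.aeval φ s).prodMap (Polynomial.aeval ψ s) := by
  have h1 : Polynomial.aeval (LinearMap.prodMapAlgHom F V W (φ, ψ)) s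
      = LinearMap.prodMapAlgHom F V W (Polynomial.aeval (φ, ψ) s) :=
    Polynomial.aeval_algHom_apply (LinearMap.prodMapAlgHom F V W) (φ, ψ) s
  rw [Polynomial.aeval_prod_apply] at h1
  exact h1


theorem aeval_toLin' {n : ℕ} (A : Matrix (Fin n) (Fin n) F) (s : F[X]) :
    Polynomial.aeval (Matrix.toLin' A) s = Matrix.toLin' (Polynomial.aeval A s) :=
  Polynomial.aeval_algHom_apply (Matrix.toLinAlgEquiv' (R := F) (n := Fin n)) A s

/-- Every monic polynomial is the characteristic polynomial of a semisimple matrix. -/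
theorem exists_mss_charpoly : ∀ (d : ℕ) (c : F[X]), c.Monic → c.natDegree = d →
    ∃ A : Matrix (Fin d) (Fin d) F, MSS A ∧ A.charpoly = c := by
  intro d
  induction d using Nat.strong_induction_on with
  | _ d ih =>
    intro c hc hd
    rcases Nat.eq_zero_or_pos d with h0 | hpos
    · subst h0
      have hc1 : c = 1 := Polynomial.eq_one_of_monic_natDegree_zero hc hd
      refine ⟨0, ⟨1, squarefree_one, Subsingleton.elim _ _⟩, ?_⟩
      rw [hc1]
      exact Polynomial.eq_one_of_monic_natDegree_zero (Matrix.charpoly_monic _) (by simp)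
    · have hnu : ¬ IsUnit c := Polynomial.not_isUnit_of_natDegree_pos c (hd ▸ hpos)
      obtain ⟨f, hfm, hirr, ⟨c', hc'⟩⟩ := Polynomial.exists_monic_irreducible_factor c hnu
      have hc'm : c'.Monic := hfm.of_mul_monic_left (hc' ▸ hc)
      have hdeg : c.natDegree = f.natDegree + c'.natDegree := by
        rw [hc', hfm.natDegree_mul hc'm]
      have hfpos : 0 < f.natDegree := hirr.natDegree_pos
      obtain ⟨A', ⟨s', hs', hA's⟩, hA'c⟩ := ih c'.natDegree (by omega) c' hc'm rfl
      have hK : Module.Finite F (AdjoinRoot f) := (AdjoinRoot.powerBasis hirr.ne_zero).finite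
      have hφc : ((mulRoot f).prodMap (Matrix.toLin' A')).charpoly = c := by
        rw [LinearMap.charpoly_prodMap, charpoly_mulRoot f hfm hirr.ne_zero,
          Matrix.charpoly_toLin', hA'c, hc']
      have hA's' : Polynomial.aeval (Matrix.toLin' A') s' = 0 := by
        rw [aeval_toLin', hA's, map_zero]
      obtain ⟨s, hs, hφs⟩ : ∃ s : F[X], Squarefree s ∧
          Polynomial.aeval ((mulRoot f).prodMap (Matrix.toLin' A')) s = 0 := by
        by_cases hdvd : f ∣ s'
        · refine ⟨s', hs', ?_⟩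
          obtain ⟨r, hr⟩ := hdvd
          rw [aeval_prodMap, hA's', hr, map_mul, aeval_mulRoot, zero_mul]
          exact LinearMap.prodMap_zero
        · refine ⟨f * s', ?_, ?_⟩
          · rw [squarefree_mul_iff]
            exact ⟨((Irreducible.coprime_iff_not_dvd hirr).mpr hdvd).isRelPrime, hirr.squarefree,
              hs'⟩
          · rw [aeval_prodMap, map_mul, map_mul, aeval_mulRoot, hA's', zero_mul, mul_zero]
            exact LinearMap.prodMap_zero
      obtain ⟨A, hA, hAc⟩ := exists_mat_of_end ((mulRoot f).prodMap (Matrix.toLin' A')) s hs hφs d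
        (by rw [hφc, hd])
      exact ⟨A, hA, hAc.trans hφc⟩

/-- A semisimple matrix over a field of characteristic `p` with `A^(p k) = 1` has `A^k = 1`. -/
theorem pow_eq_one_of_mss (p : ℕ) [Fact p.Prime] [CharP F p] {n : ℕ}
    (A : Matrix (Fin n) (Fin n) F) (hA : MSS A) (k : ℕ) (h : A ^ (p * k) = 1) : A ^ k = 1 := by
  obtain ⟨s, hs, h0⟩ := hA
  have hμ : Squarefree (minpoly F A) := hs.squarefree_of_dvd (minpoly.dvd F A h0)
  have h1 : Polynomial.aeval A ((X ^ k - 1 : F[X]) ^ p) = 0 := by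
    rw [sub_pow_char, one_pow, ← pow_mul, mul_comm k p]
    simp [h]
  have h2 : minpoly F A ∣ (X ^ k - 1 : F[X]) ^ p := minpoly.dvd F A h1
  have hp : p ≠ 0 := (Fact.out : p.Prime).ne_zero
  rw [hμ.dvd_pow_iff_dvd hp] at h2
  obtain ⟨r, hr⟩ := h2
  have h3 : Polynomial.aeval A (X ^ k - 1 : F[X]) = 0 := by
    rw [hr, map_mul, minpoly.aeval, zero_mul]
  simpa [sub_eq_zero] using h3


/-- Counting conjugacy classes through a complete invariant. -/
theorem card_classes {G : Type*} [Group G] {T : Type*} (Q : G → Prop) (χ : G → T) (S : T → Prop)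
    (ha : ∀ g h, IsConj g h → χ g = χ h) (hb : ∀ g h, Q g → Q h → χ g = χ h → IsConj g h)
    (hc : ∀ g, Q g → S (χ g)) (hd : ∀ t, S t → ∃ g, Q g ∧ χ g = t) :
    Nat.card {c : ConjClasses G // ∃ g, ConjClasses.mk g = c ∧ Q g} = Nat.card {t // S t} := by
  apply Nat.card_eq_of_bijective
    (fun c => (⟨χ (Classical.choose c.2), hc _ (Classical.choose_spec c.2).2⟩ : {t // S t}))
  constructor
  · intro c c' h
    have h' : χ (Classical.choose c.2) = χ (Classical.choose c'.2) := congrArg Subtype.val h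
    have h2 := hb _ _ (Classical.choose_spec c.2).2 (Classical.choose_spec c'.2).2 h'
    apply Subtype.ext
    rw [← (Classical.choose_spec c.2).1, ← (Classical.choose_spec c'.2).1]
    exact ConjClasses.mk_eq_mk_iff_isConj.mpr h2
  · rintro ⟨t, ht⟩
    obtain ⟨g, hQ, hg⟩ := hd t ht
    have hex : ∃ g', ConjClasses.mk g' = ConjClasses.mk g ∧ Q g' := ⟨g, rfl, hQ⟩
    refine ⟨⟨ConjClasses.mk g, hex⟩, ?_⟩
    apply Subtype.ext
    show χ (Classical.choose hex) = t
    rw [← hg]
    apply ha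
    exact ConjClasses.mk_eq_mk_iff_isConj.mp (Classical.choose_spec hex).1

theorem coprime_orderOf_of_pow {G : Type*} [Group G] [Finite G] (g : G) (p : ℕ) [Fact p.Prime]
    (h : ∀ k, g ^ (p * k) = 1 → g ^ k = 1) : (orderOf g).Coprime p := by
  have hp : p.Prime := Fact.out
  rw [Nat.coprime_comm, Nat.Prime.coprime_iff_not_dvd hp]
  rintro ⟨k, hk⟩
  have h1 : g ^ (p * k) = 1 := by rw [← hk, pow_orderOf_eq_one]
  have h2 := orderOf_dvd_of_pow_eq_one (h k h1)
  have hpos : 0 < orderOf g := orderOf_pos g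
  have hk0 : 0 < k := by
    rcases Nat.eq_zero_or_pos k with h0 | h0
    · rw [h0, mul_zero] at hk
      omega
    · exact h0
  have h3 := Nat.le_of_dvd hk0 h2
  have h4 : 2 * k ≤ p * k := Nat.mul_le_mul_right k hp.two_le
  omega

/-- Counting monic polynomials of degree `n` with a condition on the constant coefficient. -/
theorem card_monic [Finite F] (n : ℕ) (hn : 0 < n) (R : F → Prop) :
    Nat.card {c : F[X] // c.Monic ∧ c.natDegree = n ∧ R (c.coeff 0)}
      = Nat.card {x : F // R x} * (Nat.card F) ^ (n - 1) := by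
  obtain ⟨k, rfl⟩ : ∃ k, n = k + 1 := ⟨n - 1, by omega⟩
  let e₀ : {p : F[X] // p.Monic ∧ p.natDegree = k + 1} ≃ (Fin (k + 1) → F) :=
    (Polynomial.monicEquivDegreeLT (k + 1)).trans (Polynomial.degreeLTEquiv F (k + 1)).toEquiv
  have he₀ : ∀ p, e₀ p 0 = p.1.coeff 0 := by
    intro p
    show (p.1.eraseLead).coeff ((0 : Fin (k + 1)) : ℕ) = _
    rw [Polynomial.eraseLead_coeff_of_ne]
    · rfl
    · rw [p.2.2]
      simp
  let e1 : {c : F[X] // c.Monic ∧ c.natDegree = k + 1 ∧ R (c.coeff 0)}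
      ≃ {c : F[X] // (c.Monic ∧ c.natDegree = k + 1) ∧ R (c.coeff 0)} :=
    Equiv.subtypeEquivRight (fun c => (and_assoc).symm)
  let e2 : {x : {p : F[X] // p.Monic ∧ p.natDegree = k + 1} // R (x.1.coeff 0)}
      ≃ {c : F[X] // (c.Monic ∧ c.natDegree = k + 1) ∧ R (c.coeff 0)} :=
    Equiv.subtypeSubtypeEquivSubtypeInter (fun p : F[X] => p.Monic ∧ p.natDegree = k + 1)
      (fun p : F[X] => R (p.coeff 0))
  let e3 : {x : {p : F[X] // p.Monic ∧ p.natDegree = k + 1} // R (x.1.coeff 0)}
      ≃ {a : Fin (k + 1) → F // R (a 0)} :=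
    e₀.subtypeEquiv (fun p => by rw [he₀])
  let e4 : {a : Fin (k + 1) → F // R (a 0)} ≃ {x : F × (Fin k → F) // R x.1} :=
    (Fin.consEquiv (fun _ : Fin (k + 1) => F)).symm.subtypeEquiv (fun a => Iff.rfl)
  let e5 : {x : F × (Fin k → F) // R x.1} ≃ {x : F // R x} × (Fin k → F) :=
    Equiv.prodSubtypeFstEquivSubtypeProd
  rw [Nat.card_congr (e1.trans (e2.symm.trans (e3.trans (e4.trans e5)))), Nat.card_prod,
    Nat.card_fun]
  simp

end Cfsg.Agent.Lib.Helper14.SSConj
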