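import Mathlib
import Cfsg.Agent.Lib.Helper14.SSConj3

namespace Cfsg.Agent.Lib.Helper14.PGraph

open Polynomial Cfsg.Agent.Lib.Helper14.SSConj

universe u v

variable {F : Type u} [Field F]

theorem dvd_natDegree_of_irreducible (k : ℕ) : ∀ (d : ℕ) (c : F[X]), c ≠ 0 → c.natDegree = d →
    (∀ f : F[X], Irreducible f → f ∣ c → k ∣ f.natDegree) → k ∣ c.natDegree := by
  intro d
  induction d using Nat.strong_induction_on with
  | _ d ih =>
    intro c hc0 hd h
    by_cases hu : IsUnit c
    · rw [Polynomial.natDegree_eq_zero_of_isUnit hu]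
      exact dvd_zero k
    · obtain ⟨f, -, hirr, ⟨c', hc'⟩⟩ := Polynomial.exists_monic_irreducible_factor c hu
      have hc'0 : c' ≠ 0 := by
        rintro rfl
        rw [mul_zero] at hc'
        exact hc0 hc'
      have hdeg : c.natDegree = f.natDegree + c'.natDegree := by
        rw [hc', Polynomial.natDegree_mul hirr.ne_zero hc'0]
      have hfpos : 0 < f.natDegree := hirr.natDegree_pos
      have h1 := ih c'.natDegree (by omega) c' hc'0 rfl
        (fun g hg hgd => h g hg (hgd.trans ⟨f, by rw [hc', mul_comm]⟩))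
      rw [hdeg]
      exact dvd_add (h f hirr ⟨c', hc'⟩) h1

/-- The polynomial `1 + X + ... + X^(r-1)`. -/
noncomputable def gpoly (F : Type u) [Field F] (r : ℕ) : F[X] := ∑ i ∈ Finset.range r, X ^ i

theorem aeval_gpoly {A : Type*} [Ring A] [Algebra F A] (a : A) (r : ℕ) :
    Polynomial.aeval a (gpoly F r) = ∑ i ∈ Finset.range r, a ^ i := by
  simp [gpoly]

/-- Irreducible factors of `1 + X + ... + X^(r-1)` over a finite field with `q` elements have
degree divisible by the order of `q` modulo `r`. -/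
theorem dvd_natDegree_of_dvd_gpoly [Fintype F] (r : ℕ) (hr : r.Prime) (hrF : (r : F) ≠ 0)
    (f : F[X]) (hf : Irreducible f) (hfd : f ∣ gpoly F r) :
    orderOf ((Fintype.card F : ℕ) : ZMod r) ∣ f.natDegree := by
  have hfact : Fact (Irreducible f) := ⟨hf⟩
  have hα : ∑ i ∈ Finset.range r, (AdjoinRoot.root f) ^ i = 0 := by
    rw [← aeval_gpoly (F := F), AdjoinRoot.aeval_eq, AdjoinRoot.mk_eq_zero]
    exact hfd
  have hαr : (AdjoinRoot.root f) ^ r = 1 := by
    have h1 := mul_geom_sum (AdjoinRoot.root f) r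
    rw [hα, mul_zero] at h1
    exact (sub_eq_zero.mp h1.symm)
  have hα1 : AdjoinRoot.root f ≠ 1 := by
    intro h1
    rw [h1] at hα
    simp only [one_pow, Finset.sum_const, Finset.card_range, nsmul_eq_mul, mul_one] at hα
    have h2 : algebraMap F (AdjoinRoot f) (r : F) = 0 := by
      rw [map_natCast]
      exact hα
    rw [map_eq_zero] at h2
    exact hrF h2
  have hfr : Fact r.Prime := ⟨hr⟩
  have hord : orderOf (AdjoinRoot.root f) = r := orderOf_eq_prime hαr hα1
  have hKm : Module.Finite F (AdjoinRoot f) := (AdjoinRoot.powerBasis hf.ne_zero).finite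
  have hKfin : Finite (AdjoinRoot f) := Module.finite_of_finite F
  have hKft : Fintype (AdjoinRoot f) := Fintype.ofFinite _
  have hcard : Fintype.card (AdjoinRoot f) = Fintype.card F ^ f.natDegree := by
    rw [Module.card_eq_pow_finrank (K := F) (V := AdjoinRoot f),
      (AdjoinRoot.powerBasis hf.ne_zero).finrank, AdjoinRoot.powerBasis_dim]
  have hα0 : AdjoinRoot.root f ≠ 0 := by
    intro h0
    rw [h0, zero_pow hr.ne_zero] at hαr
    exact zero_ne_one hαr
  have h3 : (AdjoinRoot.root f) ^ (Fintype.card F ^ f.natDegree - 1) = 1 := by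
    rw [← hcard]
    exact FiniteField.pow_card_sub_one_eq_one _ hα0
  have h4 : r ∣ Fintype.card F ^ f.natDegree - 1 := hord ▸ orderOf_dvd_of_pow_eq_one h3
  apply orderOf_dvd_of_pow_eq_one
  have hpos : 1 ≤ Fintype.card F ^ f.natDegree := Nat.one_le_pow _ _ Fintype.card_pos
  have h5 : ((Fintype.card F ^ f.natDegree - 1 : ℕ) : ZMod r) = 0 :=
    (ZMod.natCast_eq_zero_iff _ _).mpr h4
  rw [Nat.cast_sub hpos, Nat.cast_pow, Nat.cast_one, sub_eq_zero] at h5
  exact h5


variable {V : Type v} [AddCommGroup V] [Module F V] [FiniteDimensional F V]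

/-- If `1 + A + ... + A^(r-1) = 0` then the order of `q` mod `r` divides the dimension. -/
theorem dvd_finrank_of_geom [Fintype F] (A : Module.End F V) (r : ℕ) (hr : r.Prime)
    (hrF : (r : F) ≠ 0) (h : ∑ i ∈ Finset.range r, A ^ i = 0) :
    orderOf ((Fintype.card F : ℕ) : ZMod r) ∣ Module.finrank F V := by
  rw [← LinearMap.charpoly_natDegree A]
  apply dvd_natDegree_of_irreducible _ _ _ (LinearMap.charpoly_monic A).ne_zero rfl
  intro f hf hfd
  apply dvd_natDegree_of_dvd_gpoly r hr hrF f hf
  obtain ⟨w, hw0, hw⟩ := exists_ker_of_dvd_charpoly A f hf hfd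
  by_contra hnd
  obtain ⟨a, b, hab⟩ := (Irreducible.coprime_iff_not_dvd hf).mpr hnd
  apply hw0
  have h1 : (Polynomial.aeval A (a * f + b * gpoly F r)) w = w := by
    rw [hab, map_one, Module.End.one_apply]
  rw [map_add, map_mul, map_mul, aeval_gpoly, h, mul_zero, add_zero, Module.End.mul_apply, hw,
    map_zero] at h1
  exact h1.symm

omit [FiniteDimensional F V] in
theorem restrict_pow_apply (A : Module.End F V) (W : Submodule F V) (hW : W ∈ A.invtSubmodule)
    (i : ℕ) (x : W) : (((A.restrict hW) ^ i) x : V) = (A ^ i) x := by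
  induction i generalizing x with
  | zero => simp
  | succ j ih =>
    rw [pow_succ', pow_succ', Module.End.mul_apply, Module.End.mul_apply]
    show A ((((A.restrict hW) ^ j) x : W) : V) = A ((A ^ j) x)
    rw [ih]

theorem dvd_finrank_sub [Fintype F] (A : Module.End F V) (r : ℕ) (hr : r.Prime)
    (hrF : (r : F) ≠ 0) (W : Submodule F V) (hW : W ∈ A.invtSubmodule)
    (h : ∀ x ∈ W, (∑ i ∈ Finset.range r, A ^ i) x = 0) :
    orderOf ((Fintype.card F : ℕ) : ZMod r) ∣ Module.finrank F W := by
  apply dvd_finrank_of_geom (A.restrict hW) r hr hrF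
  apply LinearMap.ext
  intro x
  apply Subtype.ext
  rw [LinearMap.sum_apply, Submodule.coe_sum]
  simp_rw [restrict_pow_apply]
  rw [← LinearMap.sum_apply]
  exact h x x.2

/-- Commuting automorphisms of prime orders `r`, `s` on a space of dimension `< k + l`:
`k ∣ l`. -/
theorem core_nonexist [Fintype F] (A B : Module.End F V) (hAB : A * B = B * A) (r s : ℕ)
    (hr : r.Prime) (hs : s.Prime) (hrF : (r : F) ≠ 0) (hsF : (s : F) ≠ 0)
    (hA : A ^ r = 1) (hA1 : A ≠ 1) (hB : B ^ s = 1) (hB1 : B ≠ 1)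
    (hkl : orderOf ((Fintype.card F : ℕ) : ZMod r) ≤ orderOf ((Fintype.card F : ℕ) : ZMod s))
    (hn : Module.finrank F V
      < orderOf ((Fintype.card F : ℕ) : ZMod r) + orderOf ((Fintype.card F : ℕ) : ZMod s)) :
    orderOf ((Fintype.card F : ℕ) : ZMod r) ∣ orderOf ((Fintype.card F : ℕ) : ZMod s) := by
  generalize hkdef : orderOf ((Fintype.card F : ℕ) : ZMod r) = k at *
  generalize hldef : orderOf ((Fintype.card F : ℕ) : ZMod s) = l at *
  have hcomm : Commute A B := hAB
  have hcA : ∀ C : Module.End F V, Commute C A → Commute C (∑ i ∈ Finset.range r, A ^ i) :=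
    fun C hC => Commute.sum_right _ _ _ (fun i _ => hC.pow_right i)
  have hcB : ∀ C : Module.End F V, Commute C B → Commute C (∑ i ∈ Finset.range s, B ^ i) :=
    fun C hC => Commute.sum_right _ _ _ (fun i _ => hC.pow_right i)
  -- invariance of kernels
  have hinv : ∀ (Φ C : Module.End F V), Commute C Φ → LinearMap.ker Φ ∈ C.invtSubmodule := by
    intro Φ C hC
    rw [Module.End.mem_invtSubmodule]
    intro x hx
    rw [Submodule.mem_comap, LinearMap.mem_ker]
    rw [LinearMap.mem_ker] at hx
    have h1 : (Φ * C) x = (C * Φ) x := by rw [hC.eq]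
    rw [Module.End.mul_apply, Module.End.mul_apply, hx, map_zero] at h1
    exact h1
  have hne : ∀ (C : Module.End F V) (t : ℕ), C ^ t = 1 → C ≠ 1 →
      LinearMap.ker (∑ i ∈ Finset.range t, C ^ i) ≠ ⊥ := by
    intro C t hC hC1 hbot
    apply hC1
    apply LinearMap.ext
    intro x
    have h1 : (∑ i ∈ Finset.range t, C ^ i) * (C - 1) = C ^ t - 1 := geom_sum_mul C t
    rw [hC, sub_self] at h1
    have h2 : (C - 1) x ∈ LinearMap.ker (∑ i ∈ Finset.range t, C ^ i) := by
      rw [LinearMap.mem_ker, ← Module.End.mul_apply, h1, LinearMap.zero_apply]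
    rw [hbot, Submodule.mem_bot, LinearMap.sub_apply, sub_eq_zero] at h2
    exact h2
  set VA := LinearMap.ker (∑ i ∈ Finset.range r, A ^ i) with hVA
  set VB := LinearMap.ker (∑ i ∈ Finset.range s, B ^ i) with hVB
  have hkA : k ∣ Module.finrank F VA := by
    rw [← hkdef]
    exact dvd_finrank_sub A r hr hrF VA (hinv _ A (hcA A (Commute.refl A)))
      (fun x hx => LinearMap.mem_ker.mp hx)
  have hlB : l ∣ Module.finrank F VB := by
    rw [← hldef]
    exact dvd_finrank_sub B s hs hsF VB (hinv _ B (hcB B (Commute.refl B)))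
      (fun x hx => LinearMap.mem_ker.mp hx)
  have hVApos : 0 < Module.finrank F VA := Module.finrank_pos_iff.mpr
    ((Submodule.nontrivial_iff_ne_bot).mpr (hne A r hA hA1))
  have hVBpos : 0 < Module.finrank F VB := Module.finrank_pos_iff.mpr
    ((Submodule.nontrivial_iff_ne_bot).mpr (hne B s hB hB1))
  have hk1 := Nat.le_of_dvd hVApos hkA
  have hl1 := Nat.le_of_dvd hVBpos hlB
  have hsum := Submodule.finrank_sup_add_finrank_inf_eq VA VB
  have hle : Module.finrank F (VA ⊔ VB : Submodule F V) ≤ Module.finrank F V :=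
    Submodule.finrank_le _
  have hUpos : 0 < Module.finrank F (VA ⊓ VB : Submodule F V) := by
    by_contra h0
    omega
  have hUle : Module.finrank F (VA ⊓ VB : Submodule F V) ≤ Module.finrank F V :=
    Submodule.finrank_le _
  have hUA : (VA ⊓ VB : Submodule F V) ∈ A.invtSubmodule :=
    Module.End.invtSubmodule.inf_mem (hinv _ A (hcA A (Commute.refl A))) (hinv _ A (hcB A hcomm))
  have hUB : (VA ⊓ VB : Submodule F V) ∈ B.invtSubmodule :=
    Module.End.invtSubmodule.inf_mem (hinv _ B (hcA B hcomm.symm)) (hinv _ B (hcB B (Commute.refl B)))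
  have hkU : k ∣ Module.finrank F (VA ⊓ VB : Submodule F V) := by
    rw [← hkdef]
    exact dvd_finrank_sub A r hr hrF _ hUA (fun x hx => LinearMap.mem_ker.mp hx.1)
  have hlU : l ∣ Module.finrank F (VA ⊓ VB : Submodule F V) := by
    rw [← hldef]
    exact dvd_finrank_sub B s hs hsF _ hUB (fun x hx => LinearMap.mem_ker.mp hx.2)
  obtain ⟨j, hj⟩ := hlU
  have hj1 : j = 1 := by
    rcases Nat.lt_or_ge j 2 with h2 | h2
    · rcases Nat.eq_zero_or_pos j with h0 | h0
      · rw [h0, mul_zero] at hj
        omega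
      · omega
    · have : l * 2 ≤ l * j := Nat.mul_le_mul_left l h2
      omega
  rw [hj1, mul_one] at hj
  rw [hj] at hkU
  exact hkU

end Cfsg.Agent.Lib.Helper14.PGraph
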