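import Mathlib
import Cfsg.Agent.Lib.Helper14.PGraph1

namespace Cfsg.Agent.Lib.Helper14.PGraph

open Polynomial

universe u v

variable {F : Type u} [Field F] [Fintype F]

/-- A unit of order `t` coprime to `q - 1` in a commutative `F`-algebra of dimension `n` gives an
element of order `t` in `SL_n(F)`. -/
theorem exists_sl_of_order (n : ℕ) (E : Type v) [CommRing E] [Algebra F E] [Module.Finite F E]
    (hE : Module.finrank F E = n) (u : E) (t : ℕ) (ht : orderOf u = t) (htpos : 0 < t)
    (hcop : Nat.Coprime t (Fintype.card F - 1)) :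
    ∃ g : Matrix.SpecialLinearGroup (Fin n) F, orderOf g = t := by
  classical
  let b := Module.finBasisOfFinrankEq F E hE
  have hut : u ^ t = 1 := ht ▸ pow_orderOf_eq_one u
  have hdet : (Algebra.leftMulMatrix b u).det = Algebra.norm F u :=
    (Algebra.norm_eq_matrix_det b u).symm
  have hN1 : (Algebra.norm F u) ^ t = 1 := by rw [← map_pow, hut, map_one]
  have hN0 : Algebra.norm F u ≠ 0 := by
    intro h0
    rw [h0, zero_pow htpos.ne'] at hN1
    exact zero_ne_one hN1
  have hN2 : (Algebra.norm F u) ^ (Fintype.card F - 1) = 1 :=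
    FiniteField.pow_card_sub_one_eq_one _ hN0
  have hN : Algebra.norm F u = 1 := by
    have h1 := orderOf_dvd_of_pow_eq_one hN1
    have h2 := orderOf_dvd_of_pow_eq_one hN2
    have h3 : orderOf (Algebra.norm F u) ∣ 1 := by
      have := Nat.dvd_gcd h1 h2
      rwa [hcop] at this
    exact orderOf_eq_one_iff.mp (Nat.dvd_one.mp h3)
  let g : Matrix.SpecialLinearGroup (Fin n) F := ⟨Algebra.leftMulMatrix b u, by rw [hdet, hN]⟩
  refine ⟨g, ?_⟩
  rw [← ht]
  apply orderOf_eq_orderOf_iff.mpr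
  intro j
  have hgj : ((g ^ j : Matrix.SpecialLinearGroup (Fin n) F) : Matrix (Fin n) (Fin n) F)
      = Algebra.leftMulMatrix b (u ^ j) := by
    rw [Matrix.SpecialLinearGroup.coe_pow, map_pow]
  constructor
  · intro h
    apply Algebra.leftMulMatrix_injective b
    rw [← hgj, h, map_one]
    rfl
  · intro h
    apply Subtype.ext
    rw [hgj, h, map_one]
    rfl

/-- Elements of `SL_n(F)` of order coprime to `q - 1` keep their order in `PSL_n(F)`. -/
theorem orderOf_mk_psl (n : ℕ) (g : Matrix.SpecialLinearGroup (Fin n) F)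
    (hcop : Nat.Coprime (orderOf g) (Fintype.card F - 1)) :
    orderOf (QuotientGroup.mk g : Matrix.ProjectiveSpecialLinearGroup (Fin n) F) = orderOf g := by
  rcases Nat.eq_zero_or_pos n with rfl | hn
  · have hg : g = 1 := Subtype.ext (Subsingleton.elim _ _)
    rw [hg, QuotientGroup.mk_one, orderOf_one, orderOf_one]
  have hnz : NeZero n := ⟨hn.ne'⟩
  apply Nat.dvd_antisymm
  · exact orderOf_map_dvd (QuotientGroup.mk' _) g
  · have h1 : (QuotientGroup.mk g : Matrix.ProjectiveSpecialLinearGroup (Fin n) F) ^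
        orderOf (QuotientGroup.mk g : Matrix.ProjectiveSpecialLinearGroup (Fin n) F) = 1 :=
      pow_orderOf_eq_one _
    rw [← QuotientGroup.mk_pow, QuotientGroup.eq_one_iff,
      Matrix.SpecialLinearGroup.mem_center_iff] at h1
    obtain ⟨c, hc, hcz⟩ := h1
    have hc0 : c ≠ 0 := by
      intro h0
      rw [h0, Fintype.card_fin, zero_pow hn.ne'] at hc
      exact zero_ne_one hc
    have h2 : (g ^ orderOf (QuotientGroup.mk g : Matrix.ProjectiveSpecialLinearGroup (Fin n) F)) ^
        (Fintype.card F - 1) = 1 := by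
      apply Subtype.ext
      rw [Matrix.SpecialLinearGroup.coe_pow, ← hcz, ← map_pow,
        FiniteField.pow_card_sub_one_eq_one c hc0, map_one]
      rfl
    rw [← pow_mul] at h2
    exact hcop.dvd_of_dvd_mul_right (orderOf_dvd_of_pow_eq_one h2)


omit [Fintype F] in
theorem natCast_ne_zero_of_ne (p : ℕ) [Fact p.Prime] [CharP F p] (r : ℕ) (hr : r.Prime)
    (hrp : r ≠ p) : (r : F) ≠ 0 := by
  intro h0
  rw [CharP.cast_eq_zero_iff F p] at h0
  have hp : p.Prime := Fact.out
  exact hrp ((Nat.prime_dvd_prime_iff_eq hp hr).mp h0).symm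

/-- No element of order `r s` in `PSL_n(F)` when `n < k + l` and `k ∤ l`. -/
theorem psl_nonexist (p : ℕ) [Fact p.Prime] [CharP F p] (n : ℕ) (r s : ℕ) (hr : r.Prime)
    (hs : s.Prime) (hrp : r ≠ p) (hsp : s ≠ p)
    (hkl : orderOf ((Fintype.card F : ℕ) : ZMod r) ≤ orderOf ((Fintype.card F : ℕ) : ZMod s))
    (hn : n < orderOf ((Fintype.card F : ℕ) : ZMod r) + orderOf ((Fintype.card F : ℕ) : ZMod s))
    (hnd : ¬ orderOf ((Fintype.card F : ℕ) : ZMod r) ∣ orderOf ((Fintype.card F : ℕ) : ZMod s))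
    (x : Matrix.ProjectiveSpecialLinearGroup (Fin n) F) (hx : orderOf x = r * s) : False := by
  classical
  obtain ⟨g, rfl⟩ := QuotientGroup.mk_surjective x
  have hdvd : r * s ∣ orderOf g := hx ▸ orderOf_map_dvd (QuotientGroup.mk' _) g
  obtain ⟨m', hm'⟩ := hdvd
  have hpos : 0 < orderOf g := orderOf_pos g
  have hr2 := hr.two_le
  have hs2 := hs.two_le
  have hm'pos : 0 < m' := by
    rcases Nat.eq_zero_or_pos m' with h0 | h0
    · rw [h0, mul_zero] at hm'
      omega
    · exact h0
  have har : (g ^ (s * m')) ^ r = 1 := by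
    rw [← pow_mul, show s * m' * r = orderOf g by rw [hm']; ring, pow_orderOf_eq_one]
  have hbs : (g ^ (r * m')) ^ s = 1 := by
    rw [← pow_mul, show r * m' * s = orderOf g by rw [hm']; ring, pow_orderOf_eq_one]
  have ha1 : g ^ (s * m') ≠ 1 := by
    intro h
    have h1 := Nat.le_of_dvd (Nat.mul_pos hs.pos hm'pos) (orderOf_dvd_of_pow_eq_one h)
    rw [hm'] at h1
    nlinarith [Nat.mul_pos hs.pos hm'pos]
  have hb1 : g ^ (r * m') ≠ 1 := by
    intro h
    have h1 := Nat.le_of_dvd (Nat.mul_pos hr.pos hm'pos) (orderOf_dvd_of_pow_eq_one h)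
    rw [hm'] at h1
    nlinarith [Nat.mul_pos hr.pos hm'pos]
  have hab : g ^ (s * m') * g ^ (r * m') = g ^ (r * m') * g ^ (s * m') :=
    (Commute.pow_pow_self g _ _).eq
  have hinj : Function.Injective (fun M : Matrix (Fin n) (Fin n) F => Matrix.toLinAlgEquiv' M) :=
    (Matrix.toLinAlgEquiv' (R := F) (n := Fin n)).injective
  apply hnd
  apply core_nonexist (V := Fin n → F)
    (Matrix.toLinAlgEquiv' ((g ^ (s * m') : Matrix.SpecialLinearGroup (Fin n) F) :
      Matrix (Fin n) (Fin n) F))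
    (Matrix.toLinAlgEquiv' ((g ^ (r * m') : Matrix.SpecialLinearGroup (Fin n) F) :
      Matrix (Fin n) (Fin n) F)) _ r s hr hs (natCast_ne_zero_of_ne p r hr hrp)
    (natCast_ne_zero_of_ne p s hs hsp) _ _ _ _ hkl
  · rw [Module.finrank_fin_fun]
    exact hn
  · rw [← map_mul, ← map_mul, ← Matrix.SpecialLinearGroup.coe_mul,
      ← Matrix.SpecialLinearGroup.coe_mul, hab]
  · rw [← map_pow, ← Matrix.SpecialLinearGroup.coe_pow, har]
    exact map_one _
  · intro h
    apply ha1
    apply Subtype.ext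
    apply hinj
    show Matrix.toLinAlgEquiv' _ = Matrix.toLinAlgEquiv' _
    rw [h]
    exact (map_one _).symm
  · rw [← map_pow, ← Matrix.SpecialLinearGroup.coe_pow, hbs]
    exact map_one _
  · intro h
    apply hb1
    apply Subtype.ext
    apply hinj
    show Matrix.toLinAlgEquiv' _ = Matrix.toLinAlgEquiv' _
    rw [h]
    exact (map_one _).symm


theorem dvd_pow_sub_one (r d : ℕ) (h : ((Fintype.card F : ℕ) : ZMod r) ^ d = 1) :
    r ∣ Fintype.card F ^ d - 1 := by
  have hpos : 1 ≤ Fintype.card F ^ d := Nat.one_le_pow _ _ Fintype.card_pos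
  rw [← ZMod.natCast_eq_zero_iff, Nat.cast_sub hpos, Nat.cast_pow, Nat.cast_one, h, sub_self]

/-- The degree `d` extension of `F` contains elements of every order dividing `q^d - 1`. -/
theorem exists_order_ext (p : ℕ) [Fact p.Prime] [CharP F p] (d : ℕ) [NeZero d] (t : ℕ)
    (ht : t ∣ Fintype.card F ^ d - 1) :
    ∃ u : FiniteField.Extension F p d, orderOf u = t := by
  have hcard : Nat.card (FiniteField.Extension F p d)ˣ = Fintype.card F ^ d - 1 := by
    rw [Nat.card_units, FiniteField.natCard_extension, Nat.card_eq_fintype_card]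
  obtain ⟨g, hg⟩ := IsCyclic.exists_ofOrder_eq_natCard (α := (FiniteField.Extension F p d)ˣ)
  rw [hcard] at hg
  have hNpos : 0 < Fintype.card F ^ d - 1 := by
    have h2 : 2 ≤ Fintype.card F := Fintype.one_lt_card
    have hd : d ≠ 0 := NeZero.ne d
    have : 2 ^ 1 ≤ Fintype.card F ^ d :=
      (Nat.pow_le_pow_left h2 1).trans (Nat.pow_le_pow_right (by omega) (by omega))
    omega
  obtain ⟨c, hc⟩ := ht
  have htpos : 0 < t := by
    rcases Nat.eq_zero_or_pos t with h0 | h0
    · rw [h0, zero_mul] at hc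
      omega
    · exact h0
  have hcpos : 0 < c := by
    rcases Nat.eq_zero_or_pos c with h0 | h0
    · rw [h0, mul_zero] at hc
      omega
    · exact h0
  refine ⟨((g ^ c : (FiniteField.Extension F p d)ˣ) : FiniteField.Extension F p d), ?_⟩
  rw [orderOf_units, orderOf_pow_of_dvd hcpos.ne' (by rw [hg, hc]; exact dvd_mul_left c t), hg,
    hc, Nat.mul_div_cancel _ hcpos]

theorem coprime_of_two_le (r : ℕ) (hr : r.Prime)
    (h2 : 2 ≤ orderOf ((Fintype.card F : ℕ) : ZMod r)) :
    Nat.Coprime r (Fintype.card F - 1) := by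
  rw [Nat.Prime.coprime_iff_not_dvd hr]
  intro hd
  have hpos : 1 ≤ Fintype.card F := Fintype.card_pos
  have h1 : ((Fintype.card F : ℕ) : ZMod r) = 1 := by
    have := (ZMod.natCast_eq_zero_iff (Fintype.card F - 1) r).mpr hd
    rw [Nat.cast_sub hpos, Nat.cast_one, sub_eq_zero] at this
    exact this
  rw [h1, orderOf_one] at h2
  omega

/-- Existence of an element of order `r s` in `PSL_n(F)`. -/
theorem psl_exist (p : ℕ) [Fact p.Prime] [CharP F p] (n : ℕ) (r s : ℕ) (hr : r.Prime)
    (hs : s.Prime) (hrs : r ≠ s)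
    (h2k : 2 ≤ orderOf ((Fintype.card F : ℕ) : ZMod r))
    (hkl : orderOf ((Fintype.card F : ℕ) : ZMod r) ≤ orderOf ((Fintype.card F : ℕ) : ZMod s))
    (hln : orderOf ((Fintype.card F : ℕ) : ZMod s) ≤ n)
    (h : orderOf ((Fintype.card F : ℕ) : ZMod r) + orderOf ((Fintype.card F : ℕ) : ZMod s) ≤ n ∨
      orderOf ((Fintype.card F : ℕ) : ZMod r) ∣ orderOf ((Fintype.card F : ℕ) : ZMod s)) :
    ∃ x : Matrix.ProjectiveSpecialLinearGroup (Fin n) F, orderOf x = r * s := by
  have hcr := coprime_of_two_le r hr h2k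
  have hcs := coprime_of_two_le s hs (h2k.trans hkl)
  have hcop : Nat.Coprime (r * s) (Fintype.card F - 1) := Nat.Coprime.mul_left hcr hcs
  have hrs' : Nat.Coprime r s := (Nat.coprime_primes hr hs).mpr hrs
  have hpos : 0 < r * s := Nat.mul_pos hr.pos hs.pos
  have hr1 := dvd_pow_sub_one (F := F) r _ (pow_orderOf_eq_one ((Fintype.card F : ℕ) : ZMod r))
  have hs1 := dvd_pow_sub_one (F := F) s _ (pow_orderOf_eq_one ((Fintype.card F : ℕ) : ZMod s))
  generalize hkdef : orderOf ((Fintype.card F : ℕ) : ZMod r) = k at *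
  generalize hldef : orderOf ((Fintype.card F : ℕ) : ZMod s) = l at *
  have hk0 : NeZero k := ⟨by omega⟩
  have hl0 : NeZero l := ⟨by omega⟩
  suffices hsl : ∃ g : Matrix.SpecialLinearGroup (Fin n) F, orderOf g = r * s by
    obtain ⟨g, hg⟩ := hsl
    exact ⟨QuotientGroup.mk g, by rw [orderOf_mk_psl n g (hg ▸ hcop), hg]⟩
  rcases h with h | h
  · obtain ⟨u₁, hu₁⟩ := exists_order_ext (F := F) p k r hr1
    obtain ⟨u₂, hu₂⟩ := exists_order_ext (F := F) p l s hs1
    apply exists_sl_of_order n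
      (FiniteField.Extension F p k × FiniteField.Extension F p l × (Fin (n - k - l) → F))
      _ (u₁, u₂, 1) (r * s) _ hpos hcop
    · rw [Module.finrank_prod, Module.finrank_prod, FiniteField.finrank_extension,
        FiniteField.finrank_extension, Module.finrank_fin_fun]
      omega
    · rw [Prod.orderOf_mk, Prod.orderOf_mk, hu₁, hu₂, orderOf_one, Nat.lcm_one_right,
        hrs'.lcm_eq_mul]
  · have hrl : r ∣ Fintype.card F ^ l - 1 := by
      apply dvd_pow_sub_one
      rw [← hkdef] at h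
      exact orderOf_dvd_iff_pow_eq_one.mp h
    obtain ⟨u, hu⟩ := exists_order_ext (F := F) p l (r * s)
      (hrs'.mul_dvd_of_dvd_of_dvd hrl hs1)
    apply exists_sl_of_order n
      (FiniteField.Extension F p l × (Fin (n - l) → F))
      _ (u, 1) (r * s) _ hpos hcop
    · rw [Module.finrank_prod, FiniteField.finrank_extension, Module.finrank_fin_fun]
      omega
    · rw [Prod.orderOf_mk, hu, orderOf_one, Nat.lcm_one_right]


/-- A prime `s ≠ p` dividing `|PSL_n(F)|` has the order of `q` modulo `s` at most `n`. -/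
theorem ord_le_of_dvd_card (p : ℕ) [Fact p.Prime] [CharP F p] (n : ℕ) (s : ℕ) (hs : s.Prime)
    (hsp : s ≠ p) (hsG : s ∣ Nat.card (Matrix.ProjectiveSpecialLinearGroup (Fin n) F)) :
    orderOf ((Fintype.card F : ℕ) : ZMod s) ≤ n := by
  classical
  have h1 : Nat.card (Matrix.ProjectiveSpecialLinearGroup (Fin n) F)
      ∣ Nat.card (Matrix.SpecialLinearGroup (Fin n) F) :=
    ⟨_, Subgroup.card_eq_card_quotient_mul_card_subgroup
      (Subgroup.center (Matrix.SpecialLinearGroup (Fin n) F))⟩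
  have h2 : Nat.card (Matrix.SpecialLinearGroup (Fin n) F) ∣ Nat.card (GL (Fin n) F) :=
    Subgroup.card_dvd_of_injective Matrix.SpecialLinearGroup.toGL
      Matrix.SpecialLinearGroup.toGL_injective
  have h3 := hsG.trans (h1.trans h2)
  rw [Matrix.card_GL_field] at h3
  obtain ⟨i, -, hi⟩ := (Prime.dvd_finset_prod_iff hs.prime _).mp h3
  have hin : (i : ℕ) < n := i.2
  have heq : Fintype.card F ^ n - Fintype.card F ^ (i : ℕ)
      = Fintype.card F ^ (i : ℕ) * (Fintype.card F ^ (n - (i : ℕ)) - 1) := by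
    rw [Nat.mul_sub, mul_one, ← pow_add]
    congr 2
    omega
  rw [heq] at hi
  rcases (Nat.Prime.dvd_mul hs).mp hi with h4 | h4
  · exfalso
    have h5 := hs.dvd_of_dvd_pow h4
    obtain ⟨e, hp, he⟩ := FiniteField.card F p
    rw [he] at h5
    have h6 := hs.dvd_of_dvd_pow h5
    exact hsp ((Nat.prime_dvd_prime_iff_eq hs hp).mp h6)
  · have hpos : 1 ≤ Fintype.card F ^ (n - (i : ℕ)) := Nat.one_le_pow _ _ Fintype.card_pos
    have h5 : ((Fintype.card F : ℕ) : ZMod s) ^ (n - (i : ℕ)) = 1 := by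
      have := (ZMod.natCast_eq_zero_iff _ s).mpr h4
      rw [Nat.cast_sub hpos, Nat.cast_pow, Nat.cast_one, sub_eq_zero] at this
      exact this
    have h6 := Nat.le_of_dvd (by omega) (orderOf_dvd_of_pow_eq_one h5)
    omega

end Cfsg.Agent.Lib.Helper14.PGraph
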