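import Mathlib
import Cfsg.Agent.Lib.Helper14.PGraph2

namespace Cfsg.Agent.Lib.Helper14.PGraph

open Polynomial Cfsg.Agent.Lib.Helper14.SSConj

universe u v

variable {F : Type u} [Field F] {V : Type v} [AddCommGroup V] [Module F V]

theorem commute_aeval (S N : Module.End F V) (h : Commute S N) (g : F[X]) :
    Commute (Polynomial.aeval S g) N := by
  induction g using Polynomial.induction_on' with
  | add p q hp hq =>
    rw [map_add]
    exact hp.add_left hq
  | monomial n a =>
    rw [Polynomial.aeval_monomial]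
    exact (Algebra.commute_algebraMap_left a N).mul_left (h.pow_left n)

theorem aeval_restrict_apply (A : Module.End F V) (W : Submodule F V) (hW : W ∈ A.invtSubmodule)
    (g : F[X]) (x : W) : ((Polynomial.aeval (A.restrict hW) g) x : V) = (Polynomial.aeval A g) x := by
  induction g using Polynomial.induction_on' with
  | add p q hp hq =>
    rw [map_add, map_add, LinearMap.add_apply, LinearMap.add_apply, Submodule.coe_add, hp, hq]
  | monomial n a =>
    rw [Polynomial.aeval_monomial, Polynomial.aeval_monomial, Module.End.mul_apply,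
      Module.End.mul_apply, Module.algebraMap_end_apply, Module.algebraMap_end_apply,
      Submodule.coe_smul, restrict_pow_apply]

/-- Refined peeling with the explicit formula for the equivalence. -/
theorem peel' (φ : Module.End F V) (hφ : φ.IsSemisimple) (f : F[X]) (hf : Irreducible f)
    (v : V) (hv0 : v ≠ 0) (hv : (Polynomial.aeval φ f) v = 0) :
    ∃ (U' : Submodule F V) (hU' : U' ∈ φ.invtSubmodule) (Θ : (AdjoinRoot f × U') ≃ₗ[F] V),
      (∀ (a : AdjoinRoot f) (u' : U'), Θ (a, u') = cyc φ v f hv a + (u' : V)) ∧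
      ∀ (a : AdjoinRoot f) (u' : U'),
        φ (Θ (a, u')) = Θ (AdjoinRoot.root f * a, φ.restrict hU' u') := by
  have hT := cyc_injective φ v f hf hv hv0
  have hU : LinearMap.range (cyc φ v f hv) ∈ φ.invtSubmodule := by
    rw [Module.End.mem_invtSubmodule]
    rintro x ⟨a, rfl⟩
    show φ (cyc φ v f hv a) ∈ LinearMap.range (cyc φ v f hv)
    rw [cyc_root_mul]
    exact ⟨_, rfl⟩
  obtain ⟨U', hU', hc⟩ := Module.End.isSemisimple_iff.mp hφ _ hU
  have h1 : ∀ (b : AdjoinRoot f) (w : U'),
      (((LinearEquiv.ofInjective (cyc φ v f hv) hT).prodCongr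
        (LinearEquiv.refl F U')).trans (Submodule.prodEquivOfIsCompl _ U' hc)) (b, w)
        = cyc φ v f hv b + (w : V) := by
    intro b w
    simp [Submodule.coe_prodEquivOfIsCompl']
  refine ⟨U', hU', ((LinearEquiv.ofInjective (cyc φ v f hv) hT).prodCongr
    (LinearEquiv.refl F U')).trans (Submodule.prodEquivOfIsCompl _ U' hc), h1, ?_⟩
  intro a u'
  rw [h1, h1, map_add, cyc_root_mul]
  rfl

variable [FiniteDimensional F V]

theorem exists_monic_irreducible_ker [Nontrivial V] (φ : Module.End F V) :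
    ∃ f : F[X], f.Monic ∧ Irreducible f ∧ ∃ v : V, v ≠ 0 ∧ (Polynomial.aeval φ f) v = 0 := by
  have hnu : ¬ IsUnit (minpoly F φ) := minpoly.not_isUnit F φ
  obtain ⟨f, hfm, hirr, hdvd⟩ := Polynomial.exists_monic_irreducible_factor _ hnu
  refine ⟨f, hfm, hirr, ?_⟩
  obtain ⟨g, hg⟩ := hdvd
  have hg0 : g ≠ 0 := by
    rintro rfl
    rw [mul_zero] at hg
    exact minpoly.ne_zero (Algebra.IsIntegral.isIntegral φ) hg
  have hgφ : Polynomial.aeval φ g ≠ 0 := by
    intro h0
    have h1 : minpoly F φ ∣ g := minpoly.dvd F φ h0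
    rw [hg] at h1
    have h2 : f * g ∣ 1 * g := by rwa [one_mul]
    have h3 : f ∣ 1 := (mul_dvd_mul_iff_right hg0).mp h2
    exact hirr.not_isUnit (isUnit_of_dvd_one h3)
  obtain ⟨x, hx⟩ : ∃ x, (Polynomial.aeval φ g) x ≠ 0 := by
    by_contra hcon
    push Not at hcon
    exact hgφ (LinearMap.ext hcon)
  refine ⟨(Polynomial.aeval φ g) x, hx, ?_⟩
  rw [← Module.End.mul_apply, ← map_mul, ← hg, minpoly.aeval, LinearMap.zero_apply]

omit [FiniteDimensional F V] in
/-- An irreducible polynomial with a kernel vector divides every annihilating polynomial. -/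
theorem dvd_of_ker (S : Module.End F V) (f P : F[X]) (hf : Irreducible f) (w : V) (hw0 : w ≠ 0)
    (hw : (Polynomial.aeval S f) w = 0) (hP : Polynomial.aeval S P = 0) : f ∣ P := by
  by_contra hnd
  obtain ⟨a, b, hab⟩ := (Irreducible.coprime_iff_not_dvd hf).mpr hnd
  apply hw0
  have h1 : (Polynomial.aeval S (a * f + b * P)) w = w := by
    rw [hab, map_one, Module.End.one_apply]
  rw [map_add, map_mul, map_mul, hP, mul_zero, add_zero, Module.End.mul_apply, hw, map_zero] at h1
  exact h1.symm

/-- Irreducible factors of the characteristic polynomial divide every annihilating polynomial. -/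
theorem dvd_of_dvd_charpoly (S : Module.End F V) (g P : F[X]) (hg : Irreducible g)
    (hgd : g ∣ S.charpoly) (hP : Polynomial.aeval S P = 0) : g ∣ P := by
  obtain ⟨w, hw0, hw⟩ := exists_ker_of_dvd_charpoly S g hg hgd
  exact dvd_of_ker S g P hg w hw0 hw hP

/-- A semisimple endomorphism whose characteristic polynomial divides a power of `g` is killed
by `g`. -/
theorem aeval_eq_zero_of_charpoly_dvd_pow (S : Module.End F V) (hS : S.IsSemisimple) (g : F[X])
    (m : ℕ) (hm : m ≠ 0) (h : S.charpoly ∣ g ^ m) : Polynomial.aeval S g = 0 := by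
  have h1 : Polynomial.aeval S (g ^ m) = 0 := by
    obtain ⟨c, hc⟩ := h
    rw [hc, map_mul, LinearMap.aeval_self_charpoly, zero_mul]
  have h2 : minpoly F S ∣ g ^ m := minpoly.dvd F S h1
  rw [hS.minpoly_squarefree.dvd_pow_iff_dvd hm] at h2
  obtain ⟨c, hc⟩ := h2
  rw [hc, map_mul, minpoly.aeval, zero_mul]


/-- A semisimple endomorphism commuting with a non-zero nilpotent one has a repeated irreducible
factor in its characteristic polynomial. -/
theorem sq_dvd_charpoly (S N : Module.End F V) (hS : S.IsSemisimple) (hSN : Commute S N)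
    (hN : IsNilpotent N) (hN0 : N ≠ 0) :
    ∃ f : F[X], f.Monic ∧ Irreducible f ∧ ∃ c : F[X], S.charpoly = f * f * c := by
  classical
  -- maximal non-vanishing power
  obtain ⟨j, hj1, hj, hj'⟩ : ∃ j : ℕ, 1 ≤ j ∧ N ^ j ≠ 0 ∧ N ^ (j + 1) = 0 := by
    have hex : ∃ m, N ^ m = 0 := hN
    have hm := Nat.find_spec hex
    have hm0 : Nat.find hex ≠ 0 := by
      intro h0
      rw [h0, pow_zero] at hm
      apply hN0
      rw [← mul_one N, hm, mul_zero]
    have hm1 : Nat.find hex ≠ 1 := by
      intro h1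
      rw [h1, pow_one] at hm
      exact hN0 hm
    refine ⟨Nat.find hex - 1, by omega, ?_, ?_⟩
    · exact Nat.find_min hex (by omega)
    · rw [show Nat.find hex - 1 + 1 = Nat.find hex by omega]
      exact hm
  have hjj : ∀ y, (N ^ j) ((N ^ j) y) = 0 := by
    intro y
    rw [← Module.End.mul_apply, ← pow_add, show j + j = (j + 1) + (j - 1) by omega, pow_add, hj',
      zero_mul, LinearMap.zero_apply]
  have hSNj : Commute S (N ^ j) := hSN.pow_right j
  -- the invariant subspace R = range N^j
  have hR : LinearMap.range (N ^ j) ∈ S.invtSubmodule := by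
    rw [Module.End.mem_invtSubmodule]
    rintro x ⟨y, rfl⟩
    refine ⟨S y, ?_⟩
    have := congrArg (fun T : Module.End F V => T y) hSNj.eq
    simp only [Module.End.mul_apply] at this
    exact this.symm
  have hRnt : Nontrivial (LinearMap.range (N ^ j)) := by
    rw [Submodule.nontrivial_iff_ne_bot]
    intro hbot
    apply hj
    apply LinearMap.ext
    intro y
    have : (N ^ j) y ∈ LinearMap.range (N ^ j) := ⟨y, rfl⟩
    rw [hbot, Submodule.mem_bot] at this
    rw [this, LinearMap.zero_apply]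
  obtain ⟨f, hfm, hirr, w, hw0, hw⟩ := exists_monic_irreducible_ker (S.restrict hR)
  have hw' : (Polynomial.aeval S f) (w : V) = 0 := by
    rw [← aeval_restrict_apply S _ hR f w, hw]
    rfl
  have hw0' : (w : V) ≠ 0 := fun h => hw0 (Subtype.ext h)
  obtain ⟨x₀, hx₀⟩ : ∃ x₀, (N ^ j) x₀ = (w : V) := w.2
  have hNw : (N ^ j) (w : V) = 0 := by rw [← hx₀, hjj]
  refine ⟨f, hfm, hirr, ?_⟩
  obtain ⟨U', hU', Θ, hΘ, hint⟩ := peel' S hS f hirr (w : V) hw0' hw'
  -- the CRT element
  have hfμ : f ∣ minpoly F S := dvd_of_ker S f _ hirr (w : V) hw0' hw' (minpoly.aeval F S)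
  obtain ⟨g, hg⟩ := hfμ
  have hsq : Squarefree (f * g) := hg ▸ hS.minpoly_squarefree
  have hcop : IsCoprime f g := isRelPrime_iff_isCoprime.mp (squarefree_mul_iff.mp hsq).1
  obtain ⟨a, b, hab⟩ := hcop
  have hx₁f : (Polynomial.aeval S f) ((Polynomial.aeval S (b * g)) x₀) = 0 := by
    rw [← Module.End.mul_apply, ← map_mul, show f * (b * g) = b * (f * g) by ring, ← hg, map_mul,
      minpoly.aeval, mul_zero, LinearMap.zero_apply]
  have hx₁N : (N ^ j) ((Polynomial.aeval S (b * g)) x₀) = (w : V) := by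
    have hc := (commute_aeval S (N ^ j) hSNj (b * g)).eq
    have h1 := congrArg (fun T : Module.End F V => T x₀) hc
    simp only [Module.End.mul_apply] at h1
    rw [← h1, hx₀]
    have h2 : b * g = 1 - a * f := by rw [← hab]; ring
    rw [h2, map_sub, map_one, map_mul, LinearMap.sub_apply, Module.End.one_apply,
      Module.End.mul_apply, hw', map_zero, sub_zero]
  obtain ⟨⟨a₁, u₁⟩, hau⟩ := Θ.surjective ((Polynomial.aeval S (b * g)) x₀)
  rw [hΘ] at hau
  obtain ⟨p₁, rfl⟩ := AdjoinRoot.mk_surjective a₁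
  rw [cyc_mk] at hau
  have hcyc_f : (Polynomial.aeval S f) ((Polynomial.aeval S p₁) (w : V)) = 0 := by
    rw [← Module.End.mul_apply, ← map_mul, mul_comm, map_mul, Module.End.mul_apply, hw', map_zero]
  have hcyc_N : (N ^ j) ((Polynomial.aeval S p₁) (w : V)) = 0 := by
    have hc := (commute_aeval S (N ^ j) hSNj p₁).eq
    have h1 := congrArg (fun T : Module.End F V => T (w : V)) hc
    simp only [Module.End.mul_apply] at h1
    rw [← h1, hNw, map_zero]
  have hu₁0 : u₁ ≠ 0 := by
    rintro rfl
    rw [Submodule.coe_zero, add_zero] at hau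
    rw [← hau, hcyc_N] at hx₁N
    exact hw0' hx₁N.symm
  have hu₁f : (Polynomial.aeval S f) (u₁ : V) = 0 := by
    have h1 := hx₁f
    rw [← hau, map_add, hcyc_f, zero_add] at h1
    exact h1
  have hu₁f' : (Polynomial.aeval (S.restrict hU') f) u₁ = 0 := by
    apply Subtype.ext
    rw [aeval_restrict_apply S U' hU' f u₁, hu₁f]
    rfl
  obtain ⟨U'', hU'', Θ', hint'⟩ := peel (S.restrict hU') (hS.restrict hU') f hirr u₁ hu₁0 hu₁f'
  have hK : Module.Finite F (AdjoinRoot f) := (AdjoinRoot.powerBasis hirr.ne_zero).finite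
  have c1 := peel_charpoly S f U' hU' Θ hint
  have c2 := peel_charpoly (S.restrict hU') f U'' hU'' Θ' hint'
  rw [charpoly_mulRoot f hfm hirr.ne_zero] at c1 c2
  exact ⟨_, by rw [c1, c2, mul_assoc]⟩

end Cfsg.Agent.Lib.Helper14.PGraph
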