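import Mathlib
import Cfsg.Agent.Lib.Helper14.PGraph3

namespace Cfsg.Agent.Lib.Helper14.PGraph

open Polynomial Cfsg.Agent.Lib.Helper14.SSConj

universe u v

variable {F : Type u} [Field F] {V : Type v} [AddCommGroup V] [Module F V]
  [FiniteDimensional F V]

/-- Dimension two: a semisimple endomorphism commuting with a non-zero nilpotent is scalar. -/
theorem case_two (S N : Module.End F V) (hS : S.IsSemisimple) (hSN : Commute S N)
    (hN : IsNilpotent N) (hN0 : N ≠ 0) (hdim : Module.finrank F V = 2) :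
    ∃ a : F, S = a • (1 : Module.End F V) := by
  obtain ⟨f, hfm, hirr, c, hc⟩ := sq_dvd_charpoly S N hS hSN hN hN0
  have hχm : S.charpoly.Monic := LinearMap.charpoly_monic S
  have hcm : c.Monic := (hfm.mul hfm).of_mul_monic_left (hc ▸ hχm)
  have hdeg : S.charpoly.natDegree = 2 := by rw [LinearMap.charpoly_natDegree, hdim]
  rw [hc, (hfm.mul hfm).natDegree_mul hcm, hfm.natDegree_mul hfm] at hdeg
  have hf1 : 0 < f.natDegree := hirr.natDegree_pos
  have hc1 : c = 1 := Polynomial.eq_one_of_monic_natDegree_zero hcm (by omega)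
  have hf2 : f.natDegree = 1 := by omega
  have h0 : Polynomial.aeval S f = 0 := by
    apply aeval_eq_zero_of_charpoly_dvd_pow S hS f 2 (by norm_num)
    rw [hc, hc1, mul_one, pow_two]
  rw [hfm.eq_X_add_C hf2, map_add, Polynomial.aeval_X, Polynomial.aeval_C,
    Algebra.algebraMap_eq_smul_one] at h0
  refine ⟨-(f.coeff 0), ?_⟩
  rw [neg_smul]
  exact eq_neg_of_add_eq_zero_left h0

/-- Dimension three: a non-scalar semisimple endomorphism of determinant one with scalar cube
commuting with a non-zero nilpotent forces an element of order nine in the field. -/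
theorem case_three (S N : Module.End F V) (hS : S.IsSemisimple) (hSN : Commute S N)
    (hN : IsNilpotent N) (hN0 : N ≠ 0) (hdim : Module.finrank F V = 3)
    (hdet : LinearMap.det S = 1) (c : F) (hS3 : S ^ 3 = c • (1 : Module.End F V))
    (hns : ∀ a : F, S ≠ a • (1 : Module.End F V)) : ∃ a : F, a ^ 9 = 1 ∧ a ^ 3 ≠ 1 := by
  obtain ⟨f, hfm, hirr, g, hg⟩ := sq_dvd_charpoly S N hS hSN hN hN0
  have hχm : S.charpoly.Monic := LinearMap.charpoly_monic S
  have hgm : g.Monic := (hfm.mul hfm).of_mul_monic_left (hg ▸ hχm)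
  have hdeg : S.charpoly.natDegree = 3 := by rw [LinearMap.charpoly_natDegree, hdim]
  rw [hg, (hfm.mul hfm).natDegree_mul hgm, hfm.natDegree_mul hfm] at hdeg
  have hf1 : 0 < f.natDegree := hirr.natDegree_pos
  have hf2 : f.natDegree = 1 := by omega
  have hg2 : g.natDegree = 1 := by omega
  have hfe := hfm.eq_X_add_C hf2
  have hge := hgm.eq_X_add_C hg2
  generalize f.coeff 0 = a₀ at hfe
  generalize g.coeff 0 = b₀ at hge
  -- the annihilating polynomial
  have hP : Polynomial.aeval S (X ^ 3 - C c : F[X]) = 0 := by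
    rw [map_sub, map_pow, Polynomial.aeval_X, Polynomial.aeval_C, Algebra.algebraMap_eq_smul_one,
      hS3, sub_self]
  have hfP : f ∣ (X ^ 3 - C c : F[X]) :=
    dvd_of_dvd_charpoly S f _ hirr ⟨f * g, by rw [hg]; ring⟩ hP
  have hgirr : Irreducible g := by
    apply Polynomial.irreducible_of_degree_eq_one
    rw [hge]
    exact Polynomial.degree_X_add_C b₀
  have hgP : g ∣ (X ^ 3 - C c : F[X]) :=
    dvd_of_dvd_charpoly S g _ hgirr ⟨f * f, by rw [hg]; ring⟩ hP
  have ha3 : (-a₀) ^ 3 = c := by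
    obtain ⟨h, hh⟩ := hfP
    have := congrArg (Polynomial.eval (-a₀)) hh
    rw [hfe] at this
    simp only [Polynomial.eval_sub, Polynomial.eval_pow, Polynomial.eval_X, Polynomial.eval_C,
      Polynomial.eval_mul, Polynomial.eval_add, neg_add_cancel, zero_mul] at this
    exact sub_eq_zero.mp this
  have hb3 : (-b₀) ^ 3 = c := by
    obtain ⟨h, hh⟩ := hgP
    have := congrArg (Polynomial.eval (-b₀)) hh
    rw [hge] at this
    simp only [Polynomial.eval_sub, Polynomial.eval_pow, Polynomial.eval_X, Polynomial.eval_C,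
      Polynomial.eval_mul, Polynomial.eval_add, neg_add_cancel, zero_mul] at this
    exact sub_eq_zero.mp this
  have hab : a₀ ≠ b₀ := by
    intro h
    have h0 : Polynomial.aeval S f = 0 := by
      apply aeval_eq_zero_of_charpoly_dvd_pow S hS f 3 (by norm_num)
      rw [hg, hge, ← h, ← hfe]
      exact ⟨1, by ring⟩
    rw [hfe, map_add, Polynomial.aeval_X, Polynomial.aeval_C,
      Algebra.algebraMap_eq_smul_one] at h0
    apply hns (-a₀)
    rw [neg_smul]
    exact eq_neg_of_add_eq_zero_left h0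
  have hdet' : (-a₀) ^ 2 * (-b₀) = 1 := by
    have h1 := LinearMap.det_eq_sign_charpoly_coeff S
    rw [hdet, hdim, hg, hfe, hge] at h1
    simp only [Polynomial.mul_coeff_zero, Polynomial.coeff_add, Polynomial.coeff_X_zero,
      Polynomial.coeff_C_zero, zero_add] at h1
    rw [h1]
    ring
  refine ⟨-a₀, ?_, ?_⟩
  · calc (-a₀) ^ 9 = ((-a₀) ^ 2) ^ 3 * (-a₀) ^ 3 := by ring
      _ = ((-a₀) ^ 2) ^ 3 * (-b₀) ^ 3 := by rw [ha3, hb3]
      _ = ((-a₀) ^ 2 * (-b₀)) ^ 3 := by ring
      _ = 1 := by rw [hdet', one_pow]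
  · intro h1
    apply hab
    have ha0 : (-a₀) ^ 2 ≠ 0 := by
      intro h0
      rw [h0, zero_mul] at hdet'
      exact zero_ne_one hdet'
    have h2 : (-a₀) ^ 2 * (-b₀) = (-a₀) ^ 2 * (-a₀) := by
      rw [hdet', ← h1]
      ring
    have h3 := mul_left_cancel₀ ha0 h2
    exact (neg_injective h3).symm


omit [FiniteDimensional F V] in
theorem isSemisimple_of_pow_eq_one (A : Module.End F V) (r : ℕ) (hrF : (r : F) ≠ 0)
    (hA : A ^ r = 1) : A.IsSemisimple := by
  apply Module.End.isSemisimple_of_squarefree_aeval_eq_zero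
    (Polynomial.separable_X_pow_sub_C (1 : F) hrF one_ne_zero).squarefree
  rw [map_sub, map_pow, Polynomial.aeval_X, Polynomial.aeval_C, map_one, hA, sub_self]

theorem gpoly_mul (r : ℕ) : (X - C (1 : F)) * gpoly F r = X ^ r - C 1 := by
  rw [gpoly, map_one, mul_geom_sum]

theorem eval_one_gpoly (r : ℕ) : Polynomial.eval 1 (gpoly F r) = (r : F) := by
  simp [gpoly, Polynomial.eval_finsetSum]

/-- An automorphism of prime order `r` (with `k = ord_r(q) ≥ 2`) commuting with a non-zero
nilpotent endomorphism needs dimension at least `k + 2`. -/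
theorem case_big [Fintype F] (A N : Module.End F V) (r : ℕ) (hr : r.Prime) (hrF : (r : F) ≠ 0)
    (hA : A ^ r = 1) (hA1 : A ≠ 1) (hAN : Commute A N) (hN : IsNilpotent N) (hN0 : N ≠ 0)
    (h2 : 2 ≤ orderOf ((Fintype.card F : ℕ) : ZMod r)) :
    orderOf ((Fintype.card F : ℕ) : ZMod r) + 2 ≤ Module.finrank F V := by
  have hS := isSemisimple_of_pow_eq_one A r hrF hA
  obtain ⟨f, hfm, hirr, c, hc⟩ := sq_dvd_charpoly A N hS hAN hN hN0
  have hP : Polynomial.aeval A ((X - C (1 : F)) * gpoly F r) = 0 := by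
    rw [gpoly_mul, map_sub, map_pow, Polynomial.aeval_X, Polynomial.aeval_C, map_one, hA, sub_self]
  have hχm : A.charpoly.Monic := LinearMap.charpoly_monic A
  have hχ0 : A.charpoly ≠ 0 := hχm.ne_zero
  obtain ⟨χ', hχ, hnd⟩ :=
    Polynomial.exists_eq_pow_rootMultiplicity_mul_and_not_dvd A.charpoly hχ0 (1 : F)
  generalize A.charpoly.rootMultiplicity 1 = e at hχ
  have hχ'0 : χ' ≠ 0 := by
    rintro rfl
    rw [mul_zero] at hχ
    exact hχ0 hχ
  have hX1 : Irreducible (X - C (1 : F)) := Polynomial.irreducible_X_sub_C 1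
  have hnX : ¬ (X - C (1 : F)) ∣ gpoly F r := by
    intro hd
    rw [Polynomial.dvd_iff_isRoot, Polynomial.IsRoot.def, eval_one_gpoly] at hd
    exact hrF hd
  -- irreducible factors of χ' have degree divisible by k
  have hfac : ∀ g : F[X], Irreducible g → g ∣ χ' →
      orderOf ((Fintype.card F : ℕ) : ZMod r) ∣ g.natDegree := by
    intro g hg hgd
    have h1 : g ∣ (X - C (1 : F)) * gpoly F r :=
      dvd_of_dvd_charpoly A g _ hg (hχ ▸ hgd.mul_left _) hP
    rcases hg.prime.dvd_or_dvd h1 with h3 | h3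
    · exact absurd ((hg.dvd_symm hX1 h3).trans hgd) hnd
    · exact dvd_natDegree_of_dvd_gpoly r hr hrF g hg h3
  have hk' := dvd_natDegree_of_irreducible _ _ χ' hχ'0 rfl hfac
  have hdeg : Module.finrank F V = e + χ'.natDegree := by
    rw [← LinearMap.charpoly_natDegree A, hχ,
      Polynomial.natDegree_mul (pow_ne_zero _ hX1.ne_zero) hχ'0, Polynomial.natDegree_pow,
      Polynomial.natDegree_X_sub_C, mul_one]
  have hχ'pos : 0 < χ'.natDegree := by
    by_contra h0
    have h1 : χ'.natDegree = 0 := by omega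
    obtain ⟨c₀, hc₀⟩ := Polynomial.natDegree_eq_zero.mp h1
    have hc₀0 : c₀ ≠ 0 := by
      rintro rfl
      rw [map_zero] at hc₀
      exact hχ'0 hc₀.symm
    apply hA1
    have h2 : Polynomial.aeval A (X - C (1 : F)) = 0 := by
      apply aeval_eq_zero_of_charpoly_dvd_pow A hS _ (e + 1) (by omega)
      refine ⟨C c₀⁻¹ * (X - C (1 : F)), ?_⟩
      rw [hχ, ← hc₀, pow_succ]
      calc (X - C (1 : F)) ^ e * (X - C 1)
          = (X - C (1 : F)) ^ e * (C (c₀ * c₀⁻¹) * (X - C 1)) := by
            rw [mul_inv_cancel₀ hc₀0, map_one, one_mul]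
        _ = (X - C (1 : F)) ^ e * C c₀ * (C c₀⁻¹ * (X - C 1)) := by
            rw [map_mul]
            ring
    rw [map_sub, Polynomial.aeval_X, Polynomial.aeval_C, map_one] at h2
    exact sub_eq_zero.mp h2
  have hχ'k := Nat.le_of_dvd hχ'pos hk'
  -- the repeated factor
  have hfχ : f ∣ A.charpoly := ⟨f * c, by rw [hc]; ring⟩
  have hfP : f ∣ (X - C (1 : F)) * gpoly F r := dvd_of_dvd_charpoly A f _ hirr hfχ hP
  rcases hirr.prime.dvd_or_dvd hfP with h3 | h3
  · have h4 : (X - C (1 : F)) ^ 2 ∣ A.charpoly := by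
      have h5 := hirr.dvd_symm hX1 h3
      rw [hc, pow_two]
      exact (mul_dvd_mul h5 h5).mul_right c
    have h6 : 2 ≤ e := by
      by_contra hlt
      have he : e = 0 ∨ e = 1 := by omega
      have h7 : (X - C (1 : F)) ∣ χ' := by
        rcases he with he | he
        · rw [hχ, he, pow_zero, one_mul] at h4
          exact (dvd_pow_self _ (by norm_num)).trans h4
        · rw [hχ, he, pow_one, pow_two] at h4
          exact (mul_dvd_mul_iff_left hX1.ne_zero).mp h4
      exact hnd h7
    omega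
  · have hkf := dvd_natDegree_of_dvd_gpoly r hr hrF f hirr h3
    have hf1 : 0 < f.natDegree := hirr.natDegree_pos
    have hkf' := Nat.le_of_dvd hf1 hkf
    have hcop : IsCoprime f (X - C (1 : F)) := by
      rw [Irreducible.coprime_iff_not_dvd hirr]
      intro h4
      exact hnX ((hirr.dvd_symm hX1 h4).trans h3)
    have hcop2 : IsCoprime (f * f) ((X - C (1 : F)) ^ e) :=
      (hcop.mul_left hcop).pow_right
    have h5 : f * f ∣ (X - C (1 : F)) ^ e * χ' := by
      rw [← hχ, hc]
      exact dvd_mul_right _ _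
    have h6 : f * f ∣ χ' := hcop2.dvd_of_dvd_mul_left h5
    have h7 := Polynomial.natDegree_le_of_dvd h6 hχ'0
    rw [hfm.natDegree_mul hfm] at h7
    omega

end Cfsg.Agent.Lib.Helper14.PGraph
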