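import Mathlib
import Cfsg.Agent.Lib.Helper14.PGraph4

namespace Cfsg.Agent.Lib.Helper14.PGraph

open Polynomial Cfsg.Agent.Lib.Helper14.SSConj

universe u v

variable {F : Type u} [Field F]

theorem scalar_eq_algebraMap (n : ℕ) (a : F) :
    (Matrix.scalar (Fin n) a : Matrix (Fin n) (Fin n) F)
      = algebraMap F (Matrix (Fin n) (Fin n) F) a := by
  rw [Matrix.scalar_apply, Matrix.algebraMap_eq_diagonal]
  rfl

theorem toLin_scalar (n : ℕ) (a : F) :
    Matrix.toLinAlgEquiv' (Matrix.scalar (Fin n) a : Matrix (Fin n) (Fin n) F)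
      = a • (1 : Module.End F (Fin n → F)) := by
  rw [scalar_eq_algebraMap, AlgEquiv.commutes, Algebra.algebraMap_eq_smul_one]

theorem mem_center_of_scalar (n : ℕ) (g : Matrix.SpecialLinearGroup (Fin n) F) (a : F)
    (hM : (g : Matrix (Fin n) (Fin n) F) = Matrix.scalar (Fin n) a) :
    g ∈ Subgroup.center (Matrix.SpecialLinearGroup (Fin n) F) := by
  rw [Matrix.SpecialLinearGroup.mem_center_iff]
  refine ⟨a, ?_, hM.symm⟩
  have h1 := congrArg Matrix.det hM
  rw [Matrix.SpecialLinearGroup.det_coe, Matrix.scalar_apply, Matrix.det_diagonal] at h1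
  simpa using h1.symm

/-- A matrix of determinant one acting as a scalar is central in `SL_n`. -/
theorem mem_center_of_smul (n : ℕ) (g : Matrix.SpecialLinearGroup (Fin n) F) (a : F)
    (h : Matrix.toLinAlgEquiv' (g : Matrix (Fin n) (Fin n) F)
      = a • (1 : Module.End F (Fin n → F))) :
    g ∈ Subgroup.center (Matrix.SpecialLinearGroup (Fin n) F) := by
  apply mem_center_of_scalar n g a
  apply (Matrix.toLinAlgEquiv' (R := F) (n := Fin n)).injective
  rw [h, toLin_scalar]

theorem center_pow_card [Fintype F] (n : ℕ) (z : Matrix.SpecialLinearGroup (Fin n) F)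
    (hz : z ∈ Subgroup.center (Matrix.SpecialLinearGroup (Fin n) F)) :
    z ^ (Fintype.card F - 1) = 1 := by
  rcases Nat.eq_zero_or_pos n with rfl | hn
  · exact Subtype.ext (Subsingleton.elim _ _)
  rw [Matrix.SpecialLinearGroup.mem_center_iff] at hz
  obtain ⟨c, hc, hcz⟩ := hz
  have hc0 : c ≠ 0 := by
    intro h0
    rw [h0, Fintype.card_fin, zero_pow hn.ne'] at hc
    exact zero_ne_one hc
  apply Subtype.ext
  rw [Matrix.SpecialLinearGroup.coe_pow, ← hcz, ← map_pow,
    FiniteField.pow_card_sub_one_eq_one c hc0, map_one]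
  rfl

theorem sub_one_pow_char (p : ℕ) [Fact p.Prime] [CharP F p] {V : Type v} [AddCommGroup V]
    [Module F V] (U : Module.End F V) (hU : U ^ p = 1) : (U - 1) ^ p = 0 := by
  have h : ((X : F[X]) - 1) ^ p = X ^ p - 1 := by rw [sub_pow_char, one_pow]
  have h2 := congrArg (Polynomial.aeval U) h
  simpa [hU] using h2

theorem isSemisimple_of_pow_eq_smul {V : Type v} [AddCommGroup V] [Module F V]
    (S : Module.End F V) (r : ℕ) (hrF : (r : F) ≠ 0) (c : F) (hc : c ≠ 0)
    (hS : S ^ r = c • (1 : Module.End F V)) : S.IsSemisimple := by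
  apply Module.End.isSemisimple_of_squarefree_aeval_eq_zero
    (Polynomial.separable_X_pow_sub_C c hrF hc).squarefree
  rw [map_sub, map_pow, Polynomial.aeval_X, Polynomial.aeval_C, Algebra.algebraMap_eq_smul_one,
    hS, sub_self]


/-- No element of order `r p` in `PSL_n(F)` in the two exceptional situations. -/
theorem psl_nonexist_p [Fintype F] (p : ℕ) [Fact p.Prime] [CharP F p] (n : ℕ) (hn : 2 ≤ n) (r : ℕ)
    (hr : r.Prime) (hrp : r ≠ p)
    (h : n - 2 < orderOf ((Fintype.card F : ℕ) : ZMod r) ∨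
      (n = 3 ∧ r = 3 ∧ 3 ∣ Fintype.card F - 1 ∧ ¬ 9 ∣ Fintype.card F - 1))
    (x : Matrix.ProjectiveSpecialLinearGroup (Fin n) F) (hx : orderOf x = r * p) : False := by
  classical
  have hp : p.Prime := Fact.out
  obtain ⟨g, rfl⟩ := QuotientGroup.mk_surjective x
  have hcen : ∀ j, g ^ j ∈ Subgroup.center (Matrix.SpecialLinearGroup (Fin n) F) → r * p ∣ j := by
    intro j hj
    rw [← hx]
    apply orderOf_dvd_of_pow_eq_one
    rw [← QuotientGroup.mk_pow]
    exact (QuotientGroup.eq_one_iff _).mpr hj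
  have hcen' : g ^ (r * p) ∈ Subgroup.center (Matrix.SpecialLinearGroup (Fin n) F) := by
    rw [← QuotientGroup.eq_one_iff, QuotientGroup.mk_pow, ← hx, pow_orderOf_eq_one]
  have hq2 : 2 ≤ Fintype.card F := Fintype.one_lt_card
  have hpq : p ∣ Fintype.card F :=
    (CharP.cast_eq_zero_iff F p _).mp (FiniteField.cast_card_eq_zero F)
  have hpq1 : ¬ p ∣ Fintype.card F - 1 := by
    intro hd
    have h1 := Nat.dvd_sub hpq hd
    rw [show Fintype.card F - (Fintype.card F - 1) = 1 by omega] at h1
    exact hp.one_lt.ne' (Nat.dvd_one.mp h1)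
  have hrF : (r : F) ≠ 0 := natCast_ne_zero_of_ne p r hr hrp
  have hU : (g ^ (r * (Fintype.card F - 1))) ^ p = 1 := by
    rw [← pow_mul, show r * (Fintype.card F - 1) * p = (r * p) * (Fintype.card F - 1) by ring,
      pow_mul]
    exact center_pow_card n _ hcen'
  have hU1 : g ^ (r * (Fintype.card F - 1)) ≠ 1 := by
    intro h1
    have h2 := hcen (r * (Fintype.card F - 1)) (h1 ▸ Subgroup.one_mem _)
    exact hpq1 (Nat.dvd_of_mul_dvd_mul_left hr.pos h2)
  let E : ℕ → Module.End F (Fin n → F) := fun j =>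
    Matrix.toLinAlgEquiv' ((g ^ j : Matrix.SpecialLinearGroup (Fin n) F) :
      Matrix (Fin n) (Fin n) F)
  have hE_pow : ∀ j m, (E j) ^ m = E (j * m) := by
    intro j m
    show (Matrix.toLinAlgEquiv' _) ^ m = Matrix.toLinAlgEquiv' _
    rw [← map_pow, ← Matrix.SpecialLinearGroup.coe_pow, ← pow_mul]
  have hE_comm : ∀ i j, Commute (E i) (E j) := by
    intro i j
    show Matrix.toLinAlgEquiv' _ * Matrix.toLinAlgEquiv' _
      = Matrix.toLinAlgEquiv' _ * Matrix.toLinAlgEquiv' _
    rw [← map_mul, ← map_mul, ← Matrix.SpecialLinearGroup.coe_mul,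
      ← Matrix.SpecialLinearGroup.coe_mul, (Commute.pow_pow_self g i j).eq]
  have hE_of_one : ∀ j, g ^ j = 1 → E j = 1 := by
    intro j hj
    show Matrix.toLinAlgEquiv' _ = 1
    rw [hj]
    exact map_one _
  have hE_one : ∀ j, E j = 1 → g ^ j = 1 := by
    intro j hj
    apply Subtype.ext
    apply (Matrix.toLinAlgEquiv' (R := F) (n := Fin n)).injective
    show E j = _
    rw [hj]
    exact (map_one _).symm
  have hUp : (E (r * (Fintype.card F - 1))) ^ p = 1 := by
    rw [hE_pow]
    apply hE_of_one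
    rw [pow_mul, hU]
  have hN : IsNilpotent (E (r * (Fintype.card F - 1)) - 1) := ⟨p, sub_one_pow_char p _ hUp⟩
  have hN0 : E (r * (Fintype.card F - 1)) - 1 ≠ 0 := fun h0 => hU1 (hE_one _ (sub_eq_zero.mp h0))
  have hcommN : ∀ j, Commute (E j) (E (r * (Fintype.card F - 1)) - 1) :=
    fun j => (hE_comm _ _).sub_right (Commute.one_right _)
  have hfr : Module.finrank F (Fin n → F) = n := Module.finrank_fin_fun F
  -- the semisimple element S = g^p
  obtain ⟨c, hc, hcz⟩ := Matrix.SpecialLinearGroup.mem_center_iff.mp hcen'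
  have hc0 : c ≠ 0 := by
    intro h0
    rw [h0, Fintype.card_fin, zero_pow (by omega)] at hc
    exact zero_ne_one hc
  have hSr : (E p) ^ r = c • (1 : Module.End F (Fin n → F)) := by
    rw [hE_pow, mul_comm p r]
    show Matrix.toLinAlgEquiv' _ = _
    rw [← hcz, toLin_scalar]
  have hSss : (E p).IsSemisimple := isSemisimple_of_pow_eq_smul (E p) r hrF c hc0 hSr
  have hSns : ∀ a : F, E p ≠ a • (1 : Module.End F (Fin n → F)) := by
    intro a ha
    have h1 := hcen p (mem_center_of_smul n (g ^ p) a ha)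
    have h2 := Nat.le_of_dvd hp.pos h1
    nlinarith [hr.two_le, hp.pos]
  rcases h with h | ⟨h3, hr3, hd3, hd9⟩
  · by_cases hk2 : 2 ≤ orderOf ((Fintype.card F : ℕ) : ZMod r)
    · have hA : (E (p * (Fintype.card F - 1))) ^ r = 1 := by
        rw [hE_pow]
        apply hE_of_one
        rw [show p * (Fintype.card F - 1) * r = (r * p) * (Fintype.card F - 1) by ring, pow_mul]
        exact center_pow_card n _ hcen'
      have hA1 : E (p * (Fintype.card F - 1)) ≠ 1 := by
        intro h1
        have h2 := hcen _ ((hE_one _ h1) ▸ Subgroup.one_mem _)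
        rw [mul_comm r p] at h2
        have h3 := Nat.dvd_of_mul_dvd_mul_left hp.pos h2
        have h4 := Nat.Coprime.eq_one_of_dvd (coprime_of_two_le r hr hk2) h3
        exact hr.one_lt.ne' h4
      have h5 := case_big (E (p * (Fintype.card F - 1))) _ r hr hrF hA hA1 (hcommN _) hN hN0 hk2
      rw [hfr] at h5
      omega
    · have hn2 : Module.finrank F (Fin n → F) = 2 := by
        rw [hfr]
        omega
      obtain ⟨a, ha⟩ := case_two (E p) _ hSss (hcommN p) hN hN0 hn2
      exact hSns a ha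
  · have hn3 : Module.finrank F (Fin n → F) = 3 := by rw [hfr, h3]
    have hdet : LinearMap.det (E p) = 1 := by
      show LinearMap.det (Matrix.toLin' ((g ^ p : Matrix.SpecialLinearGroup (Fin n) F) :
        Matrix (Fin n) (Fin n) F)) = (1 : F)
      rw [LinearMap.det_toLin']
      exact (g ^ p).2
    rw [hr3] at hSr
    obtain ⟨a, ha9, ha3⟩ := case_three (E p) _ hSss (hcommN p) hN hN0 hn3 hdet c hSr hSns
    have ha0 : a ≠ 0 := by
      rintro rfl
      rw [zero_pow (by norm_num)] at ha9
      exact zero_ne_one ha9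
    have h1 : orderOf a ∣ Fintype.card F - 1 :=
      orderOf_dvd_of_pow_eq_one (FiniteField.pow_card_sub_one_eq_one a ha0)
    have h2 : orderOf a ∣ 3 ^ 2 := orderOf_dvd_of_pow_eq_one (by norm_num; exact ha9)
    obtain ⟨m, hm, hm'⟩ := (Nat.dvd_prime_pow Nat.prime_three).mp h2
    have h3' : m = 0 ∨ m = 1 ∨ m = 2 := by omega
    rcases h3' with rfl | rfl | rfl
    · rw [pow_zero, orderOf_eq_one_iff] at hm'
      rw [hm', one_pow] at ha3
      exact ha3 rfl
    · rw [pow_one] at hm'
      apply ha3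
      rw [← hm']
      exact pow_orderOf_eq_one a
    · rw [hm'] at h1
      exact hd9 (by norm_num at h1; exact h1)

end Cfsg.Agent.Lib.Helper14.PGraph
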