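import Mathlib
import Cfsg.Agent.Lib.Helper14.PGraph5

namespace Cfsg.Agent.Lib.Helper14.PGraph

open Polynomial Cfsg.Agent.Lib.Helper14.SSConj

universe u v

variable {F : Type u} [Field F]

/-- An endomorphism of determinant one whose powers are scalar exactly at the multiples of `t`
gives an element of order `t` in `PSL_n(F)`. -/
theorem exists_psl_of_end (n : ℕ) {V : Type v} [AddCommGroup V] [Module F V]
    [FiniteDimensional F V] (hV : Module.finrank F V = n) (T : Module.End F V)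
    (hdet : LinearMap.det T = 1) (t : ℕ)
    (ht : ∀ j : ℕ, (∃ c : F, T ^ j = c • (1 : Module.End F V)) ↔ t ∣ j) :
    ∃ x : Matrix.ProjectiveSpecialLinearGroup (Fin n) F, orderOf x = t := by
  classical
  let b := Module.finBasisOfFinrankEq F V hV
  have hdetM : (LinearMap.toMatrixAlgEquiv b T).det = 1 := by
    show (LinearMap.toMatrix b b T).det = 1
    rw [LinearMap.det_toMatrix, hdet]
  let g : Matrix.SpecialLinearGroup (Fin n) F := ⟨LinearMap.toMatrixAlgEquiv b T, hdetM⟩
  have hgj : ∀ j : ℕ, ((g ^ j : Matrix.SpecialLinearGroup (Fin n) F) : Matrix (Fin n) (Fin n) F)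
      = LinearMap.toMatrixAlgEquiv b (T ^ j) := by
    intro j
    rw [Matrix.SpecialLinearGroup.coe_pow, map_pow]
  have key : ∀ j : ℕ, (QuotientGroup.mk g : Matrix.ProjectiveSpecialLinearGroup (Fin n) F) ^ j = 1
      ↔ ∃ c : F, T ^ j = c • (1 : Module.End F V) := by
    intro j
    rw [← QuotientGroup.mk_pow, QuotientGroup.eq_one_iff]
    constructor
    · intro hz
      obtain ⟨c, -, hcz⟩ := Matrix.SpecialLinearGroup.mem_center_iff.mp hz
      refine ⟨c, ?_⟩
      apply (LinearMap.toMatrixAlgEquiv b).injective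
      rw [← hgj, ← hcz, scalar_eq_algebraMap, Algebra.algebraMap_eq_smul_one, map_smul, map_one]
    · rintro ⟨c, hc⟩
      apply mem_center_of_scalar n _ c
      rw [hgj, hc, scalar_eq_algebraMap, Algebra.algebraMap_eq_smul_one, map_smul, map_one]
  refine ⟨QuotientGroup.mk g, ?_⟩
  apply Nat.dvd_antisymm
  · apply orderOf_dvd_of_pow_eq_one
    rw [key, ht]
  · rw [← ht, ← key]
    exact pow_orderOf_eq_one _

/-- The unipotent matrix. -/
def Jm (F : Type u) [Field F] : Matrix (Fin 2) (Fin 2) F := !![1, 1; 0, 1]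

theorem Jm_pow (j : ℕ) : (Jm F) ^ j = !![1, (j : F); 0, 1] := by
  induction j with
  | zero =>
    ext a b
    fin_cases a <;> fin_cases b <;> simp
  | succ m ih =>
    rw [pow_succ, ih, Jm, Matrix.mul_fin_two]
    ext a b
    fin_cases a <;> fin_cases b <;> simp [add_comm]

theorem Jm_det : (Jm F).det = 1 := by
  simp [Jm, Matrix.det_fin_two_of]

theorem Jm_pow_eq_smul (p : ℕ) [Fact p.Prime] [CharP F p] (j : ℕ) (c : F)
    (h : (Jm F) ^ j = c • (1 : Matrix (Fin 2) (Fin 2) F)) : c = 1 ∧ p ∣ j := by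
  rw [Jm_pow] at h
  have h00 := congrFun (congrFun h 0) 0
  have h01 := congrFun (congrFun h 0) 1
  simp at h00 h01
  exact ⟨h00.symm, (CharP.cast_eq_zero_iff F p j).mp h01⟩

theorem Jm_pow_of_dvd (p : ℕ) [Fact p.Prime] [CharP F p] (j : ℕ) (h : p ∣ j) :
    (Jm F) ^ j = 1 := by
  rw [Jm_pow, (CharP.cast_eq_zero_iff F p j).mpr h]
  ext a b
  fin_cases a <;> fin_cases b <;> simp


theorem prodMap_pow {V : Type v} {W : Type*} [AddCommGroup V] [Module F V] [AddCommGroup W]
    [Module F W] (T₁ : Module.End F V) (T₂ : Module.End F W) (j : ℕ) :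
    (T₁.prodMap T₂) ^ j = (T₁ ^ j).prodMap (T₂ ^ j) := by
  induction j with
  | zero =>
    rw [pow_zero, pow_zero, pow_zero]
    exact LinearMap.prodMap_one.symm
  | succ m ih =>
    rw [pow_succ, pow_succ, pow_succ, ih, LinearMap.prodMap_mul]

theorem prodMap_eq_smul_iff {V : Type v} {W : Type*} [AddCommGroup V] [Module F V]
    [AddCommGroup W] [Module F W] (T₁ : Module.End F V) (T₂ : Module.End F W) (c : F) :
    T₁.prodMap T₂ = c • (1 : Module.End F (V × W))
      ↔ T₁ = c • (1 : Module.End F V) ∧ T₂ = c • (1 : Module.End F W) := by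
  constructor
  · intro h
    constructor
    · apply LinearMap.ext
      intro x
      have := congrArg (fun T : Module.End F (V × W) => (T (x, 0)).1) h
      simpa using this
    · apply LinearMap.ext
      intro y
      have := congrArg (fun T : Module.End F (V × W) => (T (0, y)).2) h
      simpa using this
  · rintro ⟨h1, h2⟩
    rw [h1, h2]
    apply LinearMap.ext
    rintro ⟨x, y⟩
    simp

/-- Adding a scaled unipotent block. -/
theorem exists_psl_with_J (p : ℕ) [Fact p.Prime] [CharP F p] (n : ℕ) {V₀ : Type u}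
    [AddCommGroup V₀] [Module F V₀] [FiniteDimensional F V₀]
    (hV : Module.finrank F V₀ + 2 = n) (T₀ : Module.End F V₀) (a : F) (ha : a ≠ 0)
    (hdet : LinearMap.det T₀ * a ^ 2 = 1) (t₀ : ℕ) (hcop : Nat.Coprime t₀ p)
    (ht : ∀ j : ℕ, T₀ ^ j = a ^ j • (1 : Module.End F V₀) ↔ t₀ ∣ j) :
    ∃ x : Matrix.ProjectiveSpecialLinearGroup (Fin n) F, orderOf x = t₀ * p := by
  have hJj : ∀ j : ℕ, (Matrix.toLinAlgEquiv' (Jm F)) ^ j = Matrix.toLinAlgEquiv' ((Jm F) ^ j) :=
    fun j => (map_pow _ _ _).symm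
  apply exists_psl_of_end n (V := V₀ × (Fin 2 → F))
    (by rw [Module.finrank_prod, Module.finrank_fin_fun, hV])
    (T₀.prodMap (a • Matrix.toLinAlgEquiv' (Jm F)))
  · rw [LinearMap.det_prodMap, LinearMap.det_smul, Module.finrank_fin_fun]
    have h1 : LinearMap.det (Matrix.toLinAlgEquiv' (Jm F)) = 1 := by
      show LinearMap.det (Matrix.toLin' (Jm F)) = 1
      rw [LinearMap.det_toLin', Jm_det]
    rw [h1, mul_one, hdet]
  · intro j
    rw [prodMap_pow, _root_.smul_pow, hJj]
    constructor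
    · rintro ⟨c, hc⟩
      obtain ⟨h1, h2⟩ := (prodMap_eq_smul_iff _ _ c).mp hc
      have haj : a ^ j ≠ 0 := pow_ne_zero _ ha
      have h3 : (Jm F) ^ j = ((a ^ j)⁻¹ * c) • (1 : Matrix (Fin 2) (Fin 2) F) := by
        apply (Matrix.toLinAlgEquiv' (R := F) (n := Fin 2)).injective
        rw [map_smul, map_one, mul_smul, ← h2, inv_smul_smul₀ haj]
      obtain ⟨h4, h5⟩ := Jm_pow_eq_smul p j _ h3
      have h6 : a ^ j = c := (inv_mul_eq_one₀ haj).mp h4
      rw [← h6] at h1
      exact hcop.mul_dvd_of_dvd_of_dvd ((ht j).mp h1) h5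
    · intro hd
      refine ⟨a ^ j, ?_⟩
      rw [(ht j).mpr (dvd_of_mul_right_dvd hd), Jm_pow_of_dvd p j (dvd_of_mul_left_dvd hd),
        map_one]
      exact (prodMap_eq_smul_iff _ _ _).mpr ⟨rfl, rfl⟩


theorem smul_one_eq_iff (c d : F) :
    c • (1 : Module.End F F) = d • (1 : Module.End F F) ↔ c = d := by
  constructor
  · intro h
    have := congrArg (fun T : Module.End F F => T 1) h
    simpa using this
  · rintro rfl
    rfl

theorem exists_order_field [Fintype F] (t : ℕ) (ht : t ∣ Fintype.card F - 1) :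
    ∃ u : F, orderOf u = t := by
  have hcard : Nat.card Fˣ = Fintype.card F - 1 := by
    rw [Nat.card_units, Nat.card_eq_fintype_card]
  obtain ⟨g, hg⟩ := IsCyclic.exists_ofOrder_eq_natCard (α := Fˣ)
  rw [hcard] at hg
  obtain ⟨c, hc⟩ := ht
  have hNpos : 0 < Fintype.card F - 1 := by
    have h2 : 2 ≤ Fintype.card F := Fintype.one_lt_card
    omega
  have hcpos : 0 < c := by
    rcases Nat.eq_zero_or_pos c with h0 | h0
    · rw [h0, mul_zero] at hc
      omega
    · exact h0
  refine ⟨((g ^ c : Fˣ) : F), ?_⟩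
  rw [orderOf_units, orderOf_pow_of_dvd hcpos.ne' (by rw [hg, hc]; exact dvd_mul_left c t), hg,
    hc, Nat.mul_div_cancel _ hcpos]

theorem norm_eq_one_of_coprime [Fintype F] {E : Type*} [CommRing E] [Algebra F E] (u : E)
    (t : ℕ) (hu : u ^ t = 1) (ht : 0 < t) (hcop : Nat.Coprime t (Fintype.card F - 1)) :
    Algebra.norm F u = 1 := by
  have hN1 : (Algebra.norm F u) ^ t = 1 := by rw [← map_pow, hu, map_one]
  have hN0 : Algebra.norm F u ≠ 0 := by
    intro h0
    rw [h0, zero_pow ht.ne'] at hN1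
    exact zero_ne_one hN1
  have hN2 : (Algebra.norm F u) ^ (Fintype.card F - 1) = 1 :=
    FiniteField.pow_card_sub_one_eq_one _ hN0
  have h1 := orderOf_dvd_of_pow_eq_one hN1
  have h2 := orderOf_dvd_of_pow_eq_one hN2
  have h3 : orderOf (Algebra.norm F u) ∣ 1 := by
    have := Nat.dvd_gcd h1 h2
    rwa [hcop] at this
  exact orderOf_eq_one_iff.mp (Nat.dvd_one.mp h3)

/-- Existence, case `k ≥ 2`. -/
theorem exist_E1 [Fintype F] (p : ℕ) [Fact p.Prime] [CharP F p] (n : ℕ) (r : ℕ) (hr : r.Prime)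
    (hrp : r ≠ p) (h2k : 2 ≤ orderOf ((Fintype.card F : ℕ) : ZMod r))
    (hkn : orderOf ((Fintype.card F : ℕ) : ZMod r) + 2 ≤ n) :
    ∃ x : Matrix.ProjectiveSpecialLinearGroup (Fin n) F, orderOf x = r * p := by
  have hp : p.Prime := Fact.out
  have hcr := coprime_of_two_le r hr h2k
  have hr1 := dvd_pow_sub_one (F := F) r _ (pow_orderOf_eq_one ((Fintype.card F : ℕ) : ZMod r))
  generalize hkdef : orderOf ((Fintype.card F : ℕ) : ZMod r) = k at *
  have hk0 : NeZero k := ⟨by omega⟩
  obtain ⟨u, hu⟩ := exists_order_ext (F := F) p k r hr1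
  have hur : u ^ r = 1 := hu ▸ pow_orderOf_eq_one u
  apply exists_psl_with_J p n (V₀ := FiniteField.Extension F p k × (Fin (n - k - 2) → F))
    (by rw [Module.finrank_prod, FiniteField.finrank_extension, Module.finrank_fin_fun]; omega)
    ((Algebra.lmul F (FiniteField.Extension F p k) u).prodMap 1) 1 one_ne_zero _ r
    ((Nat.coprime_primes hr hp).mpr hrp)
  · intro j
    rw [one_pow, prodMap_pow, one_pow, ← map_pow, prodMap_eq_smul_iff, one_smul]
    constructor
    · rintro ⟨h1, -⟩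
      rw [← hu]
      apply orderOf_dvd_of_pow_eq_one
      apply Algebra.lmul_injective (R := F)
      rw [h1, map_one]
    · intro hd
      rw [← hu] at hd
      rw [orderOf_dvd_iff_pow_eq_one.mp hd, map_one]
      exact ⟨rfl, (one_smul _ _).symm⟩
  · rw [LinearMap.det_prodMap, map_one, one_pow, mul_one, mul_one]
    exact norm_eq_one_of_coprime u r hur hr.pos hcr


theorem det_smul_one_self (c : F) : LinearMap.det (c • (1 : Module.End F F)) = c := by
  rw [LinearMap.det_smul, Module.finrank_self, pow_one, map_one, mul_one]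

/-- Existence, case `r ∣ q - 1`, `n ≥ 4`. -/
theorem exist_E2 [Fintype F] (p : ℕ) [Fact p.Prime] [CharP F p] (n : ℕ) (hn : 4 ≤ n) (r : ℕ)
    (hr : r.Prime) (hrp : r ≠ p) (hrq : r ∣ Fintype.card F - 1) :
    ∃ x : Matrix.ProjectiveSpecialLinearGroup (Fin n) F, orderOf x = r * p := by
  have hp : p.Prime := Fact.out
  obtain ⟨ζ, hζ⟩ := exists_order_field (F := F) r hrq
  have hζ0 : ζ ≠ 0 := by
    rintro rfl
    rw [orderOf_zero] at hζ
    · exact hr.ne_zero hζ.symm
  apply exists_psl_with_J p n (V₀ := (F × F) × (Fin (n - 4) → F))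
    (by rw [Module.finrank_prod, Module.finrank_prod, Module.finrank_self,
      Module.finrank_fin_fun]; omega)
    (((ζ • (1 : Module.End F F)).prodMap (ζ⁻¹ • (1 : Module.End F F))).prodMap 1) 1 one_ne_zero
    _ r ((Nat.coprime_primes hr hp).mpr hrp)
  · intro j
    rw [one_pow, prodMap_pow, prodMap_pow, one_pow, _root_.smul_pow, _root_.smul_pow, one_pow,
      prodMap_eq_smul_iff, prodMap_eq_smul_iff, smul_one_eq_iff, smul_one_eq_iff]
    constructor
    · rintro ⟨⟨h1, -⟩, -⟩
      rw [← hζ]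
      exact orderOf_dvd_of_pow_eq_one h1
    · intro hd
      rw [← hζ] at hd
      have h1 := orderOf_dvd_iff_pow_eq_one.mp hd
      refine ⟨⟨h1, ?_⟩, (one_smul _ _).symm⟩
      rw [inv_pow, h1, inv_one]
  · rw [LinearMap.det_prodMap, LinearMap.det_prodMap, det_smul_one_self, det_smul_one_self,
      map_one, mul_inv_cancel₀ hζ0]
    norm_num

/-- Existence, case `n = 3` with an element `a` whose cube has order `r`. -/
theorem exist_E3 [Fintype F] (p : ℕ) [Fact p.Prime] [CharP F p] (r : ℕ)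
    (hr : r.Prime) (hrp : r ≠ p) (a : F) (ha : a ≠ 0) (ha3 : orderOf (a ^ 3) = r) :
    ∃ x : Matrix.ProjectiveSpecialLinearGroup (Fin 3) F, orderOf x = r * p := by
  have hp : p.Prime := Fact.out
  apply exists_psl_with_J p 3 (V₀ := F)
    (by rw [Module.finrank_self])
    ((a⁻¹ ^ 2) • (1 : Module.End F F)) a ha _ r ((Nat.coprime_primes hr hp).mpr hrp)
  · intro j
    rw [_root_.smul_pow, one_pow, smul_one_eq_iff, ← ha3, orderOf_dvd_iff_pow_eq_one]
    have haj : a ^ j ≠ 0 := pow_ne_zero _ ha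
    have h2 : (a⁻¹ ^ 2) ^ j = ((a ^ j) ^ 2)⁻¹ := by
      rw [inv_pow, inv_pow, ← pow_mul, ← pow_mul, mul_comm]
    have h1 : (a ^ 3) ^ j = (a ^ j) ^ 2 * a ^ j := by ring
    rw [h1, h2]
    constructor
    · intro h
      calc (a ^ j) ^ 2 * a ^ j = (a ^ j) ^ 2 * ((a ^ j) ^ 2)⁻¹ := by rw [h]
        _ = 1 := mul_inv_cancel₀ (pow_ne_zero 2 haj)
    · intro h
      exact (eq_inv_of_mul_eq_one_right h).symm
  · rw [det_smul_one_self]
    field_simp


theorem one_le_ord [Fintype F] (p : ℕ) [Fact p.Prime] [CharP F p] (r : ℕ) (hr : r.Prime)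
    (hrp : r ≠ p) : 1 ≤ orderOf ((Fintype.card F : ℕ) : ZMod r) := by
  have hfr : Fact r.Prime := ⟨hr⟩
  have h0 : ((Fintype.card F : ℕ) : ZMod r) ≠ 0 := by
    intro h
    rw [ZMod.natCast_eq_zero_iff] at h
    obtain ⟨e, hp, he⟩ := FiniteField.card F p
    rw [he] at h
    exact hrp ((Nat.prime_dvd_prime_iff_eq hr hp).mp (hr.dvd_of_dvd_pow h))
  have h1 := ZMod.pow_card_sub_one_eq_one h0
  have h2 : IsOfFinOrder ((Fintype.card F : ℕ) : ZMod r) :=
    isOfFinOrder_iff_pow_eq_one.mpr ⟨r - 1, by have := hr.two_le; omega, h1⟩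
  exact orderOf_pos_iff.mpr h2

/-- Existence of an element of order `r p` in `PSL_n(F)`. -/
theorem psl_exist_p [Fintype F] (p : ℕ) [Fact p.Prime] [CharP F p] (n : ℕ) (r : ℕ) (hr : r.Prime)
    (hrp : r ≠ p) (h1 : orderOf ((Fintype.card F : ℕ) : ZMod r) + 2 ≤ n)
    (h2 : ¬ (n = 3 ∧ r = 3 ∧ 3 ∣ Fintype.card F - 1 ∧ ¬ 9 ∣ Fintype.card F - 1)) :
    ∃ x : Matrix.ProjectiveSpecialLinearGroup (Fin n) F, orderOf x = r * p := by
  by_cases hk2 : 2 ≤ orderOf ((Fintype.card F : ℕ) : ZMod r)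
  · exact exist_E1 p n r hr hrp hk2 h1
  · have hk1 := one_le_ord (F := F) p r hr hrp
    have hk : orderOf ((Fintype.card F : ℕ) : ZMod r) = 1 := by omega
    have hrq : r ∣ Fintype.card F - 1 := by
      have := dvd_pow_sub_one (F := F) r _ (pow_orderOf_eq_one ((Fintype.card F : ℕ) : ZMod r))
      rwa [hk, pow_one] at this
    by_cases hn4 : 4 ≤ n
    · exact exist_E2 p n hn4 r hr hrp hrq
    · obtain rfl : n = 3 := by omega
      by_cases hr3 : r = 3
      · subst hr3
        have h9 : 9 ∣ Fintype.card F - 1 := by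
          by_contra h
          exact h2 ⟨rfl, rfl, hrq, h⟩
        obtain ⟨a, ha⟩ := exists_order_field (F := F) 9 h9
        have ha0 : a ≠ 0 := by
          rintro rfl
          rw [orderOf_zero] at ha
          · norm_num at ha
        have h3 : orderOf (a ^ 3) = 3 := by
          rw [orderOf_pow_of_dvd (by norm_num) (by rw [ha]; norm_num), ha]
        exact exist_E3 p 3 hr hrp a ha0 h3
      · obtain ⟨a, ha⟩ := exists_order_field (F := F) r hrq
        have ha0 : a ≠ 0 := by
          rintro rfl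
          rw [orderOf_zero] at ha
          · exact hr.ne_zero ha.symm
        have h3 : orderOf (a ^ 3) = r := by
          rw [Nat.Coprime.orderOf_pow (by rw [ha]; exact (Nat.coprime_primes hr Nat.prime_three).mpr hr3),
            ha]
        exact exist_E3 p r hr hrp a ha0 h3

end Cfsg.Agent.Lib.Helper14.PGraph
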