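import Mathlib

set_option autoImplicit false
set_option linter.unusedSectionVars false

namespace Cfsg.Agent.Lib.Helper14.Redund

variable {G : Type*} [Group G] [Finite G] {p : ℕ} [Fact p.Prime]

theorem mem_smul_iff (g x : G) (P : Sylow p G) :
    x ∈ ((g • P : Sylow p G) : Subgroup G) ↔ g⁻¹ * x * g ∈ (P : Subgroup G) := by
  rw [Sylow.coe_subgroup_smul, Subgroup.mem_pointwise_smul_iff_inv_smul_mem]
  have e : (MulAut.conj g)⁻¹ • x = g⁻¹ * x * g := by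
    rw [← map_inv, MulAut.smul_def, MulAut.conj_apply, inv_inv]
  rw [e]

theorem pelt_iff (x : G) : (∃ k : ℕ, orderOf x = p ^ k) ↔ ∃ n : ℕ, x ^ (p ^ n) = 1 := by
  have hp : p.Prime := Fact.out
  constructor
  · rintro ⟨k, hk⟩
    exact ⟨k, by rw [← hk]; exact pow_orderOf_eq_one x⟩
  · rintro ⟨n, hn⟩
    obtain ⟨j, -, hj⟩ := (Nat.dvd_prime_pow hp).mp (orderOf_dvd_of_pow_eq_one hn)
    exact ⟨j, hj⟩

theorem pelt_of_mem (P : Sylow p G) {x : G} (hx : x ∈ (P : Subgroup G)) : ∃ n : ℕ, x ^ (p ^ n) = 1 := by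
  obtain ⟨k, hk⟩ := P.isPGroup' ⟨x, hx⟩
  exact ⟨k, by simpa using congrArg Subtype.val hk⟩

/-- A `p`-element lies in some Sylow `p`-subgroup. -/
theorem exists_sylow_mem (x : G) (hx : ∃ k : ℕ, orderOf x = p ^ k) :
    ∃ P : Sylow p G, x ∈ (P : Subgroup G) := by
  have h1 : IsPGroup p (Subgroup.zpowers x) := by
    obtain ⟨k, hk⟩ := hx
    apply IsPGroup.of_card (n := k)
    rw [Nat.card_zpowers, hk]
  obtain ⟨P, hP⟩ := h1.exists_le_sylow
  exact ⟨P, hP (Subgroup.mem_zpowers x)⟩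

/-- Central `p`-elements lie in every Sylow `p`-subgroup. -/
theorem central_mem (z : G) (hz : ∀ g : G, g * z = z * g) (hzp : ∃ k : ℕ, orderOf z = p ^ k)
    (P : Sylow p G) : z ∈ (P : Subgroup G) := by
  obtain ⟨P₁, h1⟩ := exists_sylow_mem z hzp
  obtain ⟨g, hg⟩ := MulAction.exists_smul_eq G P₁ P
  rw [← hg, mem_smul_iff]
  have : g⁻¹ * z * g = z := by
    rw [mul_assoc, ← hz g]
    group
  rw [this]
  exact h1

/-- If some `p`-element lies in a unique Sylow `p`-subgroup, no Sylow `p`-subgroup is redundant. -/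
theorem not_redundant_of_unique (x : G) (hx : ∃ k : ℕ, orderOf x = p ^ k) (P₀ : Sylow p G)
    (hu : ∀ P : Sylow p G, x ∈ (P : Subgroup G) → P = P₀) :
    ¬ ∃ Q : Sylow p G, ∀ y : G, (∃ k : ℕ, orderOf y = p ^ k) → ∃ P : Sylow p G, P ≠ Q ∧ y ∈ P := by
  rintro ⟨Q, hQ⟩
  obtain ⟨g, hg⟩ := MulAction.exists_smul_eq G P₀ Q
  have hx' : ∃ k : ℕ, orderOf (g * x * g⁻¹) = p ^ k := by
    rw [pelt_iff] at hx ⊢
    obtain ⟨n, hn⟩ := hx
    exact ⟨n, by rw [conj_pow, hn]; group⟩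
  obtain ⟨P, hPQ, hyP⟩ := hQ (g * x * g⁻¹) hx'
  apply hPQ
  have h1 : x ∈ ((g⁻¹ • P : Sylow p G) : Subgroup G) := by
    rw [mem_smul_iff, inv_inv]
    exact hyP
  have h2 := hu _ h1
  rw [← hg, ← h2, smul_inv_smul]

/-- If every `p`-element lies in two distinct Sylow `p`-subgroups, every Sylow is redundant. -/
theorem redundant_of_two
    (h : ∀ y : G, (∃ k : ℕ, orderOf y = p ^ k) →
      ∃ P₁ P₂ : Sylow p G, P₁ ≠ P₂ ∧ y ∈ (P₁ : Subgroup G) ∧ y ∈ (P₂ : Subgroup G)) :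
    ∃ Q : Sylow p G, ∀ y : G, (∃ k : ℕ, orderOf y = p ^ k) → ∃ P : Sylow p G, P ≠ Q ∧ y ∈ P := by
  obtain ⟨Q⟩ : Nonempty (Sylow p G) := inferInstance
  refine ⟨Q, fun y hy => ?_⟩
  obtain ⟨P₁, P₂, hne, h1, h2⟩ := h y hy
  by_cases hQ : P₁ = Q
  · exact ⟨P₂, fun h' => hne (hQ.trans h'.symm), h2⟩
  · exact ⟨P₁, hQ, h1⟩

section quotient

variable {G' : Type*} [Group G'] (f : G →* G') (hf : Function.Surjective f)
  (hker : ∀ z ∈ f.ker, ∀ g : G, g * z = z * g)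

include hker in
/-- Uniqueness of the Sylow subgroup containing a `p`-element passes to central quotients. -/
theorem unique_map (x : G) (hx : ∃ k : ℕ, orderOf x = p ^ k) (P₀ : Sylow p G)
    (hu : ∀ P : Sylow p G, x ∈ (P : Subgroup G) → P = P₀) :
    ∀ P' : Sylow p G', f x ∈ (P' : Subgroup G') → P' = P₀.mapSurjective hf := by
  intro P' hP'
  obtain ⟨P, rfl⟩ := Sylow.mapSurjective_surjective hf p P'
  have h1 : f x ∈ (P : Subgroup G).map f := hP'
  obtain ⟨y, hy, hyx⟩ := Subgroup.mem_map.mp h1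
  have hz : y⁻¹ * x ∈ f.ker := by
    rw [MonoidHom.mem_ker, map_mul, map_inv, hyx, inv_mul_cancel]
  have hcomm : Commute y⁻¹ x := by
    have h2 := hker _ hz y
    have h3 : y * x = x * y := by
      have e : y * (y⁻¹ * x) = x := by group
      rw [e] at h2
      calc y * x = y * (y⁻¹ * x * y) := by rw [← h2]
        _ = x * y := by group
    exact (Commute.inv_left_iff).mpr h3
  have hzp : ∃ k : ℕ, orderOf (y⁻¹ * x) = p ^ k := by
    rw [pelt_iff] at hx ⊢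
    obtain ⟨a, ha⟩ := hx
    obtain ⟨b, hb⟩ := pelt_of_mem P hy
    refine ⟨a + b, ?_⟩
    rw [hcomm.mul_pow, inv_pow, pow_add, pow_mul' y, hb, one_pow, inv_one, one_mul, pow_mul, ha, one_pow]
  have hzP : y⁻¹ * x ∈ (P : Subgroup G) := central_mem _ (hker _ hz) hzp P
  have hxP : x ∈ (P : Subgroup G) := by
    have := mul_mem hy hzP
    rwa [mul_inv_cancel_left] at this
  rw [hu P hxP]

include hf hker in
/-- "Every `p`-element lies in two distinct Sylow subgroups" passes to quotients by central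
`p`-subgroups. -/
theorem two_map (hkp : ∀ z ∈ f.ker, ∃ k : ℕ, orderOf z = p ^ k)
    (h : ∀ y : G, (∃ k : ℕ, orderOf y = p ^ k) →
      ∃ P₁ P₂ : Sylow p G, P₁ ≠ P₂ ∧ y ∈ (P₁ : Subgroup G) ∧ y ∈ (P₂ : Subgroup G)) :
    ∀ y' : G', (∃ k : ℕ, orderOf y' = p ^ k) →
      ∃ P₁ P₂ : Sylow p G', P₁ ≠ P₂ ∧ y' ∈ (P₁ : Subgroup G') ∧ y' ∈ (P₂ : Subgroup G') := by
  intro y' hy'
  obtain ⟨y, rfl⟩ := hf y'
  have hy : ∃ k : ℕ, orderOf y = p ^ k := by
    obtain ⟨k, hk⟩ := hy'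
    have h1 : y ^ (p ^ k) ∈ f.ker := by
      rw [MonoidHom.mem_ker, map_pow, ← hk, pow_orderOf_eq_one]
    obtain ⟨j, hj⟩ := hkp _ h1
    rw [pelt_iff]
    refine ⟨k + j, ?_⟩
    rw [pow_add, pow_mul, ← hj, pow_orderOf_eq_one]
  obtain ⟨P₁, P₂, hne, h1, h2⟩ := h y hy
  refine ⟨P₁.mapSurjective hf, P₂.mapSurjective hf, ?_, Subgroup.mem_map_of_mem f h1,
    Subgroup.mem_map_of_mem f h2⟩
  intro heq
  apply hne
  have hk : ∀ P : Sylow p G, f.ker ≤ (P : Subgroup G) := fun P z hz =>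
    central_mem z (hker z hz) (hkp z hz) P
  have h3 : ((P₁ : Subgroup G).map f).comap f = ((P₂ : Subgroup G).map f).comap f := by
    have := congrArg (fun S : Sylow p G' => ((S : Subgroup G').comap f)) heq
    exact this
  rw [Subgroup.comap_map_eq, Subgroup.comap_map_eq, sup_eq_left.mpr (hk P₁),
    sup_eq_left.mpr (hk P₂)] at h3
  exact Sylow.ext h3

end quotient

end Cfsg.Agent.Lib.Helper14.Redund
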