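import Mathlib
import Cfsg.Agent.Lib.Helper14.SL2Odd2
import Cfsg.Agent.Lib.Helper14.Dicyclic

set_option autoImplicit false

namespace Cfsg.Agent.Lib.Helper14.Torus

open Cfsg.Agent.Lib.Helper14.GL2Conj Cfsg.Agent.Lib.Helper14.SL2Odd Cfsg.Agent.Lib.Helper14.PSL2
open Cfsg.Agent.Lib.Helper14.ClassSize Cfsg.Agent.Lib.Helper14.SL2Odd2

variable {F : Type*} [Field F]

theorem mem_cent_iff (g h : Matrix.SpecialLinearGroup (Fin 2) F) :
    h ∈ Subgroup.centralizer ({g} : Set (Matrix.SpecialLinearGroup (Fin 2) F)) ↔ g * h = h * g := by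
  rw [Subgroup.mem_centralizer_iff]
  constructor
  · intro h1
    exact h1 g rfl
  · intro h1 x hx
    rw [Set.mem_singleton_iff] at hx
    rw [hx, h1]

theorem self_mem_cent (g : Matrix.SpecialLinearGroup (Fin 2) F) :
    g ∈ Subgroup.centralizer ({g} : Set (Matrix.SpecialLinearGroup (Fin 2) F)) :=
  (mem_cent_iff g g).mpr rfl

theorem commutant (g M : Matrix.SpecialLinearGroup (Fin 2) F)
    (hg : ¬ IsScalarMat (g : Matrix (Fin 2) (Fin 2) F))
    (hM : M ∈ Subgroup.centralizer ({g} : Set (Matrix.SpecialLinearGroup (Fin 2) F))) :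
    ∃ a b : F, (M : Matrix (Fin 2) (Fin 2) F) =
      a • (1 : Matrix (Fin 2) (Fin 2) F) + b • (g : Matrix (Fin 2) (Fin 2) F) := by
  rw [mem_cent_iff] at hM
  have h2 : (g : Matrix (Fin 2) (Fin 2) F) * (M : Matrix (Fin 2) (Fin 2) F) =
      (M : Matrix (Fin 2) (Fin 2) F) * (g : Matrix (Fin 2) (Fin 2) F) := by
    have := congrArg (fun X : Matrix.SpecialLinearGroup (Fin 2) F => (X : Matrix (Fin 2) (Fin 2) F)) hM
    simpa using this
  have e00 := congrFun (congrFun h2 0) 0
  have e01 := congrFun (congrFun h2 0) 1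
  have e10 := congrFun (congrFun h2 1) 0
  have e11 := congrFun (congrFun h2 1) 1
  simp only [Matrix.mul_apply, Fin.sum_univ_two] at e00 e01 e10 e11
  rw [isScalarMat_iff] at hg
  by_cases hr : (g : Matrix (Fin 2) (Fin 2) F) 1 0 = 0
  · by_cases hq : (g : Matrix (Fin 2) (Fin 2) F) 0 1 = 0
    · have hps : (g : Matrix (Fin 2) (Fin 2) F) 0 0 ≠ (g : Matrix (Fin 2) (Fin 2) F) 1 1 :=
        fun h => hg ⟨hq, hr, h⟩
      have hps' : (g : Matrix (Fin 2) (Fin 2) F) 0 0 - (g : Matrix (Fin 2) (Fin 2) F) 1 1 ≠ 0 :=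
        sub_ne_zero.mpr hps
      rw [hq] at e01
      rw [hr] at e10
      have m01 : (M : Matrix (Fin 2) (Fin 2) F) 0 1 = 0 := by
        have : (M : Matrix (Fin 2) (Fin 2) F) 0 1 *
            ((g : Matrix (Fin 2) (Fin 2) F) 0 0 - (g : Matrix (Fin 2) (Fin 2) F) 1 1) = 0 := by
          linear_combination e01
        rcases mul_eq_zero.mp this with h | h
        · exact h
        · exact absurd h hps'
      have m10 : (M : Matrix (Fin 2) (Fin 2) F) 1 0 = 0 := by
        have : (M : Matrix (Fin 2) (Fin 2) F) 1 0 *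
            ((g : Matrix (Fin 2) (Fin 2) F) 0 0 - (g : Matrix (Fin 2) (Fin 2) F) 1 1) = 0 := by
          linear_combination (-1 : F) * e10
        rcases mul_eq_zero.mp this with h | h
        · exact h
        · exact absurd h hps'
      refine ⟨(M : Matrix (Fin 2) (Fin 2) F) 0 0 -
          ((M : Matrix (Fin 2) (Fin 2) F) 0 0 - (M : Matrix (Fin 2) (Fin 2) F) 1 1) /
            ((g : Matrix (Fin 2) (Fin 2) F) 0 0 - (g : Matrix (Fin 2) (Fin 2) F) 1 1) *
            (g : Matrix (Fin 2) (Fin 2) F) 0 0,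
        ((M : Matrix (Fin 2) (Fin 2) F) 0 0 - (M : Matrix (Fin 2) (Fin 2) F) 1 1) /
            ((g : Matrix (Fin 2) (Fin 2) F) 0 0 - (g : Matrix (Fin 2) (Fin 2) F) 1 1), ?_⟩
      ext i j
      fin_cases i <;> fin_cases j
      · simp
      · simp [m01, hq]
      · simp [m10, hr]
      · simp
        field_simp
        ring
    · rw [hr] at e00 e10 e11
      have m10 : (M : Matrix (Fin 2) (Fin 2) F) 1 0 = 0 := by
        have : (g : Matrix (Fin 2) (Fin 2) F) 0 1 * (M : Matrix (Fin 2) (Fin 2) F) 1 0 = 0 := by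
          linear_combination e00
        rcases mul_eq_zero.mp this with h | h
        · exact absurd h hq
        · exact h
      refine ⟨(M : Matrix (Fin 2) (Fin 2) F) 0 0 -
          (M : Matrix (Fin 2) (Fin 2) F) 0 1 / (g : Matrix (Fin 2) (Fin 2) F) 0 1 *
            (g : Matrix (Fin 2) (Fin 2) F) 0 0,
        (M : Matrix (Fin 2) (Fin 2) F) 0 1 / (g : Matrix (Fin 2) (Fin 2) F) 0 1, ?_⟩
      ext i j
      fin_cases i <;> fin_cases j
      · simp
      · simp
        field_simp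
      · simp [m10, hr]
      · simp
        field_simp
        linear_combination e01
  · refine ⟨(M : Matrix (Fin 2) (Fin 2) F) 0 0 -
        (M : Matrix (Fin 2) (Fin 2) F) 1 0 / (g : Matrix (Fin 2) (Fin 2) F) 1 0 *
          (g : Matrix (Fin 2) (Fin 2) F) 0 0,
      (M : Matrix (Fin 2) (Fin 2) F) 1 0 / (g : Matrix (Fin 2) (Fin 2) F) 1 0, ?_⟩
    ext i j
    fin_cases i <;> fin_cases j
    · simp
    · simp
      field_simp
      linear_combination (-1 : F) * e00
    · simp
      field_simp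
    · simp
      field_simp
      linear_combination (-1 : F) * e10

theorem torus_comm (g : Matrix.SpecialLinearGroup (Fin 2) F)
    (hg : ¬ IsScalarMat (g : Matrix (Fin 2) (Fin 2) F)) :
    ∀ x ∈ Subgroup.centralizer ({g} : Set (Matrix.SpecialLinearGroup (Fin 2) F)),
    ∀ y ∈ Subgroup.centralizer ({g} : Set (Matrix.SpecialLinearGroup (Fin 2) F)), x * y = y * x := by
  intro x hx y hy
  obtain ⟨a, b, hab⟩ := commutant g x hg hx
  rw [mem_cent_iff] at hy
  have hy' : (g : Matrix (Fin 2) (Fin 2) F) * (y : Matrix (Fin 2) (Fin 2) F) =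
      (y : Matrix (Fin 2) (Fin 2) F) * (g : Matrix (Fin 2) (Fin 2) F) := by
    have := congrArg (fun X : Matrix.SpecialLinearGroup (Fin 2) F => (X : Matrix (Fin 2) (Fin 2) F)) hy
    simpa using this
  apply Subtype.ext
  rw [Matrix.SpecialLinearGroup.coe_mul, Matrix.SpecialLinearGroup.coe_mul, hab, Matrix.add_mul,
    Matrix.mul_add, Matrix.smul_mul, Matrix.smul_mul, Matrix.one_mul, Matrix.mul_smul, Matrix.mul_smul,
    Matrix.mul_one, hy']

theorem inv_coe (g : Matrix.SpecialLinearGroup (Fin 2) F) :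
    ((g⁻¹ : Matrix.SpecialLinearGroup (Fin 2) F) : Matrix (Fin 2) (Fin 2) F) =
      tr2 g • (1 : Matrix (Fin 2) (Fin 2) F) - (g : Matrix (Fin 2) (Fin 2) F) := by
  rw [Matrix.SpecialLinearGroup.coe_inv, Matrix.adjugate_fin_two]
  unfold tr2
  ext i j
  fin_cases i <;> fin_cases j <;> simp

theorem det_lin (g : Matrix.SpecialLinearGroup (Fin 2) F) (a b : F) :
    (a • (1 : Matrix (Fin 2) (Fin 2) F) + b • (g : Matrix (Fin 2) (Fin 2) F)).det =
      a ^ 2 + tr2 g * a * b + b ^ 2 := by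
  have hgd := g.det_coe
  rw [Matrix.det_fin_two] at hgd
  rw [Matrix.det_fin_two]
  simp only [Matrix.add_apply, Matrix.smul_apply, Matrix.one_apply_eq, Matrix.one_apply_ne, ne_eq,
    zero_ne_one, one_ne_zero, not_false_eq_true, smul_eq_mul, mul_one, mul_zero, zero_add]
  unfold tr2
  linear_combination (b ^ 2) * hgd

theorem trace_eq_in_torus (h2 : (2 : F) ≠ 0) (g M : Matrix.SpecialLinearGroup (Fin 2) F)
    (hg : ¬ IsScalarMat (g : Matrix (Fin 2) (Fin 2) F)) (ht4 : tr2 g ^ 2 ≠ 4)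
    (hM : M ∈ Subgroup.centralizer ({g} : Set (Matrix.SpecialLinearGroup (Fin 2) F)))
    (htr : tr2 M = tr2 g) : M = g ∨ M = g⁻¹ := by
  obtain ⟨a, b, hab⟩ := commutant g M hg hM
  have hdet := M.det_coe
  rw [hab, det_lin] at hdet
  have e0 : (M : Matrix (Fin 2) (Fin 2) F) 0 0 = a + b * (g : Matrix (Fin 2) (Fin 2) F) 0 0 := by
    have := congrFun (congrFun hab 0) 0
    simpa using this
  have e1 : (M : Matrix (Fin 2) (Fin 2) F) 1 1 = a + b * (g : Matrix (Fin 2) (Fin 2) F) 1 1 := by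
    have := congrFun (congrFun hab 1) 1
    simpa using this
  have htr0 : tr2 M = 2 * a + b * tr2 g := by
    unfold tr2
    rw [e0, e1]
    ring
  have htr' : 2 * a + b * tr2 g = tr2 g := by
    rw [← htr0, htr]
  have hb : (b ^ 2 - 1) * (tr2 g ^ 2 - 4) = 0 := by
    linear_combination (-4 : F) * hdet + (2 * a + b * tr2 g + tr2 g) * htr'
  have hb1 : b ^ 2 - 1 = 0 := by
    rcases mul_eq_zero.mp hb with h | h
    · exact h
    · exact absurd (sub_eq_zero.mp h) ht4
  have hb2 : (b - 1) * (b + 1) = 0 := by linear_combination hb1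
  rcases mul_eq_zero.mp hb2 with h | h
  · left
    have hb' : b = 1 := sub_eq_zero.mp h
    have ha2 : 2 * a = 0 := by
      rw [hb'] at htr'
      linear_combination htr'
    have ha : a = 0 := by
      rcases mul_eq_zero.mp ha2 with h3 | h3
      · exact absurd h3 h2
      · exact h3
    apply Subtype.ext
    rw [hab, ha, hb']
    simp
  · right
    have hb' : b = -1 := eq_neg_of_add_eq_zero_left h
    have ha2 : 2 * (a - tr2 g) = 0 := by
      rw [hb'] at htr'
      linear_combination htr'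
    have ha : a = tr2 g := by
      rcases mul_eq_zero.mp ha2 with h3 | h3
      · exact absurd h3 h2
      · exact sub_eq_zero.mp h3
    apply Subtype.ext
    rw [hab, inv_coe, hb', ha]
    simp [sub_eq_add_neg]

theorem normalizer_dichotomy (h2 : (2 : F) ≠ 0) (g x : Matrix.SpecialLinearGroup (Fin 2) F)
    (hg : ¬ IsScalarMat (g : Matrix (Fin 2) (Fin 2) F)) (ht4 : tr2 g ^ 2 ≠ 4)
    (hx : x ∈ Subgroup.normalizer
      ((Subgroup.centralizer ({g} : Set (Matrix.SpecialLinearGroup (Fin 2) F))) :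
        Set (Matrix.SpecialLinearGroup (Fin 2) F))) :
    x ∈ Subgroup.centralizer ({g} : Set (Matrix.SpecialLinearGroup (Fin 2) F)) ∨ x * g * x⁻¹ = g⁻¹ := by
  have h1 := (Subgroup.mem_normalizer_iff.mp hx g).mp (self_mem_cent g)
  rcases trace_eq_in_torus h2 g _ hg ht4 h1 (tr2_conj x g) with h | h
  · left
    rw [mem_cent_iff]
    nth_rewrite 1 [← h]
    group
  · right
    exact h

theorem inverts (g x c : Matrix.SpecialLinearGroup (Fin 2) F)
    (hg : ¬ IsScalarMat (g : Matrix (Fin 2) (Fin 2) F)) (hx : x * g * x⁻¹ = g⁻¹)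
    (hc : c ∈ Subgroup.centralizer ({g} : Set (Matrix.SpecialLinearGroup (Fin 2) F))) :
    x * c * x⁻¹ = c⁻¹ := by
  obtain ⟨a, b, hab⟩ := commutant g c hg hc
  have h1 : ((x * c * x⁻¹ : Matrix.SpecialLinearGroup (Fin 2) F) : Matrix (Fin 2) (Fin 2) F) =
      a • (1 : Matrix (Fin 2) (Fin 2) F) +
        b • (tr2 g • (1 : Matrix (Fin 2) (Fin 2) F) - (g : Matrix (Fin 2) (Fin 2) F)) := by
    have e1 : ((x * x⁻¹ : Matrix.SpecialLinearGroup (Fin 2) F) : Matrix (Fin 2) (Fin 2) F) = 1 := by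
      rw [mul_inv_cancel]
      rfl
    have e2 : ((x * g * x⁻¹ : Matrix.SpecialLinearGroup (Fin 2) F) : Matrix (Fin 2) (Fin 2) F) =
        tr2 g • (1 : Matrix (Fin 2) (Fin 2) F) - (g : Matrix (Fin 2) (Fin 2) F) := by
      rw [hx, inv_coe]
    simp only [Matrix.SpecialLinearGroup.coe_mul] at e1 e2 ⊢
    rw [hab, Matrix.mul_add, Matrix.add_mul, Matrix.mul_smul, Matrix.smul_mul, Matrix.mul_smul,
      Matrix.smul_mul, Matrix.mul_one, e1, e2]
  have h3 : ((c⁻¹ : Matrix.SpecialLinearGroup (Fin 2) F) : Matrix (Fin 2) (Fin 2) F) =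
      a • (1 : Matrix (Fin 2) (Fin 2) F) +
        b • (tr2 g • (1 : Matrix (Fin 2) (Fin 2) F) - (g : Matrix (Fin 2) (Fin 2) F)) := by
    rw [Matrix.SpecialLinearGroup.coe_inv, hab, Matrix.adjugate_fin_two]
    unfold tr2
    ext i j
    fin_cases i <;> fin_cases j <;> simp
  exact Subtype.ext (h1.trans h3.symm)

theorem scalar_of_sq (h2 : (2 : F) ≠ 0) (Y : Matrix.SpecialLinearGroup (Fin 2) F) (hY : Y * Y = 1) :
    IsScalarMat (Y : Matrix (Fin 2) (Fin 2) F) := by
  have h1 := cayley Y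
  rw [← Matrix.SpecialLinearGroup.coe_mul, hY, Matrix.SpecialLinearGroup.coe_one] at h1
  have h3 : tr2 Y • (Y : Matrix (Fin 2) (Fin 2) F) = (2 : F) • (1 : Matrix (Fin 2) (Fin 2) F) := by
    have : tr2 Y • (Y : Matrix (Fin 2) (Fin 2) F) = 1 + 1 := by
      rw [eq_sub_iff_add_eq] at h1
      exact h1.symm
    rw [this, two_smul]
  have ht : tr2 Y ≠ 0 := by
    intro h0
    rw [h0, zero_smul] at h3
    have h4 := congrFun (congrFun h3 0) 0
    simp at h4
    exact h2 h4.symm
  refine ⟨(tr2 Y)⁻¹ * 2, ?_⟩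
  rw [← smul_smul, ← h3, smul_smul, inv_mul_cancel₀ ht, one_smul]

theorem negOne_central (W : Matrix.SpecialLinearGroup (Fin 2) F) : negOne * W = W * negOne := by
  apply Subtype.ext
  rw [Matrix.SpecialLinearGroup.coe_mul, Matrix.SpecialLinearGroup.coe_mul, negOne_coe]
  ext i j
  fin_cases i <;> fin_cases j <;> simp [Matrix.mul_apply, Fin.sum_univ_two]

theorem negOne_mul_self : (negOne : Matrix.SpecialLinearGroup (Fin 2) F) * negOne = 1 := by
  apply Subtype.ext
  rw [Matrix.SpecialLinearGroup.coe_mul, negOne_coe, Matrix.mul_fin_two]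
  ext i j
  fin_cases i <;> fin_cases j <;> simp

theorem sq_iff (h2 : (2 : F) ≠ 0) (c : Matrix.SpecialLinearGroup (Fin 2) F) :
    c * c = 1 ↔ (c = 1 ∨ c = negOne) := by
  constructor
  · intro h
    exact scalar_cases c (scalar_of_sq h2 c h)
  · rintro (h | h)
    · rw [h, mul_one]
    · rw [h, negOne_mul_self]

theorem exists_w [Fintype F] (hodd : Fintype.card F % 2 = 1) (g : Matrix.SpecialLinearGroup (Fin 2) F)
    (hg : ¬ IsScalarMat (g : Matrix (Fin 2) (Fin 2) F)) (ht4 : tr2 g ^ 2 ≠ 4) :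
    ∃ w : Matrix.SpecialLinearGroup (Fin 2) F, w * g * w⁻¹ = g⁻¹ := by
  have hc : IsConj g g⁻¹ :=
    conj_of_trace hodd g g⁻¹ hg (not_scalar_of_trace _ (by rw [tr2_inv]; exact ht4)) (tr2_inv g).symm ht4
  exact isConj_iff.mp hc

theorem inverter_mem_normalizer (g w : Matrix.SpecialLinearGroup (Fin 2) F) (hw : w * g * w⁻¹ = g⁻¹) :
    w ∈ Subgroup.normalizer
      ((Subgroup.centralizer ({g} : Set (Matrix.SpecialLinearGroup (Fin 2) F))) :
        Set (Matrix.SpecialLinearGroup (Fin 2) F)) := by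
  rw [Subgroup.mem_normalizer_iff]
  intro h
  rw [mem_cent_iff, mem_cent_iff]
  have e1 : (g * h = h * g) ↔ Commute g h := Iff.rfl
  have e2 : (g * (w * h * w⁻¹) = w * h * w⁻¹ * g) ↔ Commute g (w * h * w⁻¹) := Iff.rfl
  rw [e1, e2, ← Commute.inv_left_iff (a := g) (b := w * h * w⁻¹), ← hw, Commute.conj_iff]

theorem inverter_not_mem (h2 : (2 : F) ≠ 0) (g w : Matrix.SpecialLinearGroup (Fin 2) F)
    (hg : ¬ IsScalarMat (g : Matrix (Fin 2) (Fin 2) F)) (hw : w * g * w⁻¹ = g⁻¹) :
    w ∉ Subgroup.centralizer ({g} : Set (Matrix.SpecialLinearGroup (Fin 2) F)) := by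
  intro hmem
  rw [mem_cent_iff] at hmem
  apply hg
  apply scalar_of_sq h2
  have h1 : w * g * w⁻¹ = g := by
    rw [← hmem]
    group
  rw [h1] at hw
  exact mul_eq_one_iff_eq_inv.mpr hw

theorem sq_of_inverts (g x : Matrix.SpecialLinearGroup (Fin 2) F)
    (hg : ¬ IsScalarMat (g : Matrix (Fin 2) (Fin 2) F)) (hx : x * g * x⁻¹ = g⁻¹) : x * x = negOne := by
  apply sq_eq_negOne_of_trace_zero
  have h1 : x * g = g⁻¹ * x := by
    rw [← hx]
    group
  have h3 : (x : Matrix (Fin 2) (Fin 2) F) * (g : Matrix (Fin 2) (Fin 2) F) =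
      (tr2 g • (1 : Matrix (Fin 2) (Fin 2) F) - (g : Matrix (Fin 2) (Fin 2) F)) *
        (x : Matrix (Fin 2) (Fin 2) F) := by
    have := congrArg (fun X : Matrix.SpecialLinearGroup (Fin 2) F => (X : Matrix (Fin 2) (Fin 2) F)) h1
    simp only [Matrix.SpecialLinearGroup.coe_mul] at this
    rw [inv_coe] at this
    exact this
  have e00 := congrFun (congrFun h3 0) 0
  have e01 := congrFun (congrFun h3 0) 1
  have e10 := congrFun (congrFun h3 1) 0
  have e11 := congrFun (congrFun h3 1) 1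
  simp only [Matrix.mul_apply, Fin.sum_univ_two, Matrix.sub_apply, Matrix.smul_apply, Matrix.one_apply_eq,
    Matrix.one_apply_ne, ne_eq, zero_ne_one, one_ne_zero, not_false_eq_true, smul_eq_mul, mul_one,
    mul_zero, zero_sub] at e00 e01 e10 e11
  unfold tr2 at e00 e01 e10 e11
  rw [isScalarMat_iff] at hg
  have k1 : tr2 x * (g : Matrix (Fin 2) (Fin 2) F) 0 1 = 0 := by
    unfold tr2
    linear_combination e01
  have k2 : tr2 x * (g : Matrix (Fin 2) (Fin 2) F) 1 0 = 0 := by
    unfold tr2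
    linear_combination e10
  have k3 : tr2 x * ((g : Matrix (Fin 2) (Fin 2) F) 0 0 - (g : Matrix (Fin 2) (Fin 2) F) 1 1) = 0 := by
    unfold tr2
    linear_combination e00 - e11
  by_contra hne
  apply hg
  refine ⟨?_, ?_, ?_⟩
  · rcases mul_eq_zero.mp k1 with h | h
    · exact absurd h hne
    · exact h
  · rcases mul_eq_zero.mp k2 with h | h
    · exact absurd h hne
    · exact h
  · rcases mul_eq_zero.mp k3 with h | h
    · exact absurd h hne
    · exact sub_eq_zero.mp h

theorem cent_eq_of_mem (g c : Matrix.SpecialLinearGroup (Fin 2) F)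
    (hg : ¬ IsScalarMat (g : Matrix (Fin 2) (Fin 2) F))
    (hc : c ∈ Subgroup.centralizer ({g} : Set (Matrix.SpecialLinearGroup (Fin 2) F)))
    (hcs : ¬ IsScalarMat (c : Matrix (Fin 2) (Fin 2) F)) :
    Subgroup.centralizer ({c} : Set (Matrix.SpecialLinearGroup (Fin 2) F)) =
      Subgroup.centralizer ({g} : Set (Matrix.SpecialLinearGroup (Fin 2) F)) := by
  obtain ⟨a, b, hab⟩ := commutant g c hg hc
  have hb : b ≠ 0 := by
    intro hb
    apply hcs
    rw [hab, hb, zero_smul, add_zero]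
    exact ⟨a, rfl⟩
  ext y
  rw [mem_cent_iff, mem_cent_iff]
  constructor
  · intro h
    have h' : (c : Matrix (Fin 2) (Fin 2) F) * (y : Matrix (Fin 2) (Fin 2) F) =
        (y : Matrix (Fin 2) (Fin 2) F) * (c : Matrix (Fin 2) (Fin 2) F) := by
      have := congrArg (fun X : Matrix.SpecialLinearGroup (Fin 2) F => (X : Matrix (Fin 2) (Fin 2) F)) h
      simpa using this
    rw [hab, Matrix.add_mul, Matrix.mul_add, Matrix.smul_mul, Matrix.smul_mul, Matrix.one_mul,
      Matrix.mul_smul, Matrix.mul_smul, Matrix.mul_one] at h'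
    have h3 : b • ((g : Matrix (Fin 2) (Fin 2) F) * (y : Matrix (Fin 2) (Fin 2) F)) =
        b • ((y : Matrix (Fin 2) (Fin 2) F) * (g : Matrix (Fin 2) (Fin 2) F)) := add_left_cancel h'
    have h4 := congrArg (fun X : Matrix (Fin 2) (Fin 2) F => b⁻¹ • X) h3
    simp only [smul_smul, inv_mul_cancel₀ hb, one_smul] at h4
    apply Subtype.ext
    rw [Matrix.SpecialLinearGroup.coe_mul, Matrix.SpecialLinearGroup.coe_mul]
    exact h4
  · intro h
    exact torus_comm g hg c hc y ((mem_cent_iff g y).mpr h)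

theorem normalizer_facts [Fintype F] (hodd : Fintype.card F % 2 = 1)
    (g : Matrix.SpecialLinearGroup (Fin 2) F)
    (hg : ¬ IsScalarMat (g : Matrix (Fin 2) (Fin 2) F)) (ht4 : tr2 g ^ 2 ≠ 4) :
    Nat.card (Subgroup.normalizer
      ((Subgroup.centralizer ({g} : Set (Matrix.SpecialLinearGroup (Fin 2) F))) :
        Set (Matrix.SpecialLinearGroup (Fin 2) F))) =
      2 * Nat.card (Subgroup.centralizer ({g} : Set (Matrix.SpecialLinearGroup (Fin 2) F))) ∧
    2 * Nat.card (ConjClasses (Subgroup.normalizer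
      ((Subgroup.centralizer ({g} : Set (Matrix.SpecialLinearGroup (Fin 2) F))) :
        Set (Matrix.SpecialLinearGroup (Fin 2) F)))) =
      Nat.card (Subgroup.centralizer ({g} : Set (Matrix.SpecialLinearGroup (Fin 2) F))) + 6 := by
  have h2 : (2 : F) ≠ 0 := two_ne_zero_of_odd hodd
  obtain ⟨w, hw⟩ := exists_w hodd g hg ht4
  apply Cfsg.Agent.Lib.Helper14.Dicyclic.normalizer_card
    (Subgroup.centralizer ({g} : Set (Matrix.SpecialLinearGroup (Fin 2) F))) (torus_comm g hg) _ _ w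
    (inverter_mem_normalizer g w hw) (inverter_not_mem h2 g w hg hw) negOne
  · rw [mem_cent_iff]
    exact (negOne_central g).symm
  · exact negOne_ne_one h2
  · intro c _
    exact sq_iff h2 c
  · intro y hy
    rw [mem_cent_iff]
    exact (hy g (self_mem_cent g)).symm
  · intro x hx hxT c hc
    rcases normalizer_dichotomy h2 g x hg ht4 hx with h | h
    · exact absurd h hxT
    · exact inverts g x c hg h hc

end Cfsg.Agent.Lib.Helper14.Torus
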