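import Mathlib
import Cfsg.Agent.Lib.Helper14.Torus
import Cfsg.Agent.Lib.Helper14.Redund1
import Cfsg.Agent.S2475

set_option autoImplicit false
set_option linter.style.haveILetI false

namespace Cfsg.Agent.Lib.Helper14.Redund

open Cfsg.Agent.Lib.Helper14.GL2Conj Cfsg.Agent.Lib.Helper14.SL2Odd Cfsg.Agent.Lib.Helper14.PSL2
open Cfsg.Agent.Lib.Helper14.Torus

variable {F : Type*} [Field F]

theorem fact_two (a r : ℕ) (hr : r % 2 = 1) : (2 ^ a * r).factorization 2 = a := by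
  have hr0 : r ≠ 0 := by omega
  rw [Nat.factorization_mul (pow_ne_zero _ (by norm_num)) hr0,
    Nat.Prime.factorization_pow Nat.prime_two]
  have : r.factorization 2 = 0 := Nat.factorization_eq_zero_of_not_dvd (by omega)
  simp [this]

/-- In odd characteristic an element of `2`-power order at least `4` is regular semisimple. -/
theorem regular_of_order [Fintype F] (hodd : Fintype.card F % 2 = 1) (x : (Matrix.SpecialLinearGroup (Fin 2) F)) (j : ℕ) (hj : 2 ≤ j)
    (hx : orderOf x = 2 ^ j) :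
    ¬ IsScalarMat (x : Matrix (Fin 2) (Fin 2) F) ∧ tr2 x ^ 2 ≠ 4 := by
  have h4 : 4 ∣ orderOf x := by
    rw [hx]
    exact dvd_trans (by norm_num : 4 ∣ 2 ^ 2) (pow_dvd_pow 2 hj)
  constructor
  · intro hs
    have h1 := Cfsg.Agent.S2475.scalar_sq x hs
    have h2 : orderOf x ∣ 2 := orderOf_dvd_of_pow_eq_one (by rw [pow_two]; exact h1)
    have := Nat.le_of_dvd (by norm_num) (h4.trans h2)
    omega
  · intro ht
    obtain ⟨p, hp⟩ := CharP.exists F
    haveI := hp
    haveI : Fact p.Prime := ⟨CharP.char_is_prime F p⟩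
    have hs := pow_char_scalar p x ht
    have h1 := Cfsg.Agent.S2475.scalar_sq _ hs
    have h2 : orderOf x ∣ 2 * p := orderOf_dvd_of_pow_eq_one (by rw [two_mul, pow_add]; exact h1)
    have h3 : 2 ∣ p := by
      have := h4.trans h2
      omega
    have hp2 : 2 = p := (Nat.prime_dvd_prime_iff_eq Nat.prime_two (Fact.out)).mp h3
    have h2F : (2 : F) ≠ 0 := two_ne_zero_of_odd hodd
    apply h2F
    have := CharP.cast_eq_zero F p
    rw [← hp2] at this
    exact_mod_cast this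

theorem card_cent [Fintype F] (hodd : Fintype.card F % 2 = 1) (x : (Matrix.SpecialLinearGroup (Fin 2) F)) (ht4 : tr2 x ^ 2 ≠ 4) :
    (Nat.card (Subgroup.centralizer ({x} : Set (Matrix.SpecialLinearGroup (Fin 2) F))) = Fintype.card F + 1 ∨
     Nat.card (Subgroup.centralizer ({x} : Set (Matrix.SpecialLinearGroup (Fin 2) F))) = Fintype.card F - 1) ∧
    2 ∣ (Subgroup.centralizer ({x} : Set (Matrix.SpecialLinearGroup (Fin 2) F))).index := by
  obtain ⟨p, hp⟩ := CharP.exists F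
  haveI := hp
  haveI : Fact p.Prime := ⟨CharP.char_is_prime F p⟩
  have hidx := Cfsg.Agent.S2475.index_regular p x ht4
  have hq1 : 2 ∣ Fintype.card F - 1 := by omega
  rcases Cfsg.Agent.S2475.roots_cases p (tr2 x) ht4 with h0 | h0
  · rw [h0] at hidx
    refine ⟨Or.inl ((Cfsg.Agent.S2475.card_of_index _ 0 hidx).1 rfl), ?_⟩
    rw [hidx, zero_mul, zero_add]
    exact Dvd.dvd.mul_left hq1 _
  · rw [h0] at hidx
    refine ⟨Or.inr ((Cfsg.Agent.S2475.card_of_index _ 2 hidx).2 rfl), ?_⟩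
    rw [hidx]
    exact Nat.dvd_add (Dvd.intro _ rfl) (Dvd.dvd.mul_left hq1 _)

/-- If scalar `p`-elements are trivial, then some `p`-element lies in a unique Sylow `p`-subgroup. -/
theorem unique_of_scalar [Fintype F] (p : ℕ) [Fact p.Prime]
    (hs : ∀ x : (Matrix.SpecialLinearGroup (Fin 2) F), IsScalarMat (x : Matrix (Fin 2) (Fin 2) F) → (∃ k : ℕ, x ^ (p ^ k) = 1) → x = 1) :
    ∃ x : (Matrix.SpecialLinearGroup (Fin 2) F), (∃ k : ℕ, orderOf x = p ^ k) ∧
      ∃ P₀ : Sylow p (Matrix.SpecialLinearGroup (Fin 2) F), ∀ P : Sylow p (Matrix.SpecialLinearGroup (Fin 2) F), x ∈ (P : Subgroup (Matrix.SpecialLinearGroup (Fin 2) F)) → P = P₀ := by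
  obtain ⟨Q⟩ : Nonempty (Sylow p (Matrix.SpecialLinearGroup (Fin 2) F)) := inferInstance
  by_cases hQ : ∃ x ∈ (Q : Subgroup (Matrix.SpecialLinearGroup (Fin 2) F)), x ≠ 1
  · obtain ⟨x, hxQ, hx1⟩ := hQ
    have hxp : ∃ k : ℕ, x ^ (p ^ k) = 1 := pelt_of_mem Q hxQ
    have hxns : ¬ IsScalarMat (x : Matrix (Fin 2) (Fin 2) F) := fun h => hx1 (hs x h hxp)
    refine ⟨x, (pelt_iff x).mpr hxp, Q, ?_⟩
    have key : ∀ P : Sylow p (Matrix.SpecialLinearGroup (Fin 2) F), x ∈ (P : Subgroup (Matrix.SpecialLinearGroup (Fin 2) F)) →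
        (P : Subgroup (Matrix.SpecialLinearGroup (Fin 2) F)) ≤ Subgroup.centralizer ({x} : Set (Matrix.SpecialLinearGroup (Fin 2) F)) := by
      intro P hxP
      haveI : Nontrivial ↥(P : Subgroup (Matrix.SpecialLinearGroup (Fin 2) F)) :=
        ⟨⟨⟨x, hxP⟩, 1, fun h => hx1 (congrArg Subtype.val h)⟩⟩
      haveI := IsPGroup.center_nontrivial P.isPGroup'
      obtain ⟨z, hz1⟩ := exists_ne (1 : Subgroup.center ↥(P : Subgroup (Matrix.SpecialLinearGroup (Fin 2) F)))
      have hz'1 : ((z : ↥(P : Subgroup (Matrix.SpecialLinearGroup (Fin 2) F))) : (Matrix.SpecialLinearGroup (Fin 2) F)) ≠ 1 := by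
        intro h
        apply hz1
        apply Subtype.ext
        apply Subtype.ext
        exact h
      have hz'ns : ¬ IsScalarMat ((((z : ↥(P : Subgroup (Matrix.SpecialLinearGroup (Fin 2) F))) : (Matrix.SpecialLinearGroup (Fin 2) F))) : Matrix (Fin 2) (Fin 2) F) :=
        fun h => hz'1 (hs _ h (pelt_of_mem P z.1.2))
      have hPz : ∀ y ∈ (P : Subgroup (Matrix.SpecialLinearGroup (Fin 2) F)),
          y ∈ Subgroup.centralizer ({((z : ↥(P : Subgroup (Matrix.SpecialLinearGroup (Fin 2) F))) : (Matrix.SpecialLinearGroup (Fin 2) F))} : Set (Matrix.SpecialLinearGroup (Fin 2) F)) := by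
        intro y hy
        rw [mem_cent_iff]
        have := Subgroup.mem_center_iff.mp z.2 ⟨y, hy⟩
        exact (congrArg Subtype.val this).symm
      intro y hy
      rw [mem_cent_iff]
      exact torus_comm _ hz'ns x (hPz x hxP) y (hPz y hy)
    intro P hxP
    have hP := key P hxP
    have hQ' := key Q hxQ
    have hQN : (Q : Subgroup (Matrix.SpecialLinearGroup (Fin 2) F)) ≤ Subgroup.normalizer ((P : Subgroup (Matrix.SpecialLinearGroup (Fin 2) F)) : Set (Matrix.SpecialLinearGroup (Fin 2) F)) := by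
      intro t ht
      rw [Subgroup.mem_normalizer_iff]
      intro y
      constructor
      · intro hy
        have h1 : t * y * t⁻¹ = y := by
          rw [torus_comm x hxns t (hQ' ht) y (hP hy)]
          group
        rw [h1]
        exact hy
      · intro hy
        have h1 := torus_comm x hxns t (hQ' ht) _ (hP hy)
        have h2 : t * (t * y * t⁻¹) = t * y := by
          rw [h1]
          group
        rw [← mul_left_cancel h2]
        exact hy
    have h3 := Q.isPGroup'.inf_normalizer_sylow P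
    have hQP : (Q : Subgroup (Matrix.SpecialLinearGroup (Fin 2) F)) ≤ (P : Subgroup (Matrix.SpecialLinearGroup (Fin 2) F)) :=
      inf_eq_left.mp (h3.symm.trans (inf_eq_left.mpr hQN))
    exact Sylow.ext (Q.is_maximal' P.isPGroup' hQP)
  · push Not at hQ
    refine ⟨1, ⟨0, by simp⟩, Q, ?_⟩
    intro P _
    have hQbot : (Q : Subgroup (Matrix.SpecialLinearGroup (Fin 2) F)) = ⊥ := by
      rw [Subgroup.eq_bot_iff_forall]
      exact hQ
    obtain ⟨g, hg⟩ := MulAction.exists_smul_eq (Matrix.SpecialLinearGroup (Fin 2) F) Q P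
    apply Sylow.ext
    rw [hQbot, Subgroup.eq_bot_iff_forall]
    intro y hy
    have hy' : y ∈ ((g • Q : Sylow p (Matrix.SpecialLinearGroup (Fin 2) F)) : Subgroup (Matrix.SpecialLinearGroup (Fin 2) F)) := by
      rw [hg]
      exact hy
    rw [mem_smul_iff, hQbot, Subgroup.mem_bot] at hy'
    calc y = g * (g⁻¹ * y * g) * g⁻¹ := by group
      _ = 1 := by rw [hy']; group

/-- A generator of a cyclic torus of `2`-power order lies in a unique Sylow `2`-subgroup. -/
theorem unique_two [Fintype F] (hodd : Fintype.card F % 2 = 1) (g : (Matrix.SpecialLinearGroup (Fin 2) F)) (k : ℕ) (hk : 2 ≤ k)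
    (hg : orderOf g = 2 ^ k)
    (hm : 2 ^ k = Fintype.card F + 1 ∨ 2 ^ k = Fintype.card F - 1) :
    ∃ P₀ : Sylow 2 (Matrix.SpecialLinearGroup (Fin 2) F), ∀ P : Sylow 2 (Matrix.SpecialLinearGroup (Fin 2) F), g ∈ (P : Subgroup (Matrix.SpecialLinearGroup (Fin 2) F)) → P = P₀ := by
  obtain ⟨hgs, ht4⟩ := regular_of_order hodd g k hk hg
  obtain ⟨hT, -⟩ := card_cent hodd g ht4
  have hgT : orderOf g ∣ Nat.card (Subgroup.centralizer ({g} : Set (Matrix.SpecialLinearGroup (Fin 2) F))) :=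
    orderOf_dvd_of_pow_eq_one (Cfsg.Agent.S2475.pow_card_centralizer g)
  have hq : 2 ≤ Fintype.card F := Fintype.one_lt_card
  have h4 : 4 ≤ 2 ^ k := by
    calc 4 = 2 ^ 2 := by norm_num
      _ ≤ 2 ^ k := Nat.pow_le_pow_right (by norm_num) hk
  have hTk : Nat.card (Subgroup.centralizer ({g} : Set (Matrix.SpecialLinearGroup (Fin 2) F))) = 2 ^ k := by
    rw [hg] at hgT
    rcases hm with hm | hm
    · rcases hT with h | h
      · rw [h, hm]
      · exfalso
        rw [h, hm] at hgT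
        have := Nat.le_of_dvd (by omega) hgT
        omega
    · rcases hT with h | h
      · exfalso
        rw [h, hm] at hgT
        have h5 : Fintype.card F - 1 ∣ 2 := by
          have e : Fintype.card F + 1 = (Fintype.card F - 1) + 2 := by omega
          rw [e] at hgT
          exact (Nat.dvd_add_right (dvd_refl _)).mp hgT
        have := Nat.le_of_dvd (by norm_num) h5
        omega
      · rw [h, hm]
  have hN := (normalizer_facts hodd g hgs ht4).1
  rw [hTk] at hN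
  have hG2 : (Nat.card (Matrix.SpecialLinearGroup (Fin 2) F)).factorization 2 = k + 1 := by
    rw [Cfsg.Agent.S2475.card_sl]
    obtain ⟨a, ha⟩ : ∃ a, k = a + 2 := ⟨k - 2, by omega⟩
    have hpa : 2 ^ k = 4 * 2 ^ a := by rw [ha]; ring
    have hpa1 : 2 ^ (a + 1) = 2 * 2 ^ a := by ring
    have hpa0 : 1 ≤ 2 ^ a := Nat.one_le_two_pow
    rcases hm with hm | hm
    · have h6 : Fintype.card F - 1 = 2 * (2 ^ (a + 1) - 1) := by omega
      have e : (Fintype.card F + 1) * (Fintype.card F * (Fintype.card F - 1)) =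
          2 ^ (k + 1) * (Fintype.card F * (2 ^ (a + 1) - 1)) := by
        rw [h6, ← hm]
        ring
      rw [e]
      apply fact_two
      have h7 : (2 ^ (a + 1) - 1) % 2 = 1 := by omega
      exact Nat.odd_iff.mp (Nat.odd_mul.mpr ⟨Nat.odd_iff.mpr hodd, Nat.odd_iff.mpr h7⟩)
    · have h6 : Fintype.card F + 1 = 2 * (2 ^ (a + 1) + 1) := by omega
      have e : (Fintype.card F + 1) * (Fintype.card F * (Fintype.card F - 1)) =
          2 ^ (k + 1) * (Fintype.card F * (2 ^ (a + 1) + 1)) := by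
        rw [h6, ← hm]
        ring
      rw [e]
      apply fact_two
      have h7 : (2 ^ (a + 1) + 1) % 2 = 1 := by omega
      exact Nat.odd_iff.mp (Nat.odd_mul.mpr ⟨Nat.odd_iff.mpr hodd, Nat.odd_iff.mpr h7⟩)
  have hP : ∀ P : Sylow 2 (Matrix.SpecialLinearGroup (Fin 2) F), g ∈ (P : Subgroup (Matrix.SpecialLinearGroup (Fin 2) F)) → (P : Subgroup (Matrix.SpecialLinearGroup (Fin 2) F)) =
      Subgroup.normalizer ((Subgroup.centralizer ({g} : Set (Matrix.SpecialLinearGroup (Fin 2) F))) : Set (Matrix.SpecialLinearGroup (Fin 2) F)) := by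
    intro P hgP
    have hPc : Nat.card (P : Subgroup (Matrix.SpecialLinearGroup (Fin 2) F)) = 2 ^ (k + 1) := by
      rw [P.card_eq_multiplicity, hG2]
    have hTz : Subgroup.centralizer ({g} : Set (Matrix.SpecialLinearGroup (Fin 2) F)) = Subgroup.zpowers g := by
      symm
      apply Subgroup.eq_of_le_of_card_ge
      · rw [Subgroup.zpowers_le]
        exact self_mem_cent g
      · rw [Nat.card_zpowers, hg, hTk]
    have hTP : Subgroup.centralizer ({g} : Set (Matrix.SpecialLinearGroup (Fin 2) F)) ≤ (P : Subgroup (Matrix.SpecialLinearGroup (Fin 2) F)) := by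
      rw [hTz, Subgroup.zpowers_le]
      exact hgP
    have hidx : ((Subgroup.centralizer ({g} : Set (Matrix.SpecialLinearGroup (Fin 2) F))).subgroupOf (P : Subgroup (Matrix.SpecialLinearGroup (Fin 2) F))).index = 2 := by
      have h1 := Subgroup.card_mul_index
        ((Subgroup.centralizer ({g} : Set (Matrix.SpecialLinearGroup (Fin 2) F))).subgroupOf (P : Subgroup (Matrix.SpecialLinearGroup (Fin 2) F)))
      rw [Nat.card_congr (Subgroup.subgroupOfEquivOfLe hTP).toEquiv, hTk, hPc, pow_succ] at h1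
      exact Nat.eq_of_mul_eq_mul_left (by positivity) h1
    have hnorm := Subgroup.normal_of_index_eq_two hidx
    have hle := (Subgroup.normal_subgroupOf_iff_le_normalizer hTP).mp hnorm
    apply Subgroup.eq_of_le_of_card_ge hle
    rw [hN, hPc, pow_succ, mul_comm]
  by_cases hex : ∃ P : Sylow 2 (Matrix.SpecialLinearGroup (Fin 2) F), g ∈ (P : Subgroup (Matrix.SpecialLinearGroup (Fin 2) F))
  · obtain ⟨P₀, h0⟩ := hex
    exact ⟨P₀, fun P hP' => Sylow.ext ((hP P hP').trans (hP P₀ h0).symm)⟩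
  · obtain ⟨P₀⟩ : Nonempty (Sylow 2 (Matrix.SpecialLinearGroup (Fin 2) F)) := inferInstance
    exact ⟨P₀, fun P hP' => absurd ⟨P, hP'⟩ hex⟩

/-- If `q ± 1` are not powers of `2`, an element of `2`-power order at least `4` lies in a second
Sylow `2`-subgroup. -/
theorem two_sylow_big [Fintype F] (hodd : Fintype.card F % 2 = 1)
    (h1 : ¬ ∃ k : ℕ, Fintype.card F + 1 = 2 ^ k) (h2 : ¬ ∃ k : ℕ, Fintype.card F = 2 ^ k + 1)
    (x : (Matrix.SpecialLinearGroup (Fin 2) F)) (j : ℕ) (hj : 2 ≤ j) (hx : orderOf x = 2 ^ j) (P : Sylow 2 (Matrix.SpecialLinearGroup (Fin 2) F))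
    (hxP : x ∈ (P : Subgroup (Matrix.SpecialLinearGroup (Fin 2) F))) :
    ∃ P' : Sylow 2 (Matrix.SpecialLinearGroup (Fin 2) F), P' ≠ P ∧ x ∈ (P' : Subgroup (Matrix.SpecialLinearGroup (Fin 2) F)) := by
  have h2F : (2 : F) ≠ 0 := two_ne_zero_of_odd hodd
  obtain ⟨hxs, ht4⟩ := regular_of_order hodd x j hj hx
  obtain ⟨hT, hTi⟩ := card_cent hodd x ht4
  have hq : 2 ≤ Fintype.card F := Fintype.one_lt_card
  have hTn : ¬ ∃ k : ℕ, Nat.card (Subgroup.centralizer ({x} : Set (Matrix.SpecialLinearGroup (Fin 2) F))) = 2 ^ k := by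
    rintro ⟨k, hk⟩
    rcases hT with h | h
    · exact h1 ⟨k, by rw [← h, hk]⟩
    · exact h2 ⟨k, by rw [h] at hk; omega⟩
  obtain ⟨r, hr, hrd, hrodd⟩ := (Nat.eq_two_pow_or_exists_odd_prime_and_dvd _).resolve_left hTn
  haveI : Fact r.Prime := ⟨hr⟩
  obtain ⟨t, ht⟩ := exists_prime_orderOf_dvd_card' r hrd
  have htT : (t : (Matrix.SpecialLinearGroup (Fin 2) F)) ∈ Subgroup.centralizer ({x} : Set (Matrix.SpecialLinearGroup (Fin 2) F)) := t.2
  have hto : orderOf (t : (Matrix.SpecialLinearGroup (Fin 2) F)) = r := by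
    rw [Subgroup.orderOf_coe]
    exact ht
  have hPT : ¬ (P : Subgroup (Matrix.SpecialLinearGroup (Fin 2) F)) ≤ Subgroup.centralizer ({x} : Set (Matrix.SpecialLinearGroup (Fin 2) F)) := by
    intro hle
    have h3 := Subgroup.index_dvd_of_le hle
    exact P.not_dvd_index (hTi.trans h3)
  haveI : Group.IsNilpotent ↥(P : Subgroup (Matrix.SpecialLinearGroup (Fin 2) F)) := P.isPGroup'.isNilpotent
  have hlt : (Subgroup.centralizer ({x} : Set (Matrix.SpecialLinearGroup (Fin 2) F))).subgroupOf (P : Subgroup (Matrix.SpecialLinearGroup (Fin 2) F)) < ⊤ := by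
    rw [lt_top_iff_ne_top, Ne, Subgroup.subgroupOf_eq_top]
    exact hPT
  have hnc := Group.normalizerCondition_of_isNilpotent (G := ↥(P : Subgroup (Matrix.SpecialLinearGroup (Fin 2) F))) _ hlt
  obtain ⟨y, hyN, hyT⟩ := SetLike.exists_of_lt hnc
  have hyT' : (y : (Matrix.SpecialLinearGroup (Fin 2) F)) ∉ Subgroup.centralizer ({x} : Set (Matrix.SpecialLinearGroup (Fin 2) F)) := fun h =>
    hyT (Subgroup.mem_subgroupOf.mpr h)
  have hconj : (y : (Matrix.SpecialLinearGroup (Fin 2) F)) * x * (y : (Matrix.SpecialLinearGroup (Fin 2) F))⁻¹ ∈ Subgroup.centralizer ({x} : Set (Matrix.SpecialLinearGroup (Fin 2) F)) := by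
    have h3 := (Subgroup.mem_normalizer_iff.mp hyN ⟨x, hxP⟩).mp
      (Subgroup.mem_subgroupOf.mpr (self_mem_cent x))
    exact Subgroup.mem_subgroupOf.mp h3
  have hinv : (y : (Matrix.SpecialLinearGroup (Fin 2) F)) * x * (y : (Matrix.SpecialLinearGroup (Fin 2) F))⁻¹ = x⁻¹ := by
    rcases trace_eq_in_torus h2F x _ hxs ht4 hconj (tr2_conj _ x) with h | h
    · exfalso
      apply hyT'
      rw [mem_cent_iff]
      calc x * (y : (Matrix.SpecialLinearGroup (Fin 2) F)) = ((y : (Matrix.SpecialLinearGroup (Fin 2) F)) * x * (y : (Matrix.SpecialLinearGroup (Fin 2) F))⁻¹) * (y : (Matrix.SpecialLinearGroup (Fin 2) F)) := by rw [h]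
        _ = (y : (Matrix.SpecialLinearGroup (Fin 2) F)) * x := by group
    · exact h
  have htinv : (y : (Matrix.SpecialLinearGroup (Fin 2) F)) * (t : (Matrix.SpecialLinearGroup (Fin 2) F)) * (y : (Matrix.SpecialLinearGroup (Fin 2) F))⁻¹ = (t : (Matrix.SpecialLinearGroup (Fin 2) F))⁻¹ := inverts x y t hxs hinv htT
  refine ⟨(t : (Matrix.SpecialLinearGroup (Fin 2) F)) • P, ?_, ?_⟩
  · intro heq
    have h3 : (y : (Matrix.SpecialLinearGroup (Fin 2) F)) ∈ (((t : (Matrix.SpecialLinearGroup (Fin 2) F)) • P : Sylow 2 (Matrix.SpecialLinearGroup (Fin 2) F)) : Subgroup (Matrix.SpecialLinearGroup (Fin 2) F)) := by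
      rw [heq]
      exact y.2
    rw [mem_smul_iff] at h3
    have h4 : (t : (Matrix.SpecialLinearGroup (Fin 2) F))⁻¹ * (y : (Matrix.SpecialLinearGroup (Fin 2) F)) * (t : (Matrix.SpecialLinearGroup (Fin 2) F)) * (y : (Matrix.SpecialLinearGroup (Fin 2) F))⁻¹ ∈ (P : Subgroup (Matrix.SpecialLinearGroup (Fin 2) F)) :=
      mul_mem h3 (inv_mem y.2)
    have h5 : (t : (Matrix.SpecialLinearGroup (Fin 2) F))⁻¹ * (y : (Matrix.SpecialLinearGroup (Fin 2) F)) * (t : (Matrix.SpecialLinearGroup (Fin 2) F)) * (y : (Matrix.SpecialLinearGroup (Fin 2) F))⁻¹ = ((t : (Matrix.SpecialLinearGroup (Fin 2) F)) ^ 2)⁻¹ := by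
      calc (t : (Matrix.SpecialLinearGroup (Fin 2) F))⁻¹ * (y : (Matrix.SpecialLinearGroup (Fin 2) F)) * (t : (Matrix.SpecialLinearGroup (Fin 2) F)) * (y : (Matrix.SpecialLinearGroup (Fin 2) F))⁻¹
          = (t : (Matrix.SpecialLinearGroup (Fin 2) F))⁻¹ * ((y : (Matrix.SpecialLinearGroup (Fin 2) F)) * (t : (Matrix.SpecialLinearGroup (Fin 2) F)) * (y : (Matrix.SpecialLinearGroup (Fin 2) F))⁻¹) := by group
        _ = (t : (Matrix.SpecialLinearGroup (Fin 2) F))⁻¹ * (t : (Matrix.SpecialLinearGroup (Fin 2) F))⁻¹ := by rw [htinv]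
        _ = ((t : (Matrix.SpecialLinearGroup (Fin 2) F)) ^ 2)⁻¹ := by group
    rw [h5] at h4
    have h6 : (t : (Matrix.SpecialLinearGroup (Fin 2) F)) ^ 2 ∈ (P : Subgroup (Matrix.SpecialLinearGroup (Fin 2) F)) := by simpa using inv_mem h4
    obtain ⟨n, hn⟩ := pelt_of_mem P h6
    have h7 : r ∣ 2 ^ (n + 1) := by
      rw [← hto]
      apply orderOf_dvd_of_pow_eq_one
      rw [pow_succ', pow_mul]
      exact hn
    have h8 := (Nat.prime_dvd_prime_iff_eq hr Nat.prime_two).mp (hr.dvd_of_dvd_pow h7)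
    rw [h8] at hrodd
    exact absurd hrodd (by decide)
  · rw [mem_smul_iff]
    have h3 := (mem_cent_iff x t).mp htT
    have h4 : (t : (Matrix.SpecialLinearGroup (Fin 2) F))⁻¹ * x * (t : (Matrix.SpecialLinearGroup (Fin 2) F)) = x := by
      rw [mul_assoc, h3]
      group
    rw [h4]
    exact hxP

theorem order_w (h2F : (2 : F) ≠ 0) : orderOf (Cfsg.Agent.S2503.g0 (0 : F)) = 2 ^ 2 := by
  have hw2 : Cfsg.Agent.S2503.g0 (0 : F) * Cfsg.Agent.S2503.g0 (0 : F) = negOne :=
    sq_eq_negOne_of_trace_zero _ (tr2_comp 0)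
  apply orderOf_eq_prime_pow
  · rw [pow_one, pow_two, hw2]
    exact negOne_ne_one h2F
  · have e : 2 ^ (1 + 1) = 2 + 2 := by norm_num
    rw [e, pow_add, pow_two, hw2, negOne_mul_self]

theorem two_of [Fintype F] (hodd : Fintype.card F % 2 = 1)
    (h1 : ¬ ∃ k : ℕ, Fintype.card F + 1 = 2 ^ k) (h2 : ¬ ∃ k : ℕ, Fintype.card F = 2 ^ k + 1) :
    ∀ x : (Matrix.SpecialLinearGroup (Fin 2) F), (∃ k : ℕ, orderOf x = 2 ^ k) →
      ∃ P₁ P₂ : Sylow 2 (Matrix.SpecialLinearGroup (Fin 2) F), P₁ ≠ P₂ ∧ x ∈ (P₁ : Subgroup (Matrix.SpecialLinearGroup (Fin 2) F)) ∧ x ∈ (P₂ : Subgroup (Matrix.SpecialLinearGroup (Fin 2) F)) := by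
  have h2F : (2 : F) ≠ 0 := two_ne_zero_of_odd hodd
  have hwo := order_w h2F
  intro x hx
  obtain ⟨k, hk⟩ := hx
  by_cases hk2 : 2 ≤ k
  · obtain ⟨P, hP⟩ := exists_sylow_mem x ⟨k, hk⟩
    obtain ⟨P', hne, hP'⟩ := two_sylow_big hodd h1 h2 x k hk2 hk P hP
    exact ⟨P', P, hne, hP', hP⟩
  · have hx2 : x * x = 1 := by
      have hd : orderOf x ∣ 2 := by
        rw [hk]
        interval_cases k <;> norm_num
      rw [← pow_two]
      exact orderOf_dvd_iff_pow_eq_one.mp hd
    have hxc : ∀ g : (Matrix.SpecialLinearGroup (Fin 2) F), g * x = x * g := by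
      intro g
      rcases (sq_iff h2F x).mp hx2 with h | h
      · rw [h, mul_one, one_mul]
      · rw [h]
        exact (negOne_central g).symm
    obtain ⟨P, hP⟩ := exists_sylow_mem (Cfsg.Agent.S2503.g0 (0 : F)) ⟨2, hwo⟩
    obtain ⟨P', hne, -⟩ := two_sylow_big hodd h1 h2 _ 2 le_rfl hwo P hP
    exact ⟨P', P, hne, central_mem x hxc ⟨k, hk⟩ P', central_mem x hxc ⟨k, hk⟩ P⟩

/-- Unless `p = 2` and `q`, `q ± 1` are not powers of two, some `p`-element of `SL₂(q)` lies in a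
unique Sylow `p`-subgroup. -/
theorem sl_unique [Fintype F] (p : ℕ) [Fact p.Prime]
    (h : ¬ (p = 2 ∧ (¬ ∃ k : ℕ, Fintype.card F + 1 = 2 ^ k) ∧ (¬ ∃ k : ℕ, Fintype.card F = 2 ^ k) ∧
        ¬ ∃ k : ℕ, Fintype.card F = 2 ^ k + 1)) :
    ∃ x : (Matrix.SpecialLinearGroup (Fin 2) F), (∃ k : ℕ, orderOf x = p ^ k) ∧
      ∃ P₀ : Sylow p (Matrix.SpecialLinearGroup (Fin 2) F), ∀ P : Sylow p (Matrix.SpecialLinearGroup (Fin 2) F), x ∈ (P : Subgroup (Matrix.SpecialLinearGroup (Fin 2) F)) → P = P₀ := by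
  have hq : 2 ≤ Fintype.card F := Fintype.one_lt_card
  by_cases hp2 : p = 2
  · subst hp2
    by_cases hodd : Fintype.card F % 2 = 1
    · have h2F : (2 : F) ≠ 0 := two_ne_zero_of_odd hodd
      have hwo := order_w h2F
      have hB : ¬ ∃ k : ℕ, Fintype.card F = 2 ^ k := by
        rintro ⟨k, hk⟩
        rcases Nat.eq_zero_or_pos k with h0 | h0
        · rw [h0] at hk
          omega
        · obtain ⟨m, rfl⟩ : ∃ m, k = m + 1 := ⟨k - 1, by omega⟩
          rw [pow_succ] at hk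
          omega
      have h' : (∃ k : ℕ, Fintype.card F + 1 = 2 ^ k) ∨ (∃ k : ℕ, Fintype.card F = 2 ^ k + 1) := by
        by_contra hcon
        exact h ⟨rfl, fun h1 => hcon (Or.inl h1), hB, fun h3 => hcon (Or.inr h3)⟩
      obtain ⟨g, k, hk, hg, hm⟩ : ∃ (g : (Matrix.SpecialLinearGroup (Fin 2) F)) (k : ℕ), 2 ≤ k ∧ orderOf g = 2 ^ k ∧
          (2 ^ k = Fintype.card F + 1 ∨ 2 ^ k = Fintype.card F - 1) := by
        rcases h' with ⟨k, hk⟩ | ⟨k, hk⟩
        · have hk2 : 2 ≤ k := by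
            by_contra hlt
            have hk1 : k = 0 ∨ k = 1 := by omega
            rcases hk1 with rfl | rfl <;> omega
          by_cases h4 : 4 ≤ Fintype.card F
          · obtain ⟨p0, hp0⟩ := CharP.exists F
            haveI := hp0
            haveI : Fact p0.Prime := ⟨CharP.char_is_prime F p0⟩
            obtain ⟨g, hg⟩ := Cfsg.Agent.S2475.exists_order_add p0 h4
            exact ⟨g, k, hk2, by rw [hg, hk], Or.inl hk.symm⟩
          · have hq3 : Fintype.card F = 3 := by omega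
            refine ⟨Cfsg.Agent.S2503.g0 (0 : F), 2, le_rfl, hwo, Or.inl (by rw [hq3]; norm_num)⟩
        · by_cases hq3 : Fintype.card F = 3
          · exact ⟨Cfsg.Agent.S2503.g0 (0 : F), 2, le_rfl, hwo, Or.inl (by rw [hq3]; norm_num)⟩
          · have hk2 : 2 ≤ k := by
              by_contra hlt
              have hk1 : k = 0 ∨ k = 1 := by omega
              rcases hk1 with rfl | rfl <;> omega
            obtain ⟨g, hg⟩ := Cfsg.Agent.S2475.exists_order_sub (F := F)
            exact ⟨g, k, hk2, by rw [hg, hk]; simp, Or.inr (by rw [hk]; simp)⟩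
      obtain ⟨P₀, hP₀⟩ := unique_two hodd g k hk hg hm
      exact ⟨g, ⟨k, hg⟩, P₀, hP₀⟩
    · have h2F : (2 : F) = 0 := by
        by_contra h2
        have hch : ringChar F ≠ 2 := by
          intro hch
          have : CharP F 2 := ringChar.of_eq hch
          exact h2 CharTwo.two_eq_zero
        have := FiniteField.odd_card_of_char_ne_two hch
        omega
      exact unique_of_scalar 2 (fun x hs _ => Cfsg.Agent.S2475.scalar_eq_one_of_two h2F x hs)
  · apply unique_of_scalar p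
    rintro x hs ⟨k, hk⟩
    have h1 := Cfsg.Agent.S2475.scalar_sq x hs
    have hd2 : orderOf x ∣ 2 := orderOf_dvd_of_pow_eq_one (by rw [pow_two]; exact h1)
    have hdp : orderOf x ∣ p ^ k := orderOf_dvd_of_pow_eq_one hk
    have hcop : Nat.Coprime 2 (p ^ k) :=
      Nat.Coprime.pow_right k ((Nat.coprime_primes Nat.prime_two Fact.out).mpr (Ne.symm hp2))
    have h3 := Nat.dvd_gcd hd2 hdp
    rw [hcop] at h3
    exact orderOf_eq_one_iff.mp (Nat.dvd_one.mp h3)

/-- If `q`, `q ± 1` are not powers of two, every `2`-element of `SL₂(q)` lies in two distinct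
Sylow `2`-subgroups. -/
theorem sl_two [Fintype F] (h1 : ¬ ∃ k : ℕ, Fintype.card F + 1 = 2 ^ k)
    (hB : ¬ ∃ k : ℕ, Fintype.card F = 2 ^ k) (h2 : ¬ ∃ k : ℕ, Fintype.card F = 2 ^ k + 1) :
    ∀ x : (Matrix.SpecialLinearGroup (Fin 2) F), (∃ k : ℕ, orderOf x = 2 ^ k) →
      ∃ P₁ P₂ : Sylow 2 (Matrix.SpecialLinearGroup (Fin 2) F), P₁ ≠ P₂ ∧ x ∈ (P₁ : Subgroup (Matrix.SpecialLinearGroup (Fin 2) F)) ∧ x ∈ (P₂ : Subgroup (Matrix.SpecialLinearGroup (Fin 2) F)) := by
  have hodd : Fintype.card F % 2 = 1 := by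
    by_contra hne
    obtain ⟨p0, hp0⟩ := CharP.exists F
    haveI := hp0
    obtain ⟨n, hpp, hn⟩ := FiniteField.card F p0
    have h2q : 2 ∣ Fintype.card F := by omega
    rw [hn] at h2q
    have h3 := (Nat.prime_dvd_prime_iff_eq Nat.prime_two hpp).mp (Nat.prime_two.dvd_of_dvd_pow h2q)
    exact hB ⟨n, by rw [hn, ← h3]⟩
  exact two_of hodd h1 h2

end Cfsg.Agent.Lib.Helper14.Redund
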