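import Mathlib
import Cfsg.Agent.Lib.Helper13.SL2Irr5
import Cfsg.Agent.Lib.Helper14.Torus
import Cfsg.Agent.S2429

set_option autoImplicit false
set_option linter.unusedSectionVars false

namespace Cfsg.Agent.Lib.Helper14.SL2Cusp

open scoped ComplexConjugate
open Cfsg.Agent.Lib.Helper1 Cfsg.Agent.Lib.Helper13.GL2Ind Cfsg.Agent.Lib.Helper13.GL2Irr
  Cfsg.Agent.Lib.Helper13.SL2Ind Cfsg.Agent.Lib.Helper13.SL2Irr Cfsg.Agent.Lib.Helper13.SL2Irr2
  Cfsg.Agent.Lib.Helper13.SL2Irr3 Cfsg.Agent.Lib.Helper13.SL2Irr4 Cfsg.Agent.Lib.Helper13.SL2Irr5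
open Cfsg.Agent.Lib.Helper14.GL2Conj Cfsg.Agent.Lib.Helper14.SL2Odd Cfsg.Agent.Lib.Helper14.SL2Odd2
  Cfsg.Agent.Lib.Helper14.ClassSize Cfsg.Agent.Lib.Helper14.Torus Cfsg.Agent.Lib.Helper14.PSL2

universe u

section torus

variable {F : Type u} [Field F] [Fintype F] [DecidableEq F]

theorem noEigen_of_no_root (g : Matrix.SpecialLinearGroup (Fin 2) F)
    (h : ∀ c : F, c ^ 2 - tr2 g * c + 1 ≠ 0) : NoEigen g := by
  intro c v hv hgv
  apply h c
  have hdet : (g.1 - c • (1 : Matrix (Fin 2) (Fin 2) F)).det = 0 := by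
    apply Matrix.exists_mulVec_eq_zero_iff.mp
    refine ⟨v, hv, ?_⟩
    rw [Matrix.sub_mulVec, Matrix.smul_mulVec, Matrix.one_mulVec, hgv, sub_self]
  have hd := det_eq g
  rw [Matrix.det_fin_two] at hdet
  simp only [Matrix.sub_apply, Matrix.smul_apply, Matrix.one_apply_eq, smul_eq_mul, mul_one,
    Matrix.one_apply_ne (show (0 : Fin 2) ≠ 1 by decide),
    Matrix.one_apply_ne (show (1 : Fin 2) ≠ 0 by decide), mul_zero, sub_zero] at hdet
  simp only [tr2]
  linear_combination hdet - hd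

theorem noEigen_iff (g : Matrix.SpecialLinearGroup (Fin 2) F) :
    NoEigen g ↔ ∀ c : F, c ^ 2 - tr2 g * c + 1 ≠ 0 :=
  ⟨fun h c => no_eigen_char g h c, noEigen_of_no_root g⟩

theorem noEigen_conj (g x : Matrix.SpecialLinearGroup (Fin 2) F) :
    NoEigen (x * g * x⁻¹) ↔ NoEigen g := by
  rw [noEigen_iff, noEigen_iff, tr2_conj]

theorem noEigen_conj' (g x : Matrix.SpecialLinearGroup (Fin 2) F) :
    NoEigen (x⁻¹ * g * x) ↔ NoEigen g := by
  have := noEigen_conj g x⁻¹
  rwa [inv_inv] at this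

theorem noEigen_inv (g : Matrix.SpecialLinearGroup (Fin 2) F) : NoEigen g⁻¹ ↔ NoEigen g := by
  rw [noEigen_iff, noEigen_iff, tr2_inv]

theorem card_G : Nat.card (Matrix.SpecialLinearGroup (Fin 2) F) =
    (Fintype.card F ^ 2 - 1) * Fintype.card F := Cfsg.Agent.S2301.card_SL2

/-- a non-scalar element whose centralizer has order divisible by `q + 1` is non-split -/
theorem noEigen_of_dvd (hodd : Fintype.card F % 2 = 1) (g : Matrix.SpecialLinearGroup (Fin 2) F)
    (hg : ¬ IsScalarMat (g : Matrix (Fin 2) (Fin 2) F))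
    (hdvd : Fintype.card F + 1 ∣
      Nat.card (Subgroup.centralizer ({g} : Set (Matrix.SpecialLinearGroup (Fin 2) F)))) :
    NoEigen g ∧
      Nat.card (Subgroup.centralizer ({g} : Set (Matrix.SpecialLinearGroup (Fin 2) F))) =
        Fintype.card F + 1 := by
  have hq : 3 ≤ Fintype.card F := by
    have : 1 < Fintype.card F := Fintype.one_lt_card
    omega
  have h1 := Subgroup.card_mul_index
    (Subgroup.centralizer ({g} : Set (Matrix.SpecialLinearGroup (Fin 2) F)))
  rw [card_G, index_centralizer_eq_ncard] at h1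
  obtain ⟨m, hm⟩ := hdvd
  by_cases ht : tr2 g ^ 2 = 4
  · exfalso
    have h2 := class_ncard_unip hodd g hg ht
    obtain ⟨q, hq'⟩ : ∃ q, Fintype.card F = q := ⟨_, rfl⟩
    rw [hq'] at hq h1 hm h2
    obtain ⟨cc, hcc⟩ : ∃ cc, Nat.card (Subgroup.centralizer
      ({g} : Set (Matrix.SpecialLinearGroup (Fin 2) F))) = cc := ⟨_, rfl⟩
    obtain ⟨n, hn⟩ : ∃ n, Set.ncard {h : Matrix.SpecialLinearGroup (Fin 2) F | IsConj g h} = n :=
      ⟨_, rfl⟩
    rw [hcc, hn] at h1
    rw [hcc] at hm
    rw [hn] at h2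
    have hpos : 0 < q ^ 2 - 1 := by
      have : 3 ^ 2 ≤ q ^ 2 := Nat.pow_le_pow_left hq 2
      omega
    have h3 : cc * (q ^ 2 - 1) = 2 * q * (q ^ 2 - 1) := by
      rw [← h2]
      calc cc * (2 * n) = 2 * (cc * n) := by ring
        _ = 2 * ((2 * n) * q) := by rw [h1, h2]
        _ = 2 * q * (2 * n) := by ring
    have h4 : cc = 2 * q := Nat.eq_of_mul_eq_mul_right hpos h3
    rw [hm] at h4
    rcases m with _ | _ | m
    · omega
    · omega
    · have : (q + 1) * (m + 1 + 1) = (q + 1) * m + 2 * q + 2 := by ring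
      omega
  · have h2 := class_ncard_regular hodd g ht
    obtain ⟨N, hN⟩ : ∃ N, Nat.card {p : F // p * (tr2 g - p) = 1} = N := ⟨_, rfl⟩
    rw [hN] at h2
    obtain ⟨q, hq'⟩ : ∃ q, Fintype.card F = q := ⟨_, rfl⟩
    rw [hq'] at hq h1 hm h2 ⊢
    obtain ⟨cc, hcc⟩ : ∃ cc, Nat.card (Subgroup.centralizer
      ({g} : Set (Matrix.SpecialLinearGroup (Fin 2) F))) = cc := ⟨_, rfl⟩
    rw [hcc, h2] at h1
    rw [hcc] at hm ⊢
    obtain ⟨r, rfl⟩ : ∃ r, q = r + 1 := ⟨q - 1, by omega⟩
    simp only [Nat.add_sub_cancel] at h1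
    have hqq : (r + 1) ^ 2 - 1 = (r + 1 + 1) * r := by
      have : (r + 1) ^ 2 = (r + 1 + 1) * r + 1 := by ring
      omega
    rw [hqq, hm] at h1
    have h3 : (r + 1 + 1) * (r + 1) * (m * (N + r)) = (r + 1 + 1) * (r + 1) * r := by
      calc (r + 1 + 1) * (r + 1) * (m * (N + r))
          = (r + 1 + 1) * m * (N * (r + 1) + (r + 1) * r) := by ring
        _ = (r + 1 + 1) * r * (r + 1) := h1
        _ = (r + 1 + 1) * (r + 1) * r := by ring
    have h4 : m * (N + r) = r := Nat.eq_of_mul_eq_mul_left (by positivity) h3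
    have hr : 2 ≤ r := by omega
    have hm1 : m = 1 := by
      rcases m with _ | _ | m
      · simp at h4; omega
      · rfl
      · exfalso
        have : (m + 1 + 1) * (N + r) = m * (N + r) + 2 * N + 2 * r := by ring
        omega
    subst hm1
    have hN0 : N = 0 := by omega
    refine ⟨?_, by omega⟩
    apply noEigen_of_no_root
    intro c hc
    rw [hN0] at hN
    have hfin : Finite {p : F // p * (tr2 g - p) = 1} := inferInstance
    rcases Nat.card_eq_zero.mp hN with h5 | h5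
    · exact h5.elim ⟨c, by linear_combination -hc⟩
    · exact h5.false


theorem card_cent_noEigen (hodd : Fintype.card F % 2 = 1) (g : Matrix.SpecialLinearGroup (Fin 2) F)
    (hg : NoEigen g) :
    Nat.card (Subgroup.centralizer ({g} : Set (Matrix.SpecialLinearGroup (Fin 2) F))) =
      Fintype.card F + 1 := by
  have hidx : (Subgroup.centralizer
      ({g} : Set (Matrix.SpecialLinearGroup (Fin 2) F))).index =
      0 * Fintype.card F + Fintype.card F * (Fintype.card F - 1) := by
    rw [index_centralizer_eq_ncard, class_ncard_regular hodd _ (no_eigen_tr hodd g hg),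
      Cfsg.Agent.S2508.roots_none _ (Cfsg.Agent.S2429.nonsplit_of_no_eigen g hg)]
  exact (Cfsg.Agent.S2475.card_of_index _ 0 hidx).1 rfl

theorem scalar_sq (c : Matrix.SpecialLinearGroup (Fin 2) F)
    (hc : IsScalarMat (c : Matrix (Fin 2) (Fin 2) F)) : c * c = 1 := by
  rcases scalar_cases c hc with h | h
  · rw [h, mul_one]
  · rw [h, negOne_mul_self]

/-- a cyclic subgroup of order `q + 1` is the centralizer of a non-split element -/
theorem cyclic_torus (hodd : Fintype.card F % 2 = 1)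
    (C : Subgroup (Matrix.SpecialLinearGroup (Fin 2) F)) (hC : IsCyclic C)
    (hcard : Nat.card C = Fintype.card F + 1) :
    ∃ g₀ : Matrix.SpecialLinearGroup (Fin 2) F, NoEigen g₀ ∧
      Subgroup.centralizer ({g₀} : Set (Matrix.SpecialLinearGroup (Fin 2) F)) = C := by
  have hq : 3 ≤ Fintype.card F := by
    have : 1 < Fintype.card F := Fintype.one_lt_card
    omega
  obtain ⟨g, hg⟩ := IsCyclic.exists_generator (α := C)
  have hord : orderOf g = Fintype.card F + 1 := by
    rw [orderOf_eq_card_of_forall_mem_zpowers hg, hcard]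
  have hle : C ≤ Subgroup.centralizer ({g.1} : Set (Matrix.SpecialLinearGroup (Fin 2) F)) := by
    intro x hx
    rw [mem_cent_iff]
    obtain ⟨n, hn⟩ := Subgroup.mem_zpowers_iff.mp (hg ⟨x, hx⟩)
    have hx' : x = g.1 ^ n := by
      have := congrArg Subtype.val hn
      simpa using this.symm
    rw [hx']
    exact (Commute.self_zpow g.1 n).eq
  have hns : ¬ IsScalarMat (g.1 : Matrix (Fin 2) (Fin 2) F) := by
    intro hs
    have h1 : g * g = 1 := Subtype.ext (scalar_sq g.1 hs)
    have h2 : orderOf g ∣ 2 := orderOf_dvd_of_pow_eq_one (by rw [pow_two]; exact h1)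
    have h3 := Nat.le_of_dvd (by norm_num) h2
    omega
  have hdvd : Fintype.card F + 1 ∣ Nat.card (Subgroup.centralizer
      ({g.1} : Set (Matrix.SpecialLinearGroup (Fin 2) F))) := by
    rw [← hcard]
    exact Subgroup.card_dvd_of_le hle
  obtain ⟨h1, h2⟩ := noEigen_of_dvd hodd g.1 hns hdvd
  exact ⟨g.1, h1, (Subgroup.eq_of_le_of_card_ge hle (by rw [h2, hcard])).symm⟩

section T

variable (hodd : Fintype.card F % 2 = 1) (g₀ : Matrix.SpecialLinearGroup (Fin 2) F)
  (hg₀ : NoEigen g₀)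

include hodd hg₀

theorem T_noEigen (c : Matrix.SpecialLinearGroup (Fin 2) F)
    (hc : c ∈ Subgroup.centralizer ({g₀} : Set (Matrix.SpecialLinearGroup (Fin 2) F)))
    (hcs : ¬ IsScalarMat (c : Matrix (Fin 2) (Fin 2) F)) : NoEigen c := by
  have h1 := cent_eq_of_mem g₀ c (no_eigen_not_scalar g₀ hg₀) hc hcs
  have h2 := card_cent_noEigen hodd g₀ hg₀
  exact (noEigen_of_dvd hodd c hcs (by rw [h1, h2])).1

theorem T_cent (c : Matrix.SpecialLinearGroup (Fin 2) F)
    (hc : c ∈ Subgroup.centralizer ({g₀} : Set (Matrix.SpecialLinearGroup (Fin 2) F)))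
    (hcn : NoEigen c) :
    Subgroup.centralizer ({c} : Set (Matrix.SpecialLinearGroup (Fin 2) F)) =
      Subgroup.centralizer ({g₀} : Set (Matrix.SpecialLinearGroup (Fin 2) F)) :=
  cent_eq_of_mem g₀ c (no_eigen_not_scalar g₀ hg₀) hc (no_eigen_not_scalar c hcn)

theorem T_conj (c : Matrix.SpecialLinearGroup (Fin 2) F)
    (hc : c ∈ Subgroup.centralizer ({g₀} : Set (Matrix.SpecialLinearGroup (Fin 2) F)))
    (hcn : NoEigen c) (x : Matrix.SpecialLinearGroup (Fin 2) F)
    (hx : x⁻¹ * c * x ∈ Subgroup.centralizer ({g₀} : Set (Matrix.SpecialLinearGroup (Fin 2) F))) :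
    x⁻¹ * c * x = c ∨ x⁻¹ * c * x = c⁻¹ := by
  have h2 : (2 : F) ≠ 0 := two_ne_zero_of_odd hodd
  rw [← T_cent hodd g₀ hg₀ c hc hcn] at hx
  apply trace_eq_in_torus h2 c _ (no_eigen_not_scalar c hcn) (no_eigen_tr hodd c hcn) hx
  have := tr2_conj x⁻¹ c
  rwa [inv_inv] at this

theorem T_inv_mem (c : Matrix.SpecialLinearGroup (Fin 2) F)
    (hc : c ∈ Subgroup.centralizer ({g₀} : Set (Matrix.SpecialLinearGroup (Fin 2) F))) :
    c⁻¹ ∈ Subgroup.centralizer ({g₀} : Set (Matrix.SpecialLinearGroup (Fin 2) F)) :=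
  inv_mem hc

theorem exists_conj_mem (g : Matrix.SpecialLinearGroup (Fin 2) F) (hg : NoEigen g) :
    ∃ x : Matrix.SpecialLinearGroup (Fin 2) F,
      x⁻¹ * g * x ∈ Subgroup.centralizer ({g₀} : Set (Matrix.SpecialLinearGroup (Fin 2) F)) := by
  obtain ⟨T', -, -, -, hcent, hconj, -⟩ := Cfsg.Agent.S2429.result (F := F) (Nat.odd_iff.mpr hodd)
  obtain ⟨h₀, hh₀⟩ := hconj g₀ hg₀
  obtain ⟨h, hh⟩ := hconj g hg
  have hne : NoEigen (h₀ * g₀ * h₀⁻¹) := (noEigen_conj g₀ h₀).mpr hg₀
  have hns := no_eigen_not_scalar _ hne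
  have hT := hcent (h₀ * g₀ * h₀⁻¹) hh₀
    (fun h1 => hns ⟨1, by rw [h1, one_smul]⟩)
    (fun h1 => hns ⟨-1, by rw [h1]; simp⟩)
  rw [← hT, mem_cent_iff] at hh
  refine ⟨h⁻¹ * h₀, ?_⟩
  rw [mem_cent_iff]
  have e1 : g₀ * ((h⁻¹ * h₀)⁻¹ * g * (h⁻¹ * h₀)) =
      h₀⁻¹ * ((h₀ * g₀ * h₀⁻¹) * (h * g * h⁻¹)) * h₀ := by group
  have e2 : ((h⁻¹ * h₀)⁻¹ * g * (h⁻¹ * h₀)) * g₀ =
      h₀⁻¹ * ((h * g * h⁻¹) * (h₀ * g₀ * h₀⁻¹)) * h₀ := by group
  rw [e1, e2, hh]

end T


section ind

variable (hodd : Fintype.card F % 2 = 1) (g₀ : Matrix.SpecialLinearGroup (Fin 2) F)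
  (hg₀ : NoEigen g₀)

include hodd hg₀

theorem card_T_cast :
    (Nat.card (Subgroup.centralizer ({g₀} : Set (Matrix.SpecialLinearGroup (Fin 2) F))) : ℂ) =
      (Fintype.card F : ℂ) + 1 := by
  rw [card_cent_noEigen hodd g₀ hg₀]
  push_cast
  rfl

/-- values of a function induced from the torus at the non-central elements of the torus -/
theorem ind_T (φ : ↥(Subgroup.centralizer ({g₀} : Set (Matrix.SpecialLinearGroup (Fin 2) F))) → ℂ)
    (c : Matrix.SpecialLinearGroup (Fin 2) F)
    (hc : c ∈ Subgroup.centralizer ({g₀} : Set (Matrix.SpecialLinearGroup (Fin 2) F)))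
    (hcn : NoEigen c) :
    Cfsg.indFun (Subgroup.centralizer ({g₀} : Set (Matrix.SpecialLinearGroup (Fin 2) F))) φ c =
      φ ⟨c, hc⟩ + φ ⟨c⁻¹, inv_mem hc⟩ := by
  classical
  have h2 : (2 : F) ≠ 0 := two_ne_zero_of_odd hodd
  have hcs := no_eigen_not_scalar c hcn
  obtain ⟨w, hw⟩ := exists_w hodd c hcs (no_eigen_tr hodd c hcn)
  have hTc := T_cent hodd g₀ hg₀ c hc hcn
  have hne : c ≠ c⁻¹ := by
    intro h
    apply hcs
    apply scalar_of_sq h2
    calc c * c = c * c⁻¹ := by rw [← h]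
      _ = 1 := mul_inv_cancel c
  have hwT : w ∉ Subgroup.centralizer ({g₀} : Set (Matrix.SpecialLinearGroup (Fin 2) F)) := by
    rw [← hTc]
    exact inverter_not_mem h2 c w hcs hw
  have hterm : ∀ x : Matrix.SpecialLinearGroup (Fin 2) F,
      Cfsg.extendByZero (Subgroup.centralizer ({g₀} : Set (Matrix.SpecialLinearGroup (Fin 2) F))) φ
        (x⁻¹ * c * x) =
      (if x ∈ Subgroup.centralizer ({g₀} : Set (Matrix.SpecialLinearGroup (Fin 2) F))
        then φ ⟨c, hc⟩ else 0) +
      (if x * w ∈ Subgroup.centralizer ({g₀} : Set (Matrix.SpecialLinearGroup (Fin 2) F))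
        then φ ⟨c⁻¹, inv_mem hc⟩ else 0) := by
    intro x
    by_cases hx : x ∈ Subgroup.centralizer ({g₀} : Set (Matrix.SpecialLinearGroup (Fin 2) F))
    · have hxw : x * w ∉ Subgroup.centralizer ({g₀} : Set (Matrix.SpecialLinearGroup (Fin 2) F)) := by
        intro h
        apply hwT
        have := mul_mem (inv_mem hx) h
        simpa using this
      rw [if_pos hx, if_neg hxw, add_zero]
      have hx' := hx
      rw [← hTc, mem_cent_iff] at hx'
      have e : x⁻¹ * c * x = c := by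
        rw [mul_assoc, hx', ← mul_assoc, inv_mul_cancel, one_mul]
      have hmem : x⁻¹ * c * x ∈
          Subgroup.centralizer ({g₀} : Set (Matrix.SpecialLinearGroup (Fin 2) F)) := by
        rw [e]; exact hc
      rw [extendByZero_of_mem _ _ hmem]
      congr 1
      exact Subtype.ext e
    · rw [if_neg hx, zero_add]
      by_cases hxw : x * w ∈ Subgroup.centralizer ({g₀} : Set (Matrix.SpecialLinearGroup (Fin 2) F))
      · rw [if_pos hxw]
        have hxw' := hxw
        rw [← hTc, mem_cent_iff] at hxw'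
        have e : x⁻¹ * c * x = c⁻¹ := by
          have e1 : x⁻¹ * c * x = w * ((x * w)⁻¹ * (c * (x * w))) * w⁻¹ := by group
          rw [e1, hxw']
          rw [← hw]
          group
        have hmem : x⁻¹ * c * x ∈
            Subgroup.centralizer ({g₀} : Set (Matrix.SpecialLinearGroup (Fin 2) F)) := by
          rw [e]; exact inv_mem hc
        rw [extendByZero_of_mem _ _ hmem]
        congr 1
        exact Subtype.ext e
      · rw [if_neg hxw]
        apply extendByZero_of_not_mem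
        intro hmem
        rcases T_conj hodd g₀ hg₀ c hc hcn x hmem with e | e
        · apply hx
          rw [← hTc, mem_cent_iff]
          calc c * x = x * (x⁻¹ * c * x) := by group
            _ = x * c := by rw [e]
        · apply hxw
          rw [← hTc, mem_cent_iff]
          calc c * (x * w) = x * (x⁻¹ * c * x) * w := by group
            _ = x * c⁻¹ * w := by rw [e]
            _ = x * (w * c * w⁻¹) * w := by rw [hw]
            _ = x * w * c := by group
  rw [indFun_apply]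
  simp only [hterm]
  have hcount : (Finset.univ.filter (fun x : Matrix.SpecialLinearGroup (Fin 2) F =>
      x ∈ Subgroup.centralizer ({g₀} : Set (Matrix.SpecialLinearGroup (Fin 2) F)))).card =
      Nat.card (Subgroup.centralizer ({g₀} : Set (Matrix.SpecialLinearGroup (Fin 2) F))) := by
    rw [Nat.card_eq_fintype_card, Fintype.card_subtype]
  have hsum1 : ∀ a : ℂ, ∑ x : Matrix.SpecialLinearGroup (Fin 2) F,
      (if x ∈ Subgroup.centralizer ({g₀} : Set (Matrix.SpecialLinearGroup (Fin 2) F))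
        then a else 0) =
      (Nat.card (Subgroup.centralizer ({g₀} : Set (Matrix.SpecialLinearGroup (Fin 2) F))) : ℂ) * a := by
    intro a
    rw [← Finset.sum_filter, Finset.sum_const, nsmul_eq_mul, hcount]
  have hsum2 : ∀ a : ℂ, ∑ x : Matrix.SpecialLinearGroup (Fin 2) F,
      (if x * w ∈ Subgroup.centralizer ({g₀} : Set (Matrix.SpecialLinearGroup (Fin 2) F))
        then a else 0) =
      (Nat.card (Subgroup.centralizer ({g₀} : Set (Matrix.SpecialLinearGroup (Fin 2) F))) : ℂ) * a := by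
    intro a
    rw [← hsum1 a]
    exact Equiv.sum_comp (Equiv.mulRight w) (fun y : Matrix.SpecialLinearGroup (Fin 2) F =>
      if y ∈ Subgroup.centralizer ({g₀} : Set (Matrix.SpecialLinearGroup (Fin 2) F))
        then a else 0)
  rw [Finset.sum_add_distrib, hsum1, hsum2]
  have hne0 : (Nat.card (Subgroup.centralizer
      ({g₀} : Set (Matrix.SpecialLinearGroup (Fin 2) F))) : ℂ) ≠ 0 := by
    rw [card_T_cast hodd g₀ hg₀]
    exact Nat.cast_add_one_ne_zero (Fintype.card F)
  field_simp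

open Classical in
/-- induction from the torus of a class function truncated to the non-central elements -/
theorem ind_trunc {f : Matrix.SpecialLinearGroup (Fin 2) F → ℂ}
    (hf : Cfsg.IsClassFunction (Matrix.SpecialLinearGroup (Fin 2) F) f) :
    Cfsg.indFun (Subgroup.centralizer ({g₀} : Set (Matrix.SpecialLinearGroup (Fin 2) F)))
      (fun c => if NoEigen c.1 then f c.1 else 0) =
      fun g => if NoEigen g then 2 * f g else 0 := by
  funext g
  by_cases hg : NoEigen g
  · rw [if_pos hg]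
    obtain ⟨x, hx⟩ := exists_conj_mem hodd g₀ hg₀ g hg
    have hcn : NoEigen (x⁻¹ * g * x) := (noEigen_conj' g x).mpr hg
    have e1 : g = x * (x⁻¹ * g * x) * x⁻¹ := by group
    have hcl := indFun_isClassFunction
      (Subgroup.centralizer ({g₀} : Set (Matrix.SpecialLinearGroup (Fin 2) F)))
      (fun c => if NoEigen c.1 then f c.1 else 0) (x⁻¹ * g * x) x
    rw [← e1] at hcl
    rw [hcl, ind_T hodd g₀ hg₀ _ _ hx hcn]
    simp only
    rw [if_pos hcn, if_pos ((noEigen_inv _).mpr hcn)]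
    obtain ⟨w, hw⟩ := exists_w hodd _ (no_eigen_not_scalar _ hcn) (no_eigen_tr hodd _ hcn)
    have h3 : f (x⁻¹ * g * x)⁻¹ = f (x⁻¹ * g * x) := by
      rw [← hw]
      exact hf _ _
    have h4 : f (x⁻¹ * g * x) = f g := by
      have := hf g x⁻¹
      rwa [inv_inv] at this
    rw [h3, h4]
    ring
  · rw [if_neg hg, indFun_apply]
    have hz : ∀ x : Matrix.SpecialLinearGroup (Fin 2) F, Cfsg.extendByZero
        (Subgroup.centralizer ({g₀} : Set (Matrix.SpecialLinearGroup (Fin 2) F)))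
        (fun c => if NoEigen c.1 then f c.1 else 0) (x⁻¹ * g * x) = 0 := by
      intro x
      by_cases hx : x⁻¹ * g * x ∈
          Subgroup.centralizer ({g₀} : Set (Matrix.SpecialLinearGroup (Fin 2) F))
      · rw [extendByZero_of_mem _ _ hx]
        simp only
        rw [if_neg]
        intro h
        exact hg ((noEigen_conj' g x).mp h)
      · exact extendByZero_of_not_mem _ _ hx
    simp only [hz, Finset.sum_const_zero, mul_zero]

open Classical in
/-- the integration formula over the elements without eigenvectors -/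
theorem sum_noEigen {f f' : Matrix.SpecialLinearGroup (Fin 2) F → ℂ}
    (hf : Cfsg.IsClassFunction (Matrix.SpecialLinearGroup (Fin 2) F) f)
    (hf' : Cfsg.IsClassFunction (Matrix.SpecialLinearGroup (Fin 2) F) f')
    [Fintype ↥(Subgroup.centralizer ({g₀} : Set (Matrix.SpecialLinearGroup (Fin 2) F)))] :
    2 * ∑ g : Matrix.SpecialLinearGroup (Fin 2) F, (if NoEigen g then f g * conj (f' g) else 0) =
      (Fintype.card F : ℂ) * ((Fintype.card F : ℂ) - 1) *
        ∑ c : ↥(Subgroup.centralizer ({g₀} : Set (Matrix.SpecialLinearGroup (Fin 2) F))),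
          (if NoEigen c.1 then f c.1 * conj (f' c.1) else 0) := by
  have h := frobenius_reciprocity
    (Subgroup.centralizer ({g₀} : Set (Matrix.SpecialLinearGroup (Fin 2) F)))
    (fun c => if NoEigen c.1 then f c.1 else 0) hf'
  rw [ind_trunc hodd g₀ hg₀ hf] at h
  simp only [Cfsg.classInner] at h
  rw [card_T_cast hodd g₀ hg₀, card_G] at h
  obtain ⟨hq0, hq1⟩ := card_F_cast_ne (F := F)
  have hq2 : (Fintype.card F : ℂ) + 1 ≠ 0 := Nat.cast_add_one_ne_zero (Fintype.card F)
  have hcard : (((Fintype.card F ^ 2 - 1) * Fintype.card F : ℕ) : ℂ) =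
      ((Fintype.card F : ℂ) + 1) * ((Fintype.card F : ℂ) - 1) * (Fintype.card F : ℂ) := by
    have h1 : 1 ≤ Fintype.card F ^ 2 := Nat.one_le_pow _ _ Fintype.card_pos
    push_cast [Nat.cast_sub h1]
    ring
  rw [hcard] at h
  have e1 : ∀ g : Matrix.SpecialLinearGroup (Fin 2) F,
      (if NoEigen g then 2 * f g else 0) * conj (f' g) =
      2 * (if NoEigen g then f g * conj (f' g) else 0) := by
    intro g
    split_ifs <;> ring
  have e2 : ∀ c : ↥(Subgroup.centralizer ({g₀} : Set (Matrix.SpecialLinearGroup (Fin 2) F))),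
      (if NoEigen c.1 then f c.1 else 0) * conj (f' c.1) =
      (if NoEigen c.1 then f c.1 * conj (f' c.1) else 0) := by
    intro c
    split_ifs <;> ring
  simp only [e1, e2] at h
  rw [← Finset.mul_sum] at h
  field_simp at h
  linear_combination h

end ind

end torus

end Cfsg.Agent.Lib.Helper14.SL2Cusp
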