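import Mathlib
import Cfsg.Agent.Lib.Helper14.SL2Cusp

set_option autoImplicit false
set_option linter.unusedSectionVars false

namespace Cfsg.Agent.Lib.Helper14.SL2Cusp2

open scoped ComplexConjugate
open Cfsg.Agent.Lib.Helper1 Cfsg.Agent.Lib.Helper13.GL2Ind Cfsg.Agent.Lib.Helper13.GL2Irr
  Cfsg.Agent.Lib.Helper13.SL2Ind Cfsg.Agent.Lib.Helper13.SL2Irr Cfsg.Agent.Lib.Helper13.SL2Irr2
  Cfsg.Agent.Lib.Helper13.SL2Irr3 Cfsg.Agent.Lib.Helper13.SL2Irr4 Cfsg.Agent.Lib.Helper13.SL2Irr5
open Cfsg.Agent.Lib.Helper14.GL2Conj Cfsg.Agent.Lib.Helper14.SL2Odd Cfsg.Agent.Lib.Helper14.SL2Odd2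
  Cfsg.Agent.Lib.Helper14.ClassSize Cfsg.Agent.Lib.Helper14.Torus Cfsg.Agent.Lib.Helper14.PSL2
  Cfsg.Agent.Lib.Helper14.SL2Cusp

universe u

section upper

variable {F : Type u} [Field F] [Fintype F] [DecidableEq F]

/-- an element with an eigenvector is conjugate to an upper triangular element -/
theorem exists_upper (g : Matrix.SpecialLinearGroup (Fin 2) F) (h : ¬ NoEigen g) :
    ∃ (x : Matrix.SpecialLinearGroup (Fin 2) F) (a : Fˣ) (c : F),
      g = x * ((bS a c : ↥(BS F)) : Matrix.SpecialLinearGroup (Fin 2) F) * x⁻¹ := by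
  unfold NoEigen at h
  push Not at h
  obtain ⟨c, v, hv, hgv⟩ := h
  have h0 := congrFun hgv 0
  have h1 := congrFun hgv 1
  simp only [Matrix.mulVec, dotProduct, Fin.sum_univ_two, Pi.smul_apply, smul_eq_mul] at h0 h1
  obtain ⟨x, hx0, hx1⟩ : ∃ x : Matrix.SpecialLinearGroup (Fin 2) F,
      x.1 0 0 = v 0 ∧ x.1 1 0 = v 1 := by
    by_cases hv0 : v 0 = 0
    · have hv1 : v 1 ≠ 0 := by
        intro hv1
        apply hv
        funext i
        fin_cases i
        · exact hv0
        · exact hv1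
      refine ⟨⟨!![0, -(v 1)⁻¹; v 1, 0], ?_⟩, ?_, ?_⟩
      · rw [Matrix.det_fin_two]
        simp
        field_simp
      · simp [hv0]
      · simp
    · refine ⟨⟨!![v 0, 0; v 1, (v 0)⁻¹], ?_⟩, ?_, ?_⟩
      · rw [Matrix.det_fin_two]
        simp
        field_simp
      · simp
      · simp
  have hmem : x⁻¹ * g * x ∈ BS F := by
    rw [mem_BS_iff]
    rw [Matrix.SpecialLinearGroup.coe_mul, Matrix.SpecialLinearGroup.coe_mul,
      Matrix.SpecialLinearGroup.coe_inv, Matrix.adjugate_fin_two]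
    simp only [Matrix.mul_apply, Fin.sum_univ_two, Matrix.of_apply, Matrix.cons_val_zero,
      Matrix.cons_val_one, Matrix.cons_val', Matrix.empty_val', Matrix.cons_val_fin_one]
    rw [hx0, hx1]
    linear_combination (-(v 1)) * h0 + (v 0) * h1
  obtain ⟨⟨a, c'⟩, hac⟩ := (bSEquiv (F := F)).surjective ⟨x⁻¹ * g * x, hmem⟩
  refine ⟨x, a, c', ?_⟩
  have e : ((bS a c' : ↥(BS F)) : Matrix.SpecialLinearGroup (Fin 2) F) = x⁻¹ * g * x :=
    congrArg Subtype.val hac
  rw [e]
  group

theorem zS_eq_negOne : zS F = negOne := by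
  apply Subtype.ext
  rw [zS_val, negOne_coe]

theorem zS_mul_self : zS F * zS F = 1 := by
  rw [zS_eq_negOne, negOne_mul_self]

theorem zS_ne_one (hodd : Fintype.card F % 2 = 1) : zS F ≠ 1 := by
  rw [zS_eq_negOne]
  exact negOne_ne_one (two_ne_zero_of_odd hodd)

theorem central_iff (g : Matrix.SpecialLinearGroup (Fin 2) F) :
    IsScalarMat (g : Matrix (Fin 2) (Fin 2) F) ↔ g = 1 ∨ g = zS F := by
  constructor
  · intro h
    rcases scalar_cases g h with h1 | h1
    · exact Or.inl h1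
    · exact Or.inr (h1.trans zS_eq_negOne.symm)
  · rintro (h | h)
    · rw [h]; exact isScalarMat_one
    · rw [h, zS_eq_negOne]; exact isScalarMat_negOne

theorem noEigen_ne (g : Matrix.SpecialLinearGroup (Fin 2) F) (hg : NoEigen g) :
    g ≠ 1 ∧ g ≠ zS F := by
  have := no_eigen_not_scalar g hg
  rw [central_iff] at this
  push Not at this
  exact this

theorem indS_zS (α : MulChar F ℂ) :
    Cfsg.indFun (BS F) (thetaS α) (zS F) = ((Fintype.card F : ℂ) + 1) * α (-1) := by
  rw [indS_apply, zS_val]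
  simp
  ring

end upper

section K

variable {F : Type u} [Field F] [Fintype F] [DecidableEq F]

theorem card_G_cast :
    (Nat.card (Matrix.SpecialLinearGroup (Fin 2) F) : ℂ) =
      ((Fintype.card F : ℂ) + 1) * ((Fintype.card F : ℂ) - 1) * (Fintype.card F : ℂ) := by
  rw [card_G]
  have h1 : 1 ≤ Fintype.card F ^ 2 := Nat.one_le_pow _ _ Fintype.card_pos
  push_cast [Nat.cast_sub h1]
  ring

theorem thetaS_one (b : ↥(BS F)) : thetaS (1 : MulChar F ℂ) b = 1 := by
  obtain ⟨⟨a, c⟩, rfl⟩ := (bSEquiv (F := F)).surjective b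
  show thetaS 1 (bS a c) = 1
  rw [thetaS_bS]
  exact MulChar.one_apply_coe a

open Classical in
theorem ind_one_mul (hodd : Fintype.card F % 2 = 1)
    {f : Matrix.SpecialLinearGroup (Fin 2) F → ℂ}
    (hf : Cfsg.IsClassFunction (Matrix.SpecialLinearGroup (Fin 2) F) f)
    (hsplit : ∀ (a : Fˣ) (c : F), (a : F) ^ 2 ≠ 1 → f (bS a c : ↥(BS F)) = 0)
    (g : Matrix.SpecialLinearGroup (Fin 2) F) :
    Cfsg.indFun (BS F) (thetaS 1) g * f g =
      ((if g = 1 then ((Fintype.card F : ℂ) + 1) * f 1 else 0) +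
        (if g = zS F then ((Fintype.card F : ℂ) + 1) * f (zS F) else 0)) +
      (if NoEigen g ∨ g = 1 ∨ g = zS F then 0 else f g) := by
  by_cases h1 : g = 1
  · subst h1
    rw [indS_one, if_pos rfl, if_neg (Ne.symm (zS_ne_one hodd)), if_pos (Or.inr (Or.inl rfl))]
    ring
  by_cases hz : g = zS F
  · subst hz
    have e : (1 : MulChar F ℂ) (-1 : F) = 1 := by
      have := MulChar.one_apply_coe (R' := ℂ) (-1 : Fˣ)
      simpa using this
    rw [indS_zS, e, if_neg h1, if_pos rfl, if_pos (Or.inr (Or.inr rfl))]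
    ring
  rw [if_neg h1, if_neg hz]
  by_cases hn : NoEigen g
  · rw [indS_no_eigen _ g hn, if_pos (Or.inl hn)]
    ring
  · rw [if_neg (by tauto)]
    obtain ⟨x, a, c, rfl⟩ := exists_upper g hn
    rw [indFun_isClassFunction, hf]
    by_cases ha : (a : F) ^ 2 = 1
    · have hinv : ((a⁻¹ : Fˣ) : F) = a := by
        rw [Units.val_inv_eq_inv_val]
        exact inv_eq_of_mul_eq_one_right (by rw [← pow_two]; exact ha)
      have hc : c ≠ 0 := by
        rintro rfl
        have hs : IsScalarMat (((bS a 0 : ↥(BS F)) : Matrix.SpecialLinearGroup (Fin 2) F) :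
            Matrix (Fin 2) (Fin 2) F) := by
          refine ⟨(a : F), ?_⟩
          rw [bS_val, hinv]
          ext i j
          fin_cases i <;> fin_cases j <;> simp
        rcases (central_iff _).mp hs with h | h
        · apply h1
          rw [h]
          group
        · apply hz
          rw [h]
          have := (Subgroup.mem_center_iff.mp (zS_center (F := F))) x
          rw [this]
          group
      rw [indS_unip _ _ (bS_10 a c) (by rw [bS_00, bS_11, hinv]) (by rw [bS_01]; exact hc), bS_00]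
      simp
    · rw [hsplit a c ha]
      ring

open Classical in
/-- the sum of a class function over the elements without eigenvectors -/
theorem sum_noEigen_eq (hodd : Fintype.card F % 2 = 1) [Fintype ↥(BS F)]
    {f : Matrix.SpecialLinearGroup (Fin 2) F → ℂ}
    (hf : Cfsg.IsClassFunction (Matrix.SpecialLinearGroup (Fin 2) F) f)
    (hsplit : ∀ (a : Fˣ) (c : F), (a : F) ^ 2 ≠ 1 → f (bS a c : ↥(BS F)) = 0) :
    ∑ g : Matrix.SpecialLinearGroup (Fin 2) F, (if NoEigen g then f g else 0) =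
      ∑ g : Matrix.SpecialLinearGroup (Fin 2) F, f g +
        (Fintype.card F : ℂ) * (f 1 + f (zS F)) -
        ((Fintype.card F : ℂ) + 1) * ∑ b : ↥(BS F), f b := by
  obtain ⟨hq0, hq1⟩ := card_F_cast_ne (F := F)
  have hq2 : (Fintype.card F : ℂ) + 1 ≠ 0 := Nat.cast_add_one_ne_zero (Fintype.card F)
  have hfc : Cfsg.IsClassFunction (Matrix.SpecialLinearGroup (Fin 2) F) (fun g => conj (f g)) := by
    intro g h
    simp only
    rw [hf]
  have hfrob := frobenius_reciprocity (BS F) (thetaS 1) hfc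
  simp only [Cfsg.classInner, Complex.conj_conj] at hfrob
  rw [card_G_cast, card_BS_cast] at hfrob
  simp only [thetaS_one, one_mul] at hfrob
  simp only [ind_one_mul hodd hf hsplit] at hfrob
  rw [Finset.sum_add_distrib, Finset.sum_add_distrib, Finset.sum_ite_eq', Finset.sum_ite_eq'] at hfrob
  simp only [Finset.mem_univ, if_true] at hfrob
  have hdec : ∀ g : Matrix.SpecialLinearGroup (Fin 2) F, f g =
      ((if g = 1 then f 1 else 0) + (if g = zS F then f (zS F) else 0)) +
      (if NoEigen g ∨ g = 1 ∨ g = zS F then 0 else f g) + (if NoEigen g then f g else 0) := by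
    intro g
    by_cases h1 : g = 1
    · subst h1
      rw [if_pos rfl, if_neg (Ne.symm (zS_ne_one hodd)), if_pos (Or.inr (Or.inl rfl)),
        if_neg (fun h => (noEigen_ne _ h).1 rfl)]
      ring
    by_cases hz : g = zS F
    · subst hz
      rw [if_neg h1, if_pos rfl, if_pos (Or.inr (Or.inr rfl)),
        if_neg (fun h => (noEigen_ne _ h).2 rfl)]
      ring
    by_cases hn : NoEigen g
    · rw [if_neg h1, if_neg hz, if_pos (Or.inl hn), if_pos hn]
      ring
    · rw [if_neg h1, if_neg hz, if_neg (by tauto), if_neg hn]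
      ring
  have htot : ∑ g : Matrix.SpecialLinearGroup (Fin 2) F, f g = f 1 + f (zS F) +
      ∑ g : Matrix.SpecialLinearGroup (Fin 2) F, (if NoEigen g ∨ g = 1 ∨ g = zS F then 0 else f g) +
      ∑ g : Matrix.SpecialLinearGroup (Fin 2) F, (if NoEigen g then f g else 0) := by
    conv_lhs => rw [Finset.sum_congr rfl (fun g _ => hdec g)]
    rw [Finset.sum_add_distrib, Finset.sum_add_distrib, Finset.sum_add_distrib,
      Finset.sum_ite_eq', Finset.sum_ite_eq']
    simp
  rw [htot]
  field_simp at hfrob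
  linear_combination (-1 : ℂ) * hfrob

end K

section cuspT

variable {F : Type u} [Field F] [Fintype F] [DecidableEq F]

theorem cusp_ne_one {ψ : Matrix.SpecialLinearGroup (Fin 2) F → ℂ} (hψ : IsCuspS ψ) :
    ψ ≠ fun _ => 1 := by
  intro h
  have h3 := hψ.2 1
  rw [h, classInner_indS_triv, if_pos rfl] at h3
  exact one_ne_zero h3

theorem cusp_sum_G {ψ : Matrix.SpecialLinearGroup (Fin 2) F → ℂ} (hψ : IsCuspS ψ) :
    ∑ g : Matrix.SpecialLinearGroup (Fin 2) F, ψ g = 0 := by
  have h := classInner_irr hψ.1 (isIrrCharacter_one (G := Matrix.SpecialLinearGroup (Fin 2) F))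
  rw [if_neg (cusp_ne_one hψ)] at h
  simp only [Cfsg.classInner, map_one, mul_one] at h
  rcases mul_eq_zero.mp h with h1 | h1
  · exfalso
    rw [inv_eq_zero] at h1
    have : Nat.card (Matrix.SpecialLinearGroup (Fin 2) F) ≠ 0 := Nat.card_pos.ne'
    exact this (by exact_mod_cast h1)
  · exact h1

theorem irr_sum_sq {ψ : Matrix.SpecialLinearGroup (Fin 2) F → ℂ}
    (hψ : Cfsg.IsIrrCharacter (Matrix.SpecialLinearGroup (Fin 2) F) ψ) :
    ∑ g : Matrix.SpecialLinearGroup (Fin 2) F, ψ g * conj (ψ g) =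
      ((Fintype.card F : ℂ) + 1) * ((Fintype.card F : ℂ) - 1) * (Fintype.card F : ℂ) := by
  have h := classInner_irr_self hψ
  simp only [Cfsg.classInner] at h
  rw [← card_G_cast]
  have hne : (Nat.card (Matrix.SpecialLinearGroup (Fin 2) F) : ℂ) ≠ 0 := by
    have : Nat.card (Matrix.SpecialLinearGroup (Fin 2) F) ≠ 0 := Nat.card_pos.ne'
    exact_mod_cast this
  field_simp at h
  exact h

theorem cusp_sum_B [Fintype ↥(BS F)] {ψ : Matrix.SpecialLinearGroup (Fin 2) F → ℂ}
    (hψ : IsCuspS ψ) : ∑ b : ↥(BS F), ψ b = 0 := by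
  rw [sum_BS]
  exact Finset.sum_eq_zero (fun a _ => cuspS_sum hψ a)

variable (hodd : Fintype.card F % 2 = 1) (g₀ : Matrix.SpecialLinearGroup (Fin 2) F)
  (hg₀ : NoEigen g₀)

include hodd hg₀

open Classical in
/-- the sum of a cuspidal character over the non-central elements of the torus -/
theorem cusp_lin_T {ψ : Matrix.SpecialLinearGroup (Fin 2) F → ℂ} (hψ : IsCuspS ψ)
    [Fintype ↥(Subgroup.centralizer ({g₀} : Set (Matrix.SpecialLinearGroup (Fin 2) F)))] :
    ((Fintype.card F : ℂ) - 1) *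
      ∑ c : ↥(Subgroup.centralizer ({g₀} : Set (Matrix.SpecialLinearGroup (Fin 2) F))),
        (if NoEigen c.1 then ψ c.1 else 0) = 2 * (ψ 1 + ψ (zS F)) := by
  have hFB : Fintype ↥(BS F) := Fintype.ofFinite _
  obtain ⟨hq0, hq1⟩ := card_F_cast_ne (F := F)
  have hcl := IsIrrCharacter.isClassFunction hψ.1
  have h1 := sum_noEigen hodd g₀ hg₀ hcl
    (IsIrrCharacter.isClassFunction (isIrrCharacter_one (G := Matrix.SpecialLinearGroup (Fin 2) F)))
  simp only [map_one, mul_one] at h1
  have h2 := sum_noEigen_eq hodd hcl (fun a c ha => cuspS_diag hψ a ha c)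
  rw [cusp_sum_G hψ, cusp_sum_B hψ] at h2
  rw [h2] at h1
  have h3 : (Fintype.card F : ℂ) * (((Fintype.card F : ℂ) - 1) *
      ∑ c : ↥(Subgroup.centralizer ({g₀} : Set (Matrix.SpecialLinearGroup (Fin 2) F))),
        (if NoEigen c.1 then ψ c.1 else 0) - 2 * (ψ 1 + ψ (zS F))) = 0 := by
    linear_combination (-1 : ℂ) * h1
  have h4 := (mul_eq_zero.mp h3).resolve_left hq0
  linear_combination h4

open Classical in
/-- the norm of a cuspidal character over the non-central elements of the torus -/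
theorem cusp_norm_T {ψ : Matrix.SpecialLinearGroup (Fin 2) F → ℂ} (hψ : IsCuspS ψ)
    [Fintype ↥(Subgroup.centralizer ({g₀} : Set (Matrix.SpecialLinearGroup (Fin 2) F)))]
    [Fintype ↥(BS F)] :
    ((Fintype.card F : ℂ) - 1) *
      ∑ c : ↥(Subgroup.centralizer ({g₀} : Set (Matrix.SpecialLinearGroup (Fin 2) F))),
        (if NoEigen c.1 then ψ c.1 * conj (ψ c.1) else 0) =
      2 * (((Fintype.card F : ℂ) + 1) * ((Fintype.card F : ℂ) - 1) +
        (ψ 1 * conj (ψ 1) + ψ (zS F) * conj (ψ (zS F)))) -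
      2 * (((Fintype.card F : ℂ) + 1) * ((Fintype.card F : ℂ))⁻¹ *
        ∑ b : ↥(BS F), ψ b * conj (ψ b)) := by
  obtain ⟨hq0, hq1⟩ := card_F_cast_ne (F := F)
  have hcl := IsIrrCharacter.isClassFunction hψ.1
  have h1 := sum_noEigen hodd g₀ hg₀ hcl hcl
  have hcl2 : Cfsg.IsClassFunction (Matrix.SpecialLinearGroup (Fin 2) F)
      (fun g => ψ g * conj (ψ g)) := by
    intro g h
    simp only
    rw [hcl]
  have h2 := sum_noEigen_eq hodd hcl2 (fun a c ha => by
    rw [cuspS_diag hψ a ha c, zero_mul])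
  rw [irr_sum_sq hψ.1] at h2
  rw [h2] at h1
  field_simp
  linear_combination (-1 : ℂ) * h1

end cuspT

end Cfsg.Agent.Lib.Helper14.SL2Cusp2
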