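import Mathlib
import Cfsg.Agent.Lib.Helper14.SL2Cusp3

set_option autoImplicit false
set_option linter.unusedSectionVars false

namespace Cfsg.Agent.Lib.Helper14.SL2Cusp4

open scoped ComplexConjugate
open Cfsg.Agent.Lib.Helper1 Cfsg.Agent.Lib.Helper13.GL2Ind Cfsg.Agent.Lib.Helper13.GL2Irr
  Cfsg.Agent.Lib.Helper13.SL2Ind Cfsg.Agent.Lib.Helper13.SL2Irr Cfsg.Agent.Lib.Helper13.SL2Irr2
  Cfsg.Agent.Lib.Helper13.SL2Irr3 Cfsg.Agent.Lib.Helper13.SL2Irr4 Cfsg.Agent.Lib.Helper13.SL2Irr5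
open Cfsg.Agent.Lib.Helper14.GL2Conj Cfsg.Agent.Lib.Helper14.SL2Odd Cfsg.Agent.Lib.Helper14.SL2Odd2
  Cfsg.Agent.Lib.Helper14.ClassSize Cfsg.Agent.Lib.Helper14.Torus Cfsg.Agent.Lib.Helper14.PSL2
  Cfsg.Agent.Lib.Helper14.SL2Cusp Cfsg.Agent.Lib.Helper14.SL2Cusp2 Cfsg.Agent.Lib.Helper14.AbTorus
  Cfsg.Agent.Lib.Helper14.SL2Cusp3

universe u

section central

variable {G : Type u} [Group G] [Fintype G]

/-- induced functions and translation by a central element of the subgroup -/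
theorem ind_central (H : Subgroup G) (φ : H → ℂ) (z : G) (hz : z ∈ Subgroup.center G)
    (hzH : z ∈ H) (ω : ℂ) (hφ : ∀ h : H, φ (⟨z, hzH⟩ * h) = ω * φ h) (g : G) :
    Cfsg.indFun H φ (z * g) = ω * Cfsg.indFun H φ g := by
  rw [indFun_apply, indFun_apply]
  have key : ∀ x : G, Cfsg.extendByZero H φ (x⁻¹ * (z * g) * x) =
      ω * Cfsg.extendByZero H φ (x⁻¹ * g * x) := by
    intro x
    have e : x⁻¹ * (z * g) * x = z * (x⁻¹ * g * x) := by
      have h1 := Subgroup.mem_center_iff.mp hz x⁻¹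
      calc x⁻¹ * (z * g) * x = (x⁻¹ * z) * g * x := by group
        _ = z * x⁻¹ * g * x := by rw [h1]
        _ = z * (x⁻¹ * g * x) := by group
    rw [e]
    by_cases hy : x⁻¹ * g * x ∈ H
    · rw [extendByZero_of_mem _ _ hy, extendByZero_of_mem _ _ (mul_mem hzH hy)]
      exact hφ ⟨_, hy⟩
    · rw [extendByZero_of_not_mem _ _ hy, extendByZero_of_not_mem, mul_zero]
      intro h
      apply hy
      have := mul_mem (inv_mem hzH) h
      simpa using this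
  rw [Finset.sum_congr rfl (fun x _ => key x), ← Finset.mul_sum]
  ring

end central

section forward

variable {F : Type u} [Field F] [Fintype F] [DecidableEq F]

theorem zS_mem_BS : zS F ∈ BS F := (bS (-1 : Fˣ) (0 : F)).2

theorem stS_zS_mul (g : Matrix.SpecialLinearGroup (Fin 2) F) : stS F (zS F * g) = stS F g := by
  rw [stS, Pi.sub_apply, Pi.sub_apply,
    ind_central (BS F) (thetaS 1) (zS F) zS_center zS_mem_BS 1 (fun h => by
      rw [thetaS_one, thetaS_one, one_mul]) g, one_mul]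

theorem indS_zS_mul (α : MulChar F ℂ) (g : Matrix.SpecialLinearGroup (Fin 2) F) :
    Cfsg.indFun (BS F) (thetaS α) (zS F * g) = α (-1) * Cfsg.indFun (BS F) (thetaS α) g := by
  apply ind_central (BS F) (thetaS α) (zS F) zS_center zS_mem_BS
  intro h
  have e1 : thetaS α (⟨zS F, zS_mem_BS⟩ * h) = thetaS α ⟨zS F, zS_mem_BS⟩ * thetaS α h :=
    (thetaSM α).map_mul _ _
  have e2 : thetaS α (⟨zS F, zS_mem_BS⟩ : ↥(BS F)) = α (-1) := by
    have : (⟨zS F, zS_mem_BS⟩ : ↥(BS F)) = bS (-1 : Fˣ) (0 : F) := rfl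
    rw [this, thetaS_bS]
    simp
  rw [e1, e2]

theorem upper_not_noEigen (g : Matrix.SpecialLinearGroup (Fin 2) F) (h10 : g.1 1 0 = 0) :
    ¬ NoEigen g := by
  intro h
  apply h (g.1 0 0) ![1, 0] (by intro hc; have := congrFun hc 0; simp at this)
  ext i
  fin_cases i
  · simp [Matrix.mulVec, dotProduct, Fin.sum_univ_two]
  · simp [Matrix.mulVec, dotProduct, Fin.sum_univ_two, h10]

theorem stS_unip (g : Matrix.SpecialLinearGroup (Fin 2) F)
    (h10 : g.1 1 0 = 0) (h00 : g.1 0 0 = 1) (h11 : g.1 1 1 = 1) (h01 : g.1 0 1 ≠ 0) :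
    stS F g = 0 := by
  rw [stS, Pi.sub_apply, indS_unip _ g h10 (by rw [h00, h11]) h01, h00]
  simp

theorem stS_diag (g : Matrix.SpecialLinearGroup (Fin 2) F)
    (h01 : g.1 0 1 = 0) (h10 : g.1 1 0 = 0) (hne : g.1 0 0 ^ 2 ≠ 1) : stS F g = 1 := by
  have hdet := det_eq g
  rw [h01, zero_mul, sub_zero] at hdet
  have hg0 : IsUnit (g.1 0 0) := IsUnit.of_mul_eq_one _ hdet
  have hg1 : IsUnit (g.1 1 1) := IsUnit.of_mul_eq_one _ (by rw [mul_comm]; exact hdet)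
  rw [stS, Pi.sub_apply, indS_diag _ g h01 h10 hne, MulChar.one_apply hg0, MulChar.one_apply hg1]
  ring

theorem stS_noEigen (g : Matrix.SpecialLinearGroup (Fin 2) F) (hg : NoEigen g) :
    stS F g = -1 := by
  rw [stS, Pi.sub_apply, indS_no_eigen _ g hg]
  ring

variable (hodd : Fintype.card F % 2 = 1) (g₀ : Matrix.SpecialLinearGroup (Fin 2) F)
  (hg₀ : NoEigen g₀)

theorem indT_zS_mul
    (θ : ↥(Subgroup.centralizer ({g₀} : Set (Matrix.SpecialLinearGroup (Fin 2) F))) →* ℂˣ)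
    (g : Matrix.SpecialLinearGroup (Fin 2) F) :
    Cfsg.indFun (Subgroup.centralizer ({g₀} : Set (Matrix.SpecialLinearGroup (Fin 2) F)))
      (fun c => ((θ c : ℂˣ) : ℂ)) (zS F * g) =
    ((θ ⟨zS F, zS_mem g₀⟩ : ℂˣ) : ℂ) *
      Cfsg.indFun (Subgroup.centralizer ({g₀} : Set (Matrix.SpecialLinearGroup (Fin 2) F)))
        (fun c => ((θ c : ℂˣ) : ℂ)) g := by
  apply ind_central _ _ (zS F) zS_center (zS_mem g₀)
  intro h
  rw [map_mul, Units.val_mul]

include hodd hg₀ in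
theorem indT_zero
    (φ : ↥(Subgroup.centralizer ({g₀} : Set (Matrix.SpecialLinearGroup (Fin 2) F))) → ℂ)
    (g : Matrix.SpecialLinearGroup (Fin 2) F) (hn : ¬ NoEigen g)
    (hs : ¬ IsScalarMat (g : Matrix (Fin 2) (Fin 2) F)) :
    Cfsg.indFun (Subgroup.centralizer ({g₀} : Set (Matrix.SpecialLinearGroup (Fin 2) F))) φ g = 0 := by
  apply frobC_ind_zero
  intro x hx
  by_cases hsc : IsScalarMat ((x⁻¹ * g * x : Matrix.SpecialLinearGroup (Fin 2) F) :
      Matrix (Fin 2) (Fin 2) F)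
  · apply hs
    have e : g = x⁻¹ * g * x := by
      rcases (central_iff _).mp hsc with h | h
      · have : g = x * (x⁻¹ * g * x) * x⁻¹ := by group
        rw [h]
        rw [this, h]
        group
      · have h1 := Subgroup.mem_center_iff.mp (zS_center (F := F)) x
        have : g = x * (x⁻¹ * g * x) * x⁻¹ := by group
        rw [h]
        rw [this, h, h1]
        group
    rw [e]
    exact hsc
  · exact hn ((noEigen_conj' g x).mp (T_noEigen hodd g₀ hg₀ _ hx hsc))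

include hodd hg₀ in
theorem indT_one
    (θ : ↥(Subgroup.centralizer ({g₀} : Set (Matrix.SpecialLinearGroup (Fin 2) F))) →* ℂˣ) :
    Cfsg.indFun (Subgroup.centralizer ({g₀} : Set (Matrix.SpecialLinearGroup (Fin 2) F)))
      (fun c => ((θ c : ℂˣ) : ℂ)) 1 = (Fintype.card F : ℂ) * ((Fintype.card F : ℂ) - 1) := by
  have hq2 : (Fintype.card F : ℂ) + 1 ≠ 0 := Nat.cast_add_one_ne_zero (Fintype.card F)
  rw [indFun_one]
  simp only [map_one, Units.val_one, mul_one]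
  have h1 := Subgroup.card_mul_index
    (Subgroup.centralizer ({g₀} : Set (Matrix.SpecialLinearGroup (Fin 2) F)))
  have h2 : ((Nat.card (Subgroup.centralizer
      ({g₀} : Set (Matrix.SpecialLinearGroup (Fin 2) F))) : ℕ) : ℂ) *
      (((Subgroup.centralizer ({g₀} : Set (Matrix.SpecialLinearGroup (Fin 2) F))).index : ℕ) : ℂ) =
      (Nat.card (Matrix.SpecialLinearGroup (Fin 2) F) : ℂ) := by exact_mod_cast h1
  rw [card_T_cast hodd g₀ hg₀, card_G_cast] at h2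
  apply mul_left_cancel₀ hq2
  rw [h2]
  ring

/-- the virtual character attached to a character of the non-split torus -/
noncomputable def lamFun (α : MulChar F ℂ)
    (θ : ↥(Subgroup.centralizer ({g₀} : Set (Matrix.SpecialLinearGroup (Fin 2) F))) →* ℂˣ) :
    Matrix.SpecialLinearGroup (Fin 2) F → ℂ :=
  fun g => (stS F g - 1) * Cfsg.indFun (BS F) (thetaS α) g -
    Cfsg.indFun (Subgroup.centralizer ({g₀} : Set (Matrix.SpecialLinearGroup (Fin 2) F)))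
      (fun c => ((θ c : ℂˣ) : ℂ)) g

theorem lam_class (α : MulChar F ℂ)
    (θ : ↥(Subgroup.centralizer ({g₀} : Set (Matrix.SpecialLinearGroup (Fin 2) F))) →* ℂˣ) :
    Cfsg.IsClassFunction (Matrix.SpecialLinearGroup (Fin 2) F) (lamFun g₀ α θ) := by
  intro g h
  simp only [lamFun]
  rw [IsIrrCharacter.isClassFunction stS_isIrr g h, indFun_isClassFunction _ _ g h,
    indFun_isClassFunction _ _ g h]

theorem lam_int (α : MulChar F ℂ)
    (θ : ↥(Subgroup.centralizer ({g₀} : Set (Matrix.SpecialLinearGroup (Fin 2) F))) →* ℂˣ)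
    {χ : Matrix.SpecialLinearGroup (Fin 2) F → ℂ}
    (hχ : Cfsg.IsIrrCharacter (Matrix.SpecialLinearGroup (Fin 2) F) χ) :
    ∃ n : ℤ, Cfsg.classInner (lamFun g₀ α θ) χ = (n : ℂ) := by
  have hX : Cfsg.IsCharacter (Matrix.SpecialLinearGroup (Fin 2) F)
      (stS F * Cfsg.indFun (BS F) (thetaS α)) := IsCharacter.mul stS_isChar (indS_isChar α)
  have hY : Cfsg.IsCharacter (Matrix.SpecialLinearGroup (Fin 2) F)
      (Cfsg.indFun (BS F) (thetaS α) +
        Cfsg.indFun (Subgroup.centralizer ({g₀} : Set (Matrix.SpecialLinearGroup (Fin 2) F)))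
          (fun c => ((θ c : ℂˣ) : ℂ))) :=
    IsCharacter.add (indS_isChar α)
      (indFun_isCharacter _ (IsIrrCharacter.isCharacter (isIrrCharacter_of_monoidHom θ)))
  have e : lamFun g₀ α θ = stS F * Cfsg.indFun (BS F) (thetaS α) -
      (Cfsg.indFun (BS F) (thetaS α) +
        Cfsg.indFun (Subgroup.centralizer ({g₀} : Set (Matrix.SpecialLinearGroup (Fin 2) F)))
          (fun c => ((θ c : ℂˣ) : ℂ))) := by
    funext g
    simp only [lamFun, Pi.sub_apply, Pi.mul_apply, Pi.add_apply]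
    ring
  obtain ⟨n1, h1⟩ := IsCharacter.classInner_irr_nat hX hχ
  obtain ⟨n2, h2⟩ := IsCharacter.classInner_irr_nat hY hχ
  refine ⟨(n1 : ℤ) - n2, ?_⟩
  rw [e, classInner_sub_left, h1, h2]
  push_cast
  rfl

theorem lam_zS_mul (α : MulChar F ℂ)
    (θ : ↥(Subgroup.centralizer ({g₀} : Set (Matrix.SpecialLinearGroup (Fin 2) F))) →* ℂˣ)
    (hα : α (-1) = ((θ ⟨zS F, zS_mem g₀⟩ : ℂˣ) : ℂ)) (g : Matrix.SpecialLinearGroup (Fin 2) F) :
    lamFun g₀ α θ (zS F * g) = ((θ ⟨zS F, zS_mem g₀⟩ : ℂˣ) : ℂ) * lamFun g₀ α θ g := by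
  simp only [lamFun]
  rw [stS_zS_mul, indS_zS_mul, indT_zS_mul, hα]
  ring

include hodd hg₀ in
theorem lam_one (α : MulChar F ℂ)
    (θ : ↥(Subgroup.centralizer ({g₀} : Set (Matrix.SpecialLinearGroup (Fin 2) F))) →* ℂˣ) :
    lamFun g₀ α θ 1 = (Fintype.card F : ℂ) - 1 := by
  simp only [lamFun]
  rw [stS_one, indS_one, indT_one hodd g₀ hg₀]
  ring

include hodd hg₀ in
theorem lam_unip (α : MulChar F ℂ)
    (θ : ↥(Subgroup.centralizer ({g₀} : Set (Matrix.SpecialLinearGroup (Fin 2) F))) →* ℂˣ)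
    (g : Matrix.SpecialLinearGroup (Fin 2) F)
    (h10 : g.1 1 0 = 0) (h00 : g.1 0 0 = 1) (h11 : g.1 1 1 = 1) (h01 : g.1 0 1 ≠ 0) :
    lamFun g₀ α θ g = -1 := by
  have hs : ¬ IsScalarMat (g : Matrix (Fin 2) (Fin 2) F) := by
    rintro ⟨s, hs⟩
    apply h01
    rw [hs]
    simp
  simp only [lamFun]
  rw [stS_unip g h10 h00 h11 h01, indS_unip _ g h10 (by rw [h00, h11]) h01, h00,
    indT_zero hodd g₀ hg₀ _ g (upper_not_noEigen g h10) hs]
  simp

include hodd hg₀ in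
theorem lam_diag (α : MulChar F ℂ)
    (θ : ↥(Subgroup.centralizer ({g₀} : Set (Matrix.SpecialLinearGroup (Fin 2) F))) →* ℂˣ)
    (g : Matrix.SpecialLinearGroup (Fin 2) F)
    (h01 : g.1 0 1 = 0) (h10 : g.1 1 0 = 0) (hne : g.1 0 0 ^ 2 ≠ 1) :
    lamFun g₀ α θ g = 0 := by
  have hdet := det_eq g
  rw [h01, zero_mul, sub_zero] at hdet
  have hs : ¬ IsScalarMat (g : Matrix (Fin 2) (Fin 2) F) := by
    rintro ⟨s, hs⟩
    apply hne
    have e0 : g.1 0 0 = s := by rw [hs]; simp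
    have e1 : g.1 1 1 = s := by rw [hs]; simp
    rw [pow_two]
    rw [e1, ← e0] at hdet
    exact hdet
  simp only [lamFun]
  rw [stS_diag g h01 h10 hne, indT_zero hodd g₀ hg₀ _ g (upper_not_noEigen g h10) hs]
  ring

include hodd hg₀ in
theorem lam_T (α : MulChar F ℂ)
    (θ : ↥(Subgroup.centralizer ({g₀} : Set (Matrix.SpecialLinearGroup (Fin 2) F))) →* ℂˣ)
    (c : ↥(Subgroup.centralizer ({g₀} : Set (Matrix.SpecialLinearGroup (Fin 2) F))))
    (hc : NoEigen c.1) :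
    lamFun g₀ α θ c.1 = -(((θ c : ℂˣ) : ℂ) + (((θ c)⁻¹ : ℂˣ) : ℂ)) := by
  simp only [lamFun]
  rw [indS_no_eigen _ c.1 hc, ind_T hodd g₀ hg₀ _ c.1 c.2 hc]
  have e : (⟨c.1⁻¹, inv_mem c.2⟩ : ↥(Subgroup.centralizer
      ({g₀} : Set (Matrix.SpecialLinearGroup (Fin 2) F)))) = c⁻¹ := rfl
  rw [e, map_inv]
  ring

end forward

section norm

variable {F : Type u} [Field F] [Fintype F] [DecidableEq F]

theorem exists_alpha (hodd : Fintype.card F % 2 = 1) (ω : ℂ) (hω : ω = 1 ∨ ω = -1) :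
    ∃ α : MulChar F ℂ, α (-1) = ω := by
  rcases hω with rfl | rfl
  · exact ⟨1, MulChar.one_apply (isUnit_one.neg)⟩
  · have h2 : (2 : F) ≠ 0 := two_ne_zero_of_odd hodd
    have hne : (-1 : F) ≠ 1 := by
      intro h
      apply h2
      linear_combination -h
    obtain ⟨α, hα⟩ := MulChar.exists_apply_ne_one_of_hasEnoughRootsOfUnity F ℂ hne
    refine ⟨α, ?_⟩
    have h3 : α (-1) * α (-1) = 1 := by
      rw [← map_mul]
      simp
    rcases mul_self_eq_one_iff.mp h3 with h4 | h4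
    · exact absurd h4 hα
    · exact h4

variable (hodd : Fintype.card F % 2 = 1) (g₀ : Matrix.SpecialLinearGroup (Fin 2) F)
  (hg₀ : NoEigen g₀)

theorem theta_conj
    (θ : ↥(Subgroup.centralizer ({g₀} : Set (Matrix.SpecialLinearGroup (Fin 2) F))) →* ℂˣ)
    (c : ↥(Subgroup.centralizer ({g₀} : Set (Matrix.SpecialLinearGroup (Fin 2) F)))) :
    conj ((θ c : ℂˣ) : ℂ) = (((θ c)⁻¹ : ℂˣ) : ℂ) := by
  have := IsCharacter.inv (IsIrrCharacter.isCharacter (isIrrCharacter_of_monoidHom θ)) c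
  simp only [map_inv] at this
  exact this.symm

include hodd hg₀ in
open Classical in
/-- the character sum over the non-central elements of the torus -/
theorem torus_sum
    [Fintype ↥(Subgroup.centralizer ({g₀} : Set (Matrix.SpecialLinearGroup (Fin 2) F)))]
    (θ : ↥(Subgroup.centralizer ({g₀} : Set (Matrix.SpecialLinearGroup (Fin 2) F))) →* ℂˣ)
    (hθ : ∃ c, θ c ^ 2 ≠ 1) :
    ∑ c : ↥(Subgroup.centralizer ({g₀} : Set (Matrix.SpecialLinearGroup (Fin 2) F))),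
      (if NoEigen c.1 then (((θ c : ℂˣ) : ℂ) + (((θ c)⁻¹ : ℂˣ) : ℂ)) *
        conj (((θ c : ℂˣ) : ℂ) + (((θ c)⁻¹ : ℂˣ) : ℂ)) else 0) =
      2 * ((Fintype.card F : ℂ) - 3) := by
  have hpt : ∀ c : ↥(Subgroup.centralizer ({g₀} : Set (Matrix.SpecialLinearGroup (Fin 2) F))),
      (((θ c : ℂˣ) : ℂ) + (((θ c)⁻¹ : ℂˣ) : ℂ)) *
        conj (((θ c : ℂˣ) : ℂ) + (((θ c)⁻¹ : ℂˣ) : ℂ)) =
      ((θ c : ℂˣ) : ℂ) ^ 2 + 2 + (((θ c)⁻¹ : ℂˣ) : ℂ) ^ 2 := by
    intro c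
    have h1 := theta_conj g₀ θ c
    have h2 : conj (((θ c)⁻¹ : ℂˣ) : ℂ) = ((θ c : ℂˣ) : ℂ) := by
      rw [← h1, Complex.conj_conj]
    have h3 : ((θ c : ℂˣ) : ℂ) * (((θ c)⁻¹ : ℂˣ) : ℂ) = 1 := by
      rw [← Units.val_mul, mul_inv_cancel, Units.val_one]
    rw [map_add, h1, h2]
    linear_combination 2 * h3
  simp only [hpt]
  rw [← sum_T_conv hodd g₀ hg₀ (fun c => ((θ c : ℂˣ) : ℂ) ^ 2 + 2 + (((θ c)⁻¹ : ℂˣ) : ℂ) ^ 2)]
  have hz1 : (⟨zS F, zS_mem g₀⟩ : ↥(Subgroup.centralizer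
      ({g₀} : Set (Matrix.SpecialLinearGroup (Fin 2) F)))) ≠ 1 :=
    fun h => zS_ne_one hodd (congrArg Subtype.val h)
  have hzz : (⟨zS F, zS_mem g₀⟩ : ↥(Subgroup.centralizer
      ({g₀} : Set (Matrix.SpecialLinearGroup (Fin 2) F)))) * ⟨zS F, zS_mem g₀⟩ = 1 :=
    Subtype.ext zS_mul_self
  have hθz : ((θ ⟨zS F, zS_mem g₀⟩ : ℂˣ) : ℂ) ^ 2 = 1 := by
    rw [pow_two, ← Units.val_mul, ← map_mul, hzz, map_one, Units.val_one]
  have hθz' : (((θ ⟨zS F, zS_mem g₀⟩)⁻¹ : ℂˣ) : ℂ) ^ 2 = 1 := by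
    rw [← Units.val_pow_eq_pow_val, inv_pow]
    have : θ ⟨zS F, zS_mem g₀⟩ ^ 2 = 1 := by rw [pow_two, ← map_mul, hzz, map_one]
    rw [this, inv_one, Units.val_one]
  have hdec : ∀ c : ↥(Subgroup.centralizer ({g₀} : Set (Matrix.SpecialLinearGroup (Fin 2) F))),
      (if c = 1 ∨ c = ⟨zS F, zS_mem g₀⟩ then 0
        else ((θ c : ℂˣ) : ℂ) ^ 2 + 2 + (((θ c)⁻¹ : ℂˣ) : ℂ) ^ 2) =
      (((θ c : ℂˣ) : ℂ) ^ 2 + 2 + (((θ c)⁻¹ : ℂˣ) : ℂ) ^ 2) -
        (if c = 1 then 4 else 0) - (if c = ⟨zS F, zS_mem g₀⟩ then 4 else 0) := by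
    intro c
    by_cases h1 : c = 1
    · subst h1
      rw [if_pos (Or.inl rfl), if_pos rfl, if_neg (Ne.symm hz1)]
      simp
      norm_num
    by_cases hz : c = ⟨zS F, zS_mem g₀⟩
    · subst hz
      rw [if_pos (Or.inr rfl), if_neg h1, if_pos rfl, hθz, hθz']
      norm_num
    · rw [if_neg (by tauto), if_neg h1, if_neg hz]
      ring
  rw [Finset.sum_congr rfl (fun c _ => hdec c), Finset.sum_sub_distrib, Finset.sum_sub_distrib,
    Finset.sum_ite_eq', Finset.sum_ite_eq', Finset.sum_add_distrib, Finset.sum_add_distrib]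
  simp only [Finset.mem_univ, if_true]
  -- the two character sums vanish
  obtain ⟨θ2, hθ2⟩ : ∃ θ2 : ↥(Subgroup.centralizer
      ({g₀} : Set (Matrix.SpecialLinearGroup (Fin 2) F))) →* ℂ,
      ∀ c, θ2 c = ((θ c : ℂˣ) : ℂ) ^ 2 :=
    ⟨{ toFun := fun c => ((θ c : ℂˣ) : ℂ) ^ 2
       map_one' := by simp
       map_mul' := fun a b => by simp [mul_pow] }, fun c => rfl⟩
  have hne : θ2 ≠ 1 := by
    intro h
    obtain ⟨c, hc⟩ := hθ
    apply hc
    apply Units.ext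
    have := DFunLike.congr_fun h c
    rw [hθ2] at this
    rw [Units.val_pow_eq_pow_val, this]
    rfl
  have hs1 : ∑ c : ↥(Subgroup.centralizer ({g₀} : Set (Matrix.SpecialLinearGroup (Fin 2) F))),
      ((θ c : ℂˣ) : ℂ) ^ 2 = 0 := by
    have := sum_hom_units_eq_zero θ2 hne
    simp only [hθ2] at this
    exact this
  have hs2 : ∑ c : ↥(Subgroup.centralizer ({g₀} : Set (Matrix.SpecialLinearGroup (Fin 2) F))),
      (((θ c)⁻¹ : ℂˣ) : ℂ) ^ 2 = 0 := by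
    rw [← hs1, ← Equiv.sum_comp (Equiv.inv ↥(Subgroup.centralizer
      ({g₀} : Set (Matrix.SpecialLinearGroup (Fin 2) F)))) (fun c => ((θ c : ℂˣ) : ℂ) ^ 2)]
    apply Finset.sum_congr rfl
    intro c _
    simp only [Equiv.inv_apply, map_inv]
  rw [hs1, hs2, Finset.sum_const, Finset.card_univ, nsmul_eq_mul, ← Nat.card_eq_fintype_card,
    card_T_cast hodd g₀ hg₀]
  ring

include hodd hg₀ in
/-- the virtual character has norm one -/
theorem lam_norm (α : MulChar F ℂ)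
    (θ : ↥(Subgroup.centralizer ({g₀} : Set (Matrix.SpecialLinearGroup (Fin 2) F))) →* ℂˣ)
    (hα : α (-1) = ((θ ⟨zS F, zS_mem g₀⟩ : ℂˣ) : ℂ)) (hθ : ∃ c, θ c ^ 2 ≠ 1) :
    Cfsg.classInner (lamFun g₀ α θ) (lamFun g₀ α θ) = 1 := by
  classical
  have hFB : Fintype ↥(BS F) := Fintype.ofFinite _
  have hFT : Fintype ↥(Subgroup.centralizer ({g₀} : Set (Matrix.SpecialLinearGroup (Fin 2) F))) :=
    Fintype.ofFinite _
  obtain ⟨hq0, hq1⟩ := card_F_cast_ne (F := F)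
  have hq2 : (Fintype.card F : ℂ) + 1 ≠ 0 := Nat.cast_add_one_ne_zero (Fintype.card F)
  have hcl := lam_class g₀ α θ
  have hcl2 : Cfsg.IsClassFunction (Matrix.SpecialLinearGroup (Fin 2) F)
      (fun g => lamFun g₀ α θ g * conj (lamFun g₀ α θ g)) := by
    intro g h
    simp only
    rw [hcl]
  have hωω : ((θ ⟨zS F, zS_mem g₀⟩ : ℂˣ) : ℂ) * conj ((θ ⟨zS F, zS_mem g₀⟩ : ℂˣ) : ℂ) = 1 := by
    rw [theta_conj g₀ θ, ← Units.val_mul, mul_inv_cancel, Units.val_one]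
  have hz := lam_zS_mul g₀ α θ hα
  have hsplit : ∀ (a : Fˣ) (c : F), (a : F) ^ 2 ≠ 1 →
      lamFun g₀ α θ (bS a c : ↥(BS F)) = 0 := by
    intro a c ha
    obtain ⟨h, hh⟩ := conj_diagS a ha c
    rw [hh]
    have := res_isClass hcl (bS a 0) h
    simp only at this
    rw [this]
    exact lam_diag hodd g₀ hg₀ α θ _ (bS_01 a 0) (bS_10 a 0) (by rw [bS_00]; exact ha)
  have hu : ∀ c : F, c ≠ 0 → lamFun g₀ α θ (bS (1 : Fˣ) c : ↥(BS F)) = -1 := by
    intro c hc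
    exact lam_unip hodd g₀ hg₀ α θ _ (bS_10 1 c) (by rw [bS_00]; simp) (by rw [bS_11]; simp)
      (by rw [bS_01]; exact hc)
  have h1 := lam_one hodd g₀ hg₀ α θ
  have hB := sum_B_sq hodd (lamFun g₀ α θ) _ hωω hz hsplit hu h1
  have hK := sum_noEigen_eq hodd hcl2 (fun a c ha => by rw [hsplit a c ha, zero_mul])
  have hN := sum_noEigen hodd g₀ hg₀ hcl hcl
  have hTs : ∑ c : ↥(Subgroup.centralizer ({g₀} : Set (Matrix.SpecialLinearGroup (Fin 2) F))),
      (if NoEigen c.1 then lamFun g₀ α θ c.1 * conj (lamFun g₀ α θ c.1) else 0) =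
      2 * ((Fintype.card F : ℂ) - 3) := by
    rw [← torus_sum hodd g₀ hg₀ θ hθ]
    apply Finset.sum_congr rfl
    intro c _
    by_cases hc : NoEigen c.1
    · rw [if_pos hc, if_pos hc, lam_T hodd g₀ hg₀ α θ c hc, map_neg]
      ring
    · rw [if_neg hc, if_neg hc]
  have hzval : lamFun g₀ α θ (zS F) = ((θ ⟨zS F, zS_mem g₀⟩ : ℂˣ) : ℂ) * lamFun g₀ α θ 1 := by
    have := hz 1
    rwa [mul_one] at this
  rw [hTs, hK, hB, hzval, h1] at hN
  simp only [map_mul, map_sub, Complex.conj_natCast, map_one] at hN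
  rw [Cfsg.classInner, card_G_cast]
  have hsum : ∑ g : Matrix.SpecialLinearGroup (Fin 2) F,
      lamFun g₀ α θ g * conj (lamFun g₀ α θ g) =
      ((Fintype.card F : ℂ) + 1) * ((Fintype.card F : ℂ) - 1) * (Fintype.card F : ℂ) := by
    linear_combination (1 / 2 : ℂ) * hN -
      (Fintype.card F : ℂ) * ((Fintype.card F : ℂ) - 1) ^ 2 * hωω
  rw [hsum]
  field_simp

include hodd hg₀ in
/-- the virtual character is an irreducible character -/
theorem lam_irr (α : MulChar F ℂ)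
    (θ : ↥(Subgroup.centralizer ({g₀} : Set (Matrix.SpecialLinearGroup (Fin 2) F))) →* ℂˣ)
    (hα : α (-1) = ((θ ⟨zS F, zS_mem g₀⟩ : ℂˣ) : ℂ)) (hθ : ∃ c, θ c ^ 2 ≠ 1) :
    Cfsg.IsIrrCharacter (Matrix.SpecialLinearGroup (Fin 2) F) (lamFun g₀ α θ) := by
  apply isIrr_of_int_norm_one (lam_class g₀ α θ) (fun χ hχ => lam_int g₀ α θ hχ)
    (lam_norm hodd g₀ hg₀ α θ hα hθ)
  rw [lam_one hodd g₀ hg₀]
  have hq2 : 1 < Fintype.card F := Fintype.one_lt_card
  have : (1 : ℝ) < (Fintype.card F : ℝ) := by exact_mod_cast hq2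
  simp
  linarith

end norm

end Cfsg.Agent.Lib.Helper14.SL2Cusp4
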