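import Mathlib
import Cfsg.Prelude.Def_Sz
import Cfsg.Prelude.Def_LieExceptional
import Cfsg.Agent.Lib.Helper3.Sz5
import Cfsg.Agent.S0325

set_option autoImplicit false

namespace Cfsg.Agent.Lib.Helper14.SzLink

open Matrix Cfsg.Agent.Lib.Helper3.Sz1 Cfsg.Agent.Lib.Helper3.Sz2 Cfsg.Agent.Lib.Helper3.Sz3
open Cfsg.Agent.Lib.Helper3.Sz4 Cfsg.Agent.Lib.Helper3.Sz5

variable {F : Type*} [Field F]

theorem star4_apply (g : Matrix (Fin 4) (Fin 4) F) (p r : Fin 4) :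
    Cfsg.Lie.star4 g p r =
      g (Cfsg.Lie.pairOf p).1 (Cfsg.Lie.pairOf r).1 * g (Cfsg.Lie.pairOf p).2 (Cfsg.Lie.pairOf r).2 -
      g (Cfsg.Lie.pairOf p).2 (Cfsg.Lie.pairOf r).1 * g (Cfsg.Lie.pairOf p).1 (Cfsg.Lie.pairOf r).2 := rfl

/-- Cauchy–Binet for `2 × 2` minors of `4 × 4` matrices. -/
theorem minor_mul (g h : Matrix (Fin 4) (Fin 4) F) (k l i j : Fin 4) :
    (g * h) k i * (g * h) l j - (g * h) l i * (g * h) k j =
      (g k 0 * g l 1 - g l 0 * g k 1) * (h 0 i * h 1 j - h 1 i * h 0 j) +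
      (g k 0 * g l 2 - g l 0 * g k 2) * (h 0 i * h 2 j - h 2 i * h 0 j) +
      (g k 1 * g l 3 - g l 1 * g k 3) * (h 1 i * h 3 j - h 3 i * h 1 j) +
      (g k 2 * g l 3 - g l 2 * g k 3) * (h 2 i * h 3 j - h 3 i * h 2 j) +
      ((g k 0 * g l 3 - g l 0 * g k 3) * (h 0 i * h 3 j - h 3 i * h 0 j) +
      (g k 1 * g l 2 - g l 1 * g k 2) * (h 1 i * h 2 j - h 2 i * h 1 j)) := by
  simp only [Matrix.mul_apply, Fin.sum_univ_four]
  ring

theorem row_eq (g : Matrix (Fin 4) (Fin 4) F) (k l : Fin 4) :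
    (g * (Jm : Matrix (Fin 4) (Fin 4) F) * gᵀ) k l = g k 0 * g l 3 + g k 1 * g l 2 + g k 2 * g l 1 + g k 3 * g l 0 := by
  simp [Matrix.mul_apply, Fin.sum_univ_four, Jm]
  ring

theorem col_eq (h : Matrix (Fin 4) (Fin 4) F) (i j : Fin 4) :
    (hᵀ * (Jm : Matrix (Fin 4) (Fin 4) F) * h) i j = h 0 i * h 3 j + h 1 i * h 2 j + h 2 i * h 1 j + h 3 i * h 0 j := by
  simp [Matrix.mul_apply, Fin.sum_univ_four, Jm]
  ring

theorem Jm_pair (p : Fin 4) :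
    (Jm : Matrix (Fin 4) (Fin 4) F) (Cfsg.Lie.pairOf p).1 (Cfsg.Lie.pairOf p).2 = 0 := by
  fin_cases p <;> simp [Cfsg.Lie.pairOf, Jm]

theorem formP_transpose {A : Matrix (Fin 4) (Fin 4) F} (hA : FormP A) : A * Jm * Aᵀ = Jm := by
  unfold FormP at hA
  have h1 : (Jm * Aᵀ * Jm) * A = 1 := by
    rw [Matrix.mul_assoc, Matrix.mul_assoc, ← Matrix.mul_assoc Aᵀ, hA, Jm_sq]
  have h2 : A * (Jm * Aᵀ * Jm) = 1 := mul_eq_one_comm.mp h1
  calc A * Jm * Aᵀ = A * (Jm * Aᵀ * Jm) * Jm := by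
        simp only [Matrix.mul_assoc]; rw [Jm_sq, Matrix.mul_one]
    _ = Jm := by rw [h2, Matrix.one_mul]

theorem star4_mul (h2 : (2 : F) = 0) (g h : Matrix (Fin 4) (Fin 4) F) (hg : FormP g) (hh : FormP h) :
    Cfsg.Lie.star4 (g * h) = Cfsg.Lie.star4 g * Cfsg.Lie.star4 h := by
  have hg' := formP_transpose hg
  unfold FormP at hh
  ext p r
  have hr := row_eq g (Cfsg.Lie.pairOf p).1 (Cfsg.Lie.pairOf p).2
  rw [hg', Jm_pair] at hr
  have hc := col_eq h (Cfsg.Lie.pairOf r).1 (Cfsg.Lie.pairOf r).2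
  rw [hh, Jm_pair] at hc
  rw [star4_apply, minor_mul, Matrix.mul_apply, Fin.sum_univ_four]
  simp only [star4_apply]
  have e0 : Cfsg.Lie.pairOf 0 = (0, 1) := rfl
  have e1 : Cfsg.Lie.pairOf 1 = (0, 2) := rfl
  have e2 : Cfsg.Lie.pairOf 2 = (1, 3) := rfl
  have e3 : Cfsg.Lie.pairOf 3 = (2, 3) := rfl
  rw [e0, e1, e2, e3]
  generalize (Cfsg.Lie.pairOf p).1 = k at *
  generalize (Cfsg.Lie.pairOf p).2 = l at *
  generalize (Cfsg.Lie.pairOf r).1 = i at *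
  generalize (Cfsg.Lie.pairOf r).2 = j at *
  linear_combination (-(g k 0 * g l 3 - g l 0 * g k 3)) * hc - (h 1 i * h 2 j - h 2 i * h 1 j) * hr
    - ((g k 0 * g l 3 - g l 0 * g k 3) * (h 3 i * h 0 j) + (g k 0 * g l 3 - g l 0 * g k 3) * (h 2 i * h 1 j)
       + (h 1 i * h 2 j - h 2 i * h 1 j) * (g l 0 * g k 3) + (h 1 i * h 2 j - h 2 i * h 1 j) * (g l 1 * g k 2)
       + (g k 0 * g l 3 - g l 0 * g k 3) * (h 1 i * h 2 j - h 2 i * h 1 j) ) * h2

/-- the membership predicate of the generating set of `Lie.Sz`, on matrices -/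
def InL (s : ℕ) (A : Matrix (Fin 4) (Fin 4) F) : Prop :=
  FormP A ∧ Cfsg.Lie.star4 A = A.map (fun x => x ^ s)

def powHom {s : ℕ} (hs : Hyp F s) : F →+* F where
  toFun x := x ^ s
  map_one' := one_pow s
  map_mul' x y := mul_pow x y s
  map_zero' := pow_s_zero hs
  map_add' := hs.add

theorem inL_mul {s : ℕ} (hs : Hyp F s) {A B : Matrix (Fin 4) (Fin 4) F} (hA : InL s A)
    (hB : InL s B) : InL s (A * B) := by
  refine ⟨formP_mul hA.1 hB.1, ?_⟩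
  rw [star4_mul hs.two A B hA.1 hB.1, hA.2, hB.2]
  exact (Matrix.map_mul (L := A) (M := B) (f := powHom hs)).symm

theorem cone_col {s : ℕ} (hs : Hyp F s) {A : Matrix (Fin 4) (Fin 4) F} (hA : InL s A) :
    ConeP s (A *ᵥ vInf) := by
  obtain ⟨hf, hst⟩ := hA
  have h2 := hs.two
  have hs0 : s ≠ 0 := by have := hs.pos; omega
  have e0 : A 0 0 * A 1 1 - A 1 0 * A 0 1 = A 0 0 ^ s := congrFun (congrFun hst 0) 0
  have e1 : A 0 0 * A 2 1 - A 2 0 * A 0 1 = A 1 0 ^ s := congrFun (congrFun hst 1) 0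
  have e2 : A 1 0 * A 3 1 - A 3 0 * A 1 1 = A 2 0 ^ s := congrFun (congrFun hst 2) 0
  have e3 : A 2 0 * A 3 1 - A 3 0 * A 2 1 = A 3 0 ^ s := congrFun (congrFun hst 3) 0
  have hc : A 0 0 * A 3 1 + A 1 0 * A 2 1 + A 2 0 * A 1 1 + A 3 0 * A 0 1 = 0 := by
    have := col_eq A 0 1
    unfold FormP at hf
    rw [hf] at this
    simpa [Jm] using this.symm
  have hnz : A 0 0 * A 3 3 + A 1 0 * A 2 3 + A 2 0 * A 1 3 + A 3 0 * A 0 3 = 1 := by
    have := col_eq A 0 3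
    unfold FormP at hf
    rw [hf] at this
    simpa [Jm] using this.symm
  unfold ConeP
  simp only [mulVec_vInf]
  by_cases h3 : A 3 0 = 0
  · left
    have h3s : A 3 0 ^ s = 0 := by rw [h3, zero_pow hs0]
    have hv2 : A 2 0 = 0 := by
      have : A 2 0 ^ (s + 1) = 0 := by
        linear_combination (A 1 0) * e3 - (A 2 0) * e2 + (A 1 0) * h3s +
          (A 1 0 * A 2 1 - A 2 0 * A 1 1) * h3
      exact (pow_eq_zero_iff (by omega)).mp this
    have hv2s : A 2 0 ^ s = 0 := by rw [hv2, zero_pow hs0]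
    have hv1 : A 1 0 = 0 := by
      have : A 1 0 ^ (s + 2) = 0 := by
        linear_combination (A 0 0 * A 1 0) * hc - A 0 0 ^ 2 * e2 - A 1 0 ^ 2 * e1 -
          A 0 0 ^ 2 * hv2s - (A 0 0 ^ 2 * A 1 1 + A 0 0 * A 1 0 * A 0 1) * h3 -
          (A 0 0 * A 1 0 * A 1 1 + A 1 0 ^ 2 * A 0 1) * hv2
      exact (pow_eq_zero_iff (by omega)).mp this
    refine ⟨hv1, hv2, h3, ?_⟩
    intro h0
    rw [h0, hv1, hv2, h3] at hnz
    simp at hnz
  · right
    refine ⟨h3, ?_⟩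
    linear_combination (A 2 0 * A 3 0) * hc -
      (A 0 0 * A 3 0 ^ 2 * A 2 1 + A 1 0 * A 2 0 ^ 2 * A 3 1) * h2 -
      (A 0 0 * A 3 0 - A 1 0 * A 2 0) * e3 + A 2 0 ^ 2 * e2 + A 3 0 ^ 2 * e1

theorem inL_T {s : ℕ} (hs : Hyp F s) (a b : F) : InL s (Tm s a b) := by
  refine ⟨form_T hs a b, ?_⟩
  have h2 := hs.two
  have hs0 : s ≠ 0 := by have := hs.pos; omega
  have hadd := hs.add
  have hsq := hs.sq
  ext p r
  fin_cases p <;> fin_cases r <;>
    simp [Cfsg.Lie.star4, Cfsg.Lie.pairOf, Tm, fq, pow_succ, mul_pow, hadd, hsq, zero_pow hs0]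
  · linear_combination (-(a ^ s * a * a + b ^ s)) * h2
  · linear_combination (-(a ^ s * a ^ s * a * a + a ^ s * b ^ s)) * h2
  · linear_combination (-b ^ s) * h2


theorem inL_J {s : ℕ} (hs : Hyp F s) : InL s (Jm : Matrix (Fin 4) (Fin 4) F) := by
  refine ⟨form_J, ?_⟩
  have h2 := hs.two
  have hs0 : s ≠ 0 := by have := hs.pos; omega
  ext p r
  fin_cases p <;> fin_cases r <;>
    simp [Cfsg.Lie.star4, Cfsg.Lie.pairOf, Jm, zero_pow hs0]
  all_goals linear_combination (-1 : F) * h2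


theorem inL_D {s : ℕ} (hs : Hyp F s) (k : Fˣ) : InL s (Dm s k) := by
  refine ⟨form_D s k, ?_⟩
  have h2 := hs.two
  have hs0 : s ≠ 0 := by have := hs.pos; omega
  have hsq := hs.sq
  ext p r
  fin_cases p <;> fin_cases r <;>
    simp [Cfsg.Lie.star4, Cfsg.Lie.pairOf, Dm, pow_succ, mul_pow, hsq, zero_pow hs0]
  · ring
  · field_simp
  · ring


theorem altForm_eq (u v : Fin 4 → F) :
    Cfsg.Lie.altForm4 u v = u ⬝ᵥ ((Jm : Matrix (Fin 4) (Fin 4) F) *ᵥ v) := by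
  simp [Cfsg.Lie.altForm4, dotProduct, Fin.sum_univ_four, Matrix.mulVec, Jm]

theorem mem_sp4_iff (g : Matrix.GeneralLinearGroup (Fin 4) F) :
    g ∈ Cfsg.Lie.Sp4 F ↔ FormP (g : Matrix (Fin 4) (Fin 4) F) := by
  have key : ∀ u v : Fin 4 → F,
      Cfsg.Lie.altForm4 ((g : Matrix (Fin 4) (Fin 4) F) *ᵥ u) ((g : Matrix (Fin 4) (Fin 4) F) *ᵥ v) =
        u ⬝ᵥ (((g : Matrix (Fin 4) (Fin 4) F)ᵀ * Jm * (g : Matrix (Fin 4) (Fin 4) F)) *ᵥ v) := by
    intro u v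
    rw [altForm_eq, ← Matrix.vecMul_transpose, ← Matrix.dotProduct_mulVec, Matrix.mulVec_mulVec,
      Matrix.mulVec_mulVec, Matrix.mul_assoc]
  constructor
  · intro h
    have h' : ∀ u v : Fin 4 → F,
        Cfsg.Lie.altForm4 ((g : Matrix (Fin 4) (Fin 4) F) *ᵥ u) ((g : Matrix (Fin 4) (Fin 4) F) *ᵥ v) =
          Cfsg.Lie.altForm4 u v := h
    unfold FormP
    ext i j
    have h1 := h' (Pi.single i 1) (Pi.single j 1)
    rw [key, altForm_eq, single_one_dotProduct, single_one_dotProduct, Matrix.mulVec_single_one,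
      Matrix.mulVec_single_one] at h1
    exact h1
  · intro h u v
    show Cfsg.Lie.altForm4 ((g : Matrix (Fin 4) (Fin 4) F) *ᵥ u) ((g : Matrix (Fin 4) (Fin 4) F) *ᵥ v) =
          Cfsg.Lie.altForm4 u v
    unfold FormP at h
    rw [key, h, altForm_eq]

theorem det_of_formP {s : ℕ} (hs : Hyp F s) {A : Matrix (Fin 4) (Fin 4) F} (hA : FormP A) :
    A.det = 1 := by
  unfold FormP at hA
  have h := congrArg Matrix.det hA
  rw [Matrix.det_mul, Matrix.det_mul, Matrix.det_transpose, det_Jm hs, mul_one] at h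
  exact sq_eq_one_char2 hs.two (by rw [sq]; exact h)

theorem vP_eq {s : ℕ} (hs : Hyp F s) (x y : F) :
    vP s x y = (Tm s x y * Jm) *ᵥ (vInf : Fin 4 → F) := by
  rw [← Matrix.mulVec_mulVec, Jm_vInf hs]
  have h := T_vP hs x y 0 0
  rw [zero_add, zero_add, mul_zero, add_zero] at h
  exact h.symm

section fin

variable [Fintype F] {m : ℕ}

theorem inL_of_mem (hm : 1 ≤ m) (hF : Fintype.card F = 2 ^ (2 * m + 1))
    {g : Matrix.SpecialLinearGroup (Fin 4) F} (hg : g ∈ Cfsg.Sz F m) : InL (2 ^ (m + 1)) g.1 := by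
  have hs := hyp_of_card hm hF
  have key : ∀ g : Matrix.SpecialLinearGroup (Fin 4) F, g ∈ Cfsg.Sz F m →
      g • Cfsg.suzukiPointInfinity F = Cfsg.suzukiPointInfinity F → InL (2 ^ (m + 1)) g.1 := by
    intro g hg h1
    obtain ⟨a, b, k, rfl⟩ := stab_one hm hF hg h1
    exact inL_mul hs (inL_T hs a b) (inL_D hs k)
  rcases ovoid_cases (smul_mem_ovoid hg (pInf_mem m)) with h | ⟨x, y, h⟩
  · exact key g hg h
  · have h4 : ((T (2 ^ (m + 1)) x y * W hs)⁻¹ * g) • Cfsg.suzukiPointInfinity F =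
        Cfsg.suzukiPointInfinity F := by
      rw [mul_smul, h, inv_smul_eq_iff, mul_smul, W_pInf hs, T_pZero hs]
    have hmem : (T (2 ^ (m + 1)) x y * W hs)⁻¹ * g ∈ Cfsg.Sz F m :=
      (Cfsg.Sz F m).mul_mem ((Cfsg.Sz F m).inv_mem
        ((Cfsg.Sz F m).mul_mem (T_mem hm hF x y) (W_mem hm hF))) hg
    have h5 := key _ hmem h4
    have h6 : g = (T (2 ^ (m + 1)) x y * W hs) * ((T (2 ^ (m + 1)) x y * W hs)⁻¹ * g) := by group
    rw [h6]
    exact inL_mul hs (inL_mul hs (inL_T hs x y) (inL_J hs)) h5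

theorem mem_of_inL (hm : 1 ≤ m) (hF : Fintype.card F = 2 ^ (2 * m + 1))
    (g : Matrix.SpecialLinearGroup (Fin 4) F) (hg : InL (2 ^ (m + 1)) g.1) : g ∈ Cfsg.Sz F m := by
  have hs := hyp_of_card hm hF
  rw [mem_Sz_iff']
  refine ⟨cone_col hs hg, fun x y => ?_⟩
  rw [vP_eq hs, Matrix.mulVec_mulVec]
  exact cone_col hs (inL_mul hs hg (inL_mul hs (inL_T hs x y) (inL_J hs)))

theorem lie_eq (hm : 1 ≤ m) (hF : Fintype.card F = 2 ^ (2 * m + 1)) :
    (Cfsg.Sz F m).map Matrix.SpecialLinearGroup.toGL = Cfsg.Lie.Sz F (2 ^ (m + 1)) := by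
  have hs := hyp_of_card hm hF
  apply le_antisymm
  · rintro _ ⟨g, hg, rfl⟩
    have h := inL_of_mem hm hF hg
    apply Subgroup.subset_closure
    exact ⟨(mem_sp4_iff _).mpr h.1, h.2⟩
  · unfold Cfsg.Lie.Sz
    rw [Subgroup.closure_le]
    rintro g ⟨hg1, hg2⟩
    have hf := (mem_sp4_iff g).mp hg1
    have hin : InL (2 ^ (m + 1)) (g : Matrix (Fin 4) (Fin 4) F) := ⟨hf, hg2⟩
    refine ⟨⟨(g : Matrix (Fin 4) (Fin 4) F), det_of_formP hs hf⟩, mem_of_inL hm hF _ hin, ?_⟩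
    apply Units.ext
    rfl

/-- The two realisations of the Suzuki group are isomorphic. -/
noncomputable def szEquiv (hm : 1 ≤ m) (hF : Fintype.card F = 2 ^ (2 * m + 1)) :
    Cfsg.Sz F m ≃* Cfsg.Lie.Sz F (2 ^ (m + 1)) :=
  ((Cfsg.Sz F m).equivMapOfInjective Matrix.SpecialLinearGroup.toGL
    Matrix.SpecialLinearGroup.toGL_injective).trans (MulEquiv.subgroupCongr (lie_eq hm hF))

theorem szEquiv_coe (hm : 1 ≤ m) (hF : Fintype.card F = 2 ^ (2 * m + 1)) (g : Cfsg.Sz F m) :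
    ((szEquiv hm hF g : Cfsg.Lie.Sz F (2 ^ (m + 1))) : Matrix.GeneralLinearGroup (Fin 4) F) =
      Matrix.SpecialLinearGroup.toGL (g : Matrix.SpecialLinearGroup (Fin 4) F) := rfl

theorem isSimpleGroup_lie (hm : 1 ≤ m) (hF : Fintype.card F = 2 ^ (2 * m + 1)) :
    IsSimpleGroup (Cfsg.Lie.Sz F (2 ^ (m + 1))) := by
  have := Cfsg.Agent.S0325.result hm hF
  exact (szEquiv hm hF).symm.isSimpleGroup

end fin

end Cfsg.Agent.Lib.Helper14.SzLink
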