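import Mathlib
import Cfsg.Prelude.Def_LieExceptional
import Cfsg.Agent.Lib.Helper3.Sz10

set_option autoImplicit false

namespace Cfsg.Agent.Lib.Helper14.SzTori

open Matrix MulAction Polynomial
open Cfsg.Agent.Lib.Helper3.Sz1 Cfsg.Agent.Lib.Helper3.Sz3 Cfsg.Agent.Lib.Helper3.Sz5
open Cfsg.Agent.Lib.Helper3.Sz7 Cfsg.Agent.Lib.Helper3.Sz8 Cfsg.Agent.Lib.Helper3.Sz9

section grp

variable {G : Type*} [Group G]

theorem mem_cent_iff {g y : G} : y ∈ Subgroup.centralizer ({g} : Set G) ↔ y * g = g * y := by
  rw [Subgroup.mem_centralizer_iff]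
  constructor
  · intro h
    exact (h g rfl).symm
  · intro h z hz
    rw [Set.mem_singleton_iff] at hz
    subst hz
    exact h.symm

theorem mem_cent_conj {g x y : G} :
    y ∈ Subgroup.centralizer ({x * g * x⁻¹} : Set G) ↔
      x⁻¹ * y * x ∈ Subgroup.centralizer ({g} : Set G) := by
  rw [mem_cent_iff, mem_cent_iff]
  constructor
  · intro h
    calc x⁻¹ * y * x * g = x⁻¹ * (y * (x * g * x⁻¹)) * x := by group
      _ = x⁻¹ * ((x * g * x⁻¹) * y) * x := by rw [h]
      _ = g * (x⁻¹ * y * x) := by group
  · intro h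
    calc y * (x * g * x⁻¹) = x * ((x⁻¹ * y * x) * g) * x⁻¹ := by group
      _ = x * (g * (x⁻¹ * y * x)) * x⁻¹ := by rw [h]
      _ = x * g * x⁻¹ * y := by group

theorem self_mem_cent (g : G) : g ∈ Subgroup.centralizer ({g} : Set G) :=
  mem_cent_iff.mpr rfl

/-- index bound from a map with few values that separates cosets. -/
theorem index_le_of_fiber {N : Type*} [Group N] (A' : Subgroup N) {β : Type*} (f : N → β)
    (s : Finset β) (hf : ∀ n, f n ∈ s) (hinj : ∀ n n', f n = f n' → n'⁻¹ * n ∈ A') :
    A'.index ≤ s.card := by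
  classical
  rw [Subgroup.index_eq_card]
  let φ : N ⧸ A' → s := fun q => ⟨f q.out, hf _⟩
  have hφ : Function.Injective φ := by
    intro q q' h
    have h1 : f q.out = f q'.out := congrArg Subtype.val h
    have h2 := hinj _ _ h1
    have h3 : ((q'.out : N) : N ⧸ A') = ((q.out : N) : N ⧸ A') := QuotientGroup.eq.mpr h2
    rw [QuotientGroup.out_eq', QuotientGroup.out_eq'] at h3
    exact h3.symm
  have h4 := Nat.card_le_card_of_injective φ hφ
  have h5 : Nat.card s = s.card := Nat.card_eq_fintype_card.trans (Fintype.card_coe s)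
  rw [h5] at h4
  exact h4

end grp

section alg

variable {R A : Type*} [CommRing R] [Ring A] [Algebra R A]

/-- conjugation as an algebra homomorphism. -/
def conjAlg (U V : A) (hUV : U * V = 1) (hVU : V * U = 1) : A →ₐ[R] A where
  toFun X := U * X * V
  map_one' := by rw [mul_one, hUV]
  map_mul' X Y := by
    calc U * (X * Y) * V = U * X * (1 * (Y * V)) := by simp only [mul_assoc, one_mul]
      _ = U * X * ((V * U) * (Y * V)) := by rw [hVU]
      _ = U * X * V * (U * Y * V) := by simp only [mul_assoc]
  map_zero' := by simp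
  map_add' X Y := by simp [mul_add, add_mul]
  commutes' c := by
    rw [← Algebra.commutes, mul_assoc, hUV, mul_one]

theorem aeval_conj (U V M : A) (hUV : U * V = 1) (hVU : V * U = 1) (p : R[X]) :
    aeval (U * M * V) p = U * aeval M p * V :=
  Polynomial.aeval_algHom_apply (conjAlg (R := R) U V hUV hVU) M p

end alg

section roots

universe u

variable {F : Type u} [Field F] [Fintype F]

/-- the matrices commuting with `M` and killed by its (irreducible, degree 4) minimal polynomial
are at most four. -/
theorem conj_roots_bound (M : Matrix (Fin 4) (Fin 4) F) (hirr : Irreducible (minpoly F M))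
    (hdeg : (minpoly F M).natDegree = 4) :
    ∃ s : Finset (Matrix (Fin 4) (Fin 4) F), s.card ≤ 4 ∧
      ∀ B, B * M = M * B → aeval B (minpoly F M) = 0 → B ∈ s := by
  classical
  obtain ⟨K, hK, φ, hφ, hsurj⟩ := centralizer_field M hirr hdeg
  have hsc : ∀ c : F, ∃ k : K, φ k = algebraMap F (Matrix (Fin 4) (Fin 4) F) c := by
    intro c
    exact hsurj _ (Algebra.commutes c M)
  choose κ hκ using hsc
  let P : K[X] := ∑ i ∈ Finset.range 5, C (κ ((minpoly F M).coeff i)) * X ^ i
  have hint : IsIntegral F M := Algebra.IsIntegral.isIntegral M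
  have hmonic := minpoly.monic hint
  have hc4 : (minpoly F M).coeff 4 = 1 := by
    have := hmonic.coeff_natDegree
    rw [hdeg] at this
    exact this
  have hPc : P.coeff 4 = κ 1 := by
    show (∑ i ∈ Finset.range 5, C (κ ((minpoly F M).coeff i)) * X ^ i).coeff 4 = κ 1
    rw [Polynomial.finsetSum_coeff]
    simp only [Polynomial.coeff_C_mul_X_pow]
    rw [Finset.sum_eq_single 4]
    · rw [if_pos rfl, hc4]
    · intro b _ hb
      rw [if_neg (Ne.symm hb)]
    · intro h
      exact absurd (Finset.mem_range.mpr (by norm_num)) h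
  have hκ1 : κ 1 ≠ 0 := by
    intro h
    have h1 := hκ 1
    rw [h, map_zero, map_one] at h1
    exact zero_ne_one h1
  have hP0 : P ≠ 0 := by
    intro h
    rw [h, Polynomial.coeff_zero] at hPc
    exact hκ1 hPc.symm
  have hPdeg : P.natDegree ≤ 4 := by
    apply Polynomial.natDegree_sum_le_of_forall_le
    intro i hi
    have h1 := Polynomial.natDegree_C_mul_X_pow_le (κ ((minpoly F M).coeff i)) i
    have h2 := Finset.mem_range.mp hi
    omega
  refine ⟨P.roots.toFinset.image φ, ?_, ?_⟩
  · calc (P.roots.toFinset.image φ).card ≤ P.roots.toFinset.card := Finset.card_image_le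
      _ ≤ P.roots.card := Multiset.toFinset_card_le _
      _ ≤ P.natDegree := Polynomial.card_roots' P
      _ ≤ 4 := hPdeg
  · intro B hB hB0
    obtain ⟨k, hk⟩ := hsurj B hB
    rw [Finset.mem_image]
    refine ⟨k, ?_, hk⟩
    rw [Multiset.mem_toFinset, Polynomial.mem_roots hP0, Polynomial.IsRoot.def]
    apply hφ
    rw [map_zero]
    have h1 : P.eval k = ∑ i ∈ Finset.range 5, κ ((minpoly F M).coeff i) * k ^ i := by
      show (∑ i ∈ Finset.range 5, C (κ ((minpoly F M).coeff i)) * X ^ i).eval k = _
      rw [Polynomial.eval_finsetSum]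
      apply Finset.sum_congr rfl
      intro i _
      rw [Polynomial.eval_mul, Polynomial.eval_C, Polynomial.eval_pow, Polynomial.eval_X]
    rw [h1, map_sum, ← hB0, Polynomial.aeval_eq_sum_range' (n := 5) (by rw [hdeg]; norm_num)]
    apply Finset.sum_congr rfl
    intro i _
    rw [map_mul, map_pow, hκ, hk, Algebra.smul_def]

end roots

end Cfsg.Agent.Lib.Helper14.SzTori
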