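import Mathlib
import Cfsg.Prelude.Def_LieExceptional
import Cfsg.Agent.Lib.Helper3.Sz10
import Cfsg.Agent.Lib.Helper14.SzTori1

set_option autoImplicit false
set_option linter.unusedSectionVars false

namespace Cfsg.Agent.Lib.Helper14.SzTori

open Matrix MulAction Polynomial
open Cfsg.Agent.Lib.Helper3.Sz1 Cfsg.Agent.Lib.Helper3.Sz3 Cfsg.Agent.Lib.Helper3.Sz5
open Cfsg.Agent.Lib.Helper3.Sz7 Cfsg.Agent.Lib.Helper3.Sz8 Cfsg.Agent.Lib.Helper3.Sz9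

variable {F : Type*} [Field F] [Fintype F] {m : ℕ}

/-- fixed-point-free elements of the Suzuki group (on the ovoid). -/
def Fpf (g : ↥(Cfsg.Sz F m)) : Prop := ∀ p ∈ Cfsg.suzukiOvoid F m, g.1 • p ≠ p

theorem fpf_ne_one {g : ↥(Cfsg.Sz F m)} (h : Fpf g) : g ≠ 1 := by
  rintro rfl
  exact h _ (pInf_mem m) (one_smul _ _)

theorem fpf_conj {g : ↥(Cfsg.Sz F m)} (hg : Fpf g) (x : ↥(Cfsg.Sz F m)) :
    Fpf (x * g * x⁻¹) := by
  intro p hp h
  apply hg (x.1⁻¹ • p) (smul_mem_ovoid (inv_mem x.2) hp)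
  have h' : (x.1 * g.1 * x.1⁻¹) • p = p := h
  rw [mul_smul, mul_smul] at h'
  exact (smul_eq_iff_eq_inv_smul _).mp h'

theorem fpf_of_mem_cent (hm : 1 ≤ m) (hF : Fintype.card F = 2 ^ (2 * m + 1))
    {g a : ↥(Cfsg.Sz F m)} (hg : Fpf g)
    (ha : a ∈ Subgroup.centralizer ({g} : Set ↥(Cfsg.Sz F m))) (ha1 : a ≠ 1) : Fpf a := by
  have hs := hyp_of_card hm hF
  have hc : a.1 * g.1 = g.1 * a.1 := congrArg Subtype.val (mem_cent_iff.mp ha)
  have ha1' : a.1 ≠ 1 := fun h => ha1 (Subtype.ext h)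
  have h9 : ∀ x : Matrix.SpecialLinearGroup (Fin 4) F, g.1 = x⁻¹ * (x * g.1 * x⁻¹) * x := by
    intro x
    group
  have hcc : ∀ x : Matrix.SpecialLinearGroup (Fin 4) F,
      x * g.1 * x⁻¹ * (x * a.1 * x⁻¹) = x * a.1 * x⁻¹ * (x * g.1 * x⁻¹) := by
    intro x
    calc x * g.1 * x⁻¹ * (x * a.1 * x⁻¹) = x * (g.1 * a.1) * x⁻¹ := by group
      _ = x * (a.1 * g.1) * x⁻¹ := by rw [hc]
      _ = x * a.1 * x⁻¹ * (x * g.1 * x⁻¹) := by group
  rcases trichotomy hm hF a.2 ha1' with ⟨x, hx, k, hk1, hk⟩ | ⟨x, hx, c, d, hcd, hk⟩ | h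
  · exfalso
    have hg' : x * g.1 * x⁻¹ ∈ Cfsg.Sz F m := mul_mem (mul_mem hx g.2) (inv_mem hx)
    have hc' : (x * g.1 * x⁻¹) * D (2 ^ (m + 1)) k = D (2 ^ (m + 1)) k * (x * g.1 * x⁻¹) := by
      rw [← hk]
      exact hcc x
    obtain ⟨k', hk'⟩ := cent_D hm hF hk1 hg' hc'
    apply hg (x⁻¹ • Cfsg.suzukiPointInfinity F) (smul_mem_ovoid (inv_mem hx) (pInf_mem m))
    rw [h9 x, mul_smul, mul_smul, smul_inv_smul, hk', D_pInf]
  · exfalso
    have hg' : x * g.1 * x⁻¹ ∈ Cfsg.Sz F m := mul_mem (mul_mem hx g.2) (inv_mem hx)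
    have hc' : (x * g.1 * x⁻¹) * T (2 ^ (m + 1)) c d = T (2 ^ (m + 1)) c d * (x * g.1 * x⁻¹) := by
      rw [← hk]
      exact hcc x
    obtain ⟨c', d', hk'⟩ := cent_T hm hF hcd hg' hc'
    apply hg (x⁻¹ • Cfsg.suzukiPointInfinity F) (smul_mem_ovoid (inv_mem hx) (pInf_mem m))
    rw [h9 x, mul_smul, mul_smul, smul_inv_smul, hk', T_pInf]
  · exact h

theorem cent_eq_of_mem (hm : 1 ≤ m) (hF : Fintype.card F = 2 ^ (2 * m + 1))
    {g a : ↥(Cfsg.Sz F m)} (hg : Fpf g)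
    (ha : a ∈ Subgroup.centralizer ({g} : Set ↥(Cfsg.Sz F m))) (ha1 : a ≠ 1) :
    Subgroup.centralizer ({a} : Set ↥(Cfsg.Sz F m)) =
      Subgroup.centralizer ({g} : Set ↥(Cfsg.Sz F m)) := by
  have hafpf := fpf_of_mem_cent hm hF hg ha ha1
  have hg1 := fpf_ne_one hg
  have hag : a.1 * g.1 = g.1 * a.1 := congrArg Subtype.val (mem_cent_iff.mp ha)
  ext h
  rw [mem_cent_iff, mem_cent_iff]
  constructor
  · intro hh
    have e1 : h.1 * a.1 = a.1 * h.1 := congrArg Subtype.val hh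
    exact Subtype.ext (fpf_comm hm hF a.2 (fun h' => ha1 (Subtype.ext h')) hafpf e1 hag.symm)
  · intro hh
    have e1 : h.1 * g.1 = g.1 * h.1 := congrArg Subtype.val hh
    exact Subtype.ext (fpf_comm hm hF g.2 (fun h' => hg1 (Subtype.ext h')) hg e1 hag)

theorem cent_comm (hm : 1 ≤ m) (hF : Fintype.card F = 2 ^ (2 * m + 1))
    {g x y : ↥(Cfsg.Sz F m)} (hg : Fpf g)
    (hx : x ∈ Subgroup.centralizer ({g} : Set ↥(Cfsg.Sz F m)))
    (hy : y ∈ Subgroup.centralizer ({g} : Set ↥(Cfsg.Sz F m))) : x * y = y * x := by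
  have e1 : x.1 * g.1 = g.1 * x.1 := congrArg Subtype.val (mem_cent_iff.mp hx)
  have e2 : y.1 * g.1 = g.1 * y.1 := congrArg Subtype.val (mem_cent_iff.mp hy)
  exact Subtype.ext (fpf_comm hm hF g.2 (fun h' => fpf_ne_one hg (Subtype.ext h')) hg e1 e2)

theorem cent_cyclic (hm : 1 ≤ m) (hF : Fintype.card F = 2 ^ (2 * m + 1))
    {g : ↥(Cfsg.Sz F m)} (hg : Fpf g) :
    IsCyclic ↥(Subgroup.centralizer ({g} : Set ↥(Cfsg.Sz F m))) := by
  have hs := hyp_of_card hm hF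
  have hfin : Finite (Matrix.SpecialLinearGroup (Fin 4) F) := finite_SL
  let ι : ↥(Subgroup.centralizer ({g} : Set ↥(Cfsg.Sz F m))) →* Matrix (Fin 4) (Fin 4) F :=
    { toFun := fun y => y.1.1.1
      map_one' := rfl
      map_mul' := fun _ _ => rfl }
  exact cyclic_of_commute (q := 2 ^ (2 * m + 1)) hF hs.two (cast_q hm hF) g.1.1
    (fpf_mat hm hF g.2 hg) (fun h1 => fpf_ne_one hg (Subtype.ext (Subtype.ext h1))) ι
    (fun y y' h => Subtype.ext (Subtype.ext (Subtype.ext h)))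
    (fun y => congrArg (fun w : Matrix.SpecialLinearGroup (Fin 4) F => w.1)
      (congrArg Subtype.val (mem_cent_iff.mp y.2)))

theorem cent_card_dvd (hm : 1 ≤ m) (hF : Fintype.card F = 2 ^ (2 * m + 1))
    {g : ↥(Cfsg.Sz F m)} (hg : Fpf g) :
    Nat.card ↥(Subgroup.centralizer ({g} : Set ↥(Cfsg.Sz F m))) ∣ (2 ^ (2 * m + 1)) ^ 2 + 1 := by
  have hfin : Finite (Matrix.SpecialLinearGroup (Fin 4) F) := finite_SL
  have hfree : ∀ a : ↥(Subgroup.centralizer ({g} : Set ↥(Cfsg.Sz F m))), a ≠ 1 →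
      ∀ x : ↥(Cfsg.suzukiOvoid F m), a • x ≠ x := by
    rintro ⟨a, ha⟩ ha1 x hx
    have h1 : a ≠ 1 := fun h => ha1 (Subtype.ext h)
    exact fpf_of_mem_cent hm hF hg ha h1 x.1 x.2 (congrArg Subtype.val hx)
  have hdvd := card_dvd_of_free hfree
  rw [Nat.card_coe_set_eq, card_ovoid hF] at hdvd
  exact hdvd

/-- the TI property of the centralisers of fixed-point-free elements. -/
theorem ti (hm : 1 ≤ m) (hF : Fintype.card F = 2 ^ (2 * m + 1))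
    {g a x : ↥(Cfsg.Sz F m)} (hg : Fpf g)
    (ha : a ∈ Subgroup.centralizer ({g} : Set ↥(Cfsg.Sz F m))) (ha1 : a ≠ 1)
    (hx : x * a * x⁻¹ ∈ Subgroup.centralizer ({g} : Set ↥(Cfsg.Sz F m))) :
    x ∈ Subgroup.normalizer
      ((Subgroup.centralizer ({g} : Set ↥(Cfsg.Sz F m)) : Subgroup ↥(Cfsg.Sz F m)) :
        Set ↥(Cfsg.Sz F m)) := by
  have h1 := cent_eq_of_mem hm hF hg ha ha1
  have hne : x * a * x⁻¹ ≠ 1 := by
    intro h
    exact ha1 (conj_eq_one_iff.mp h)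
  have h2 := cent_eq_of_mem hm hF hg hx hne
  rw [Subgroup.mem_normalizer_iff]
  intro y
  constructor
  · intro hy
    rw [← h2, mem_cent_conj, h1]
    have e : x⁻¹ * (x * y * x⁻¹) * x = y := by group
    rw [e]
    exact hy
  · intro hy
    rw [← h2, mem_cent_conj, h1] at hy
    have e : x⁻¹ * (x * y * x⁻¹) * x = y := by group
    rw [e] at hy
    exact hy

end Cfsg.Agent.Lib.Helper14.SzTori
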