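import Mathlib
import Cfsg.Prelude.Def_LieExceptional
import Cfsg.Agent.Lib.Helper3.Sz10
import Cfsg.Agent.Lib.Helper14.SzTori2

set_option autoImplicit false
set_option linter.unusedSectionVars false

namespace Cfsg.Agent.Lib.Helper14.SzTori

open Matrix MulAction Polynomial
open Cfsg.Agent.Lib.Helper3.Sz1 Cfsg.Agent.Lib.Helper3.Sz3 Cfsg.Agent.Lib.Helper3.Sz5
open Cfsg.Agent.Lib.Helper3.Sz7 Cfsg.Agent.Lib.Helper3.Sz8 Cfsg.Agent.Lib.Helper3.Sz9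

variable {F : Type*} [Field F] [Fintype F] {m : ℕ}

theorem q_ge (hm : 1 ≤ m) : 8 ≤ 2 ^ (2 * m + 1) := by
  calc 8 = 2 ^ 3 := by norm_num
    _ ≤ 2 ^ (2 * m + 1) := Nat.pow_le_pow_right (by norm_num) (by omega)

theorem q_mod_three (m : ℕ) : 2 ^ (2 * m + 1) % 3 = 2 := by
  rw [pow_succ, pow_mul, Nat.mul_mod, Nat.pow_mod]
  norm_num

theorem three_not_dvd (hm : 1 ≤ m) (hF : Fintype.card F = 2 ^ (2 * m + 1)) :
    ¬ 3 ∣ Nat.card ↥(Cfsg.Sz F m) := by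
  rw [card_Sz hm hF]
  have h := q_mod_three m
  have hq8 := q_ge hm
  intro hd
  have hq2 : (2 ^ (2 * m + 1)) ^ 2 % 3 = 1 := by rw [Nat.pow_mod, h]
  generalize 2 ^ (2 * m + 1) = q at *
  generalize q ^ 2 = Q at *
  rcases (Nat.Prime.dvd_mul Nat.prime_three).mp hd with h1 | h1
  · rcases (Nat.Prime.dvd_mul Nat.prime_three).mp h1 with h2 | h2
    · omega
    · omega
  · omega

theorem prime_facts {p : ℕ} (hp : p.Prime) (hdvd : p ∣ (2 ^ (2 * m + 1)) ^ 2 + 1) :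
    p ≠ 2 ∧ ¬ p ∣ 2 ^ (2 * m + 1) - 1 := by
  have hp2 : p ≠ 2 := by
    rintro rfl
    have h1 : 2 ∣ (2 ^ (2 * m + 1)) ^ 2 :=
      dvd_pow (dvd_pow_self 2 (by omega)) (by norm_num)
    have h2 := (Nat.dvd_add_right h1).mp hdvd
    omega
  refine ⟨hp2, ?_⟩
  intro h
  have hq1 : 1 ≤ 2 ^ (2 * m + 1) := Nat.one_le_two_pow
  have e : (2 ^ (2 * m + 1)) ^ 2 + 1 = (2 ^ (2 * m + 1) - 1) * (2 ^ (2 * m + 1) + 1) + 2 := by
    obtain ⟨k, hk⟩ : ∃ k, 2 ^ (2 * m + 1) = k + 1 := ⟨2 ^ (2 * m + 1) - 1, by omega⟩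
    rw [hk]
    simp only [Nat.add_sub_cancel]
    ring
  rw [e] at hdvd
  have h2 := (Nat.dvd_add_right (Dvd.dvd.mul_right h _)).mp hdvd
  have h3 := Nat.le_of_dvd (by norm_num) h2
  have h4 := hp.two_le
  omega

theorem D_pow (s : ℕ) (k : Fˣ) (n : ℕ) : D s k ^ n = D s (k ^ n) := by
  induction n with
  | zero => rw [pow_zero, pow_zero, D_one]
  | succ n ih => rw [pow_succ, pow_succ, D_mul, ih]

/-- elements of order prime to `2(q-1)` are fixed-point-free. -/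
theorem sylow_fpf (hm : 1 ≤ m) (hF : Fintype.card F = 2 ^ (2 * m + 1)) {p : ℕ}
    [hp : Fact p.Prime] (hdvd : p ∣ (2 ^ (2 * m + 1)) ^ 2 + 1) (Q : Sylow p ↥(Cfsg.Sz F m))
    {x : ↥(Cfsg.Sz F m)} (hx : x ∈ (Q : Subgroup ↥(Cfsg.Sz F m))) (hx1 : x ≠ 1) : Fpf x := by
  obtain ⟨hp2, hpq⟩ := prime_facts hp.out hdvd
  obtain ⟨n, hn⟩ := Q.isPGroup' ⟨x, hx⟩
  have hxp : x.1 ^ (p ^ n) = 1 :=
    congrArg (fun w : ↥(Q : Subgroup ↥(Cfsg.Sz F m)) => w.1.1) hn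
  have hx1' : x.1 ≠ 1 := fun h => hx1 (Subtype.ext h)
  rcases trichotomy hm hF x.2 hx1' with ⟨y, hy, k, hk1, hk⟩ | ⟨y, hy, a, b, hab, hk⟩ | hfpf
  · exfalso
    have hk' : k ^ (2 ^ (2 * m + 1) - 1) = 1 := by
      have h1 : Nat.card Fˣ = 2 ^ (2 * m + 1) - 1 := by
        rw [Nat.card_units, Nat.card_eq_fintype_card, hF]
      rw [← h1]
      exact pow_card_eq_one'
    have h5 : (y * x.1 * y⁻¹) ^ (2 ^ (2 * m + 1) - 1) = 1 := by
      rw [hk, D_pow, hk', D_one]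
    rw [conj_pow, conj_eq_one_iff] at h5
    have hcop : Nat.Coprime (2 ^ (2 * m + 1) - 1) (p ^ n) :=
      Nat.Coprime.pow_right _ ((Nat.Prime.coprime_iff_not_dvd hp.out).mpr hpq).symm
    have h6 := pow_gcd_eq_one.mpr ⟨h5, hxp⟩
    rw [hcop, pow_one] at h6
    exact hx1' h6
  · exfalso
    have h5 : (y * x.1 * y⁻¹) ^ 4 = 1 := by rw [hk, T_pow4 hm hF]
    rw [conj_pow, conj_eq_one_iff] at h5
    have hcop : Nat.Coprime 4 (p ^ n) := by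
      apply Nat.Coprime.pow_right
      show Nat.Coprime (2 ^ 2) p
      exact Nat.Coprime.pow_left 2 ((Nat.coprime_primes Nat.prime_two hp.out).mpr (Ne.symm hp2))
    have h6 := pow_gcd_eq_one.mpr ⟨h5, hxp⟩
    rw [hcop, pow_one] at h6
    exact hx1' h6
  · exact hfpf

theorem sylow_le_cent (hm : 1 ≤ m) (hF : Fintype.card F = 2 ^ (2 * m + 1)) {p : ℕ}
    [hp : Fact p.Prime] (hp2 : p ≠ 2) (Q : Sylow p ↥(Cfsg.Sz F m))
    {x : ↥(Cfsg.Sz F m)} (hx : x ∈ (Q : Subgroup ↥(Cfsg.Sz F m))) :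
    (Q : Subgroup ↥(Cfsg.Sz F m)) ≤ Subgroup.centralizer ({x} : Set ↥(Cfsg.Sz F m)) := by
  have hcyc := sylow_cyclic hm hF hp2 Q
  obtain ⟨c, hc⟩ := hcyc.exists_generator
  intro y hy
  rw [mem_cent_iff]
  obtain ⟨i, hi⟩ := Subgroup.mem_zpowers_iff.mp (hc ⟨y, hy⟩)
  obtain ⟨j, hj⟩ := Subgroup.mem_zpowers_iff.mp (hc ⟨x, hx⟩)
  have h1 : (⟨y, hy⟩ : ↥(Q : Subgroup ↥(Cfsg.Sz F m))) * ⟨x, hx⟩ = ⟨x, hx⟩ * ⟨y, hy⟩ := by
    rw [← hi, ← hj, ← _root_.zpow_add, ← _root_.zpow_add, add_comm]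
  exact congrArg Subtype.val h1

theorem exists_sylow_le_cent (hm : 1 ≤ m) (hF : Fintype.card F = 2 ^ (2 * m + 1))
    {g : ↥(Cfsg.Sz F m)} (hg : Fpf g) {p : ℕ} [hp : Fact p.Prime]
    (hdvd : p ∣ Nat.card ↥(Subgroup.centralizer ({g} : Set ↥(Cfsg.Sz F m)))) :
    ∃ (Q : Sylow p ↥(Cfsg.Sz F m)) (x : ↥(Cfsg.Sz F m)), x ∈ (Q : Subgroup ↥(Cfsg.Sz F m)) ∧
      x ≠ 1 ∧ x ∈ Subgroup.centralizer ({g} : Set ↥(Cfsg.Sz F m)) ∧
      (Q : Subgroup ↥(Cfsg.Sz F m)) ≤ Subgroup.centralizer ({g} : Set ↥(Cfsg.Sz F m)) := by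
  have hfin : Finite (Matrix.SpecialLinearGroup (Fin 4) F) := finite_SL
  obtain ⟨x, hx⟩ := exists_prime_orderOf_dvd_card' p hdvd
  have hx1 : x.1 ≠ 1 := by
    intro h
    have h1 : x = 1 := Subtype.ext h
    rw [h1, orderOf_one] at hx
    exact hp.out.one_lt.ne hx
  have hpg : IsPGroup p ↥(Subgroup.zpowers x.1) := by
    apply IsPGroup.of_card (n := 1)
    rw [Nat.card_zpowers, Subgroup.orderOf_coe, hx, pow_one]
  obtain ⟨Q, hQ⟩ := hpg.exists_le_sylow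
  have hxQ : x.1 ∈ (Q : Subgroup ↥(Cfsg.Sz F m)) := hQ (Subgroup.mem_zpowers x.1)
  have hp2 : p ≠ 2 := (prime_facts hp.out (dvd_trans hdvd (cent_card_dvd hm hF hg))).1
  have h1 := sylow_le_cent hm hF hp2 Q hxQ
  rw [cent_eq_of_mem hm hF hg x.2 hx1] at h1
  exact ⟨Q, x.1, hxQ, hx1, x.2, h1⟩

theorem norm_card_le (hm : 1 ≤ m) (hF : Fintype.card F = 2 ^ (2 * m + 1))
    {g : ↥(Cfsg.Sz F m)} (hg : Fpf g) :
    Nat.card ↥(Subgroup.normalizer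
      ((Subgroup.centralizer ({g} : Set ↥(Cfsg.Sz F m)) : Subgroup ↥(Cfsg.Sz F m)) :
        Set ↥(Cfsg.Sz F m))) ≤
      4 * Nat.card ↥(Subgroup.centralizer ({g} : Set ↥(Cfsg.Sz F m))) := by
  classical
  have hs := hyp_of_card hm hF
  have hfin : Finite (Matrix.SpecialLinearGroup (Fin 4) F) := finite_SL
  obtain ⟨A, hA⟩ : ∃ A : Subgroup ↥(Cfsg.Sz F m),
      A = Subgroup.centralizer ({g} : Set ↥(Cfsg.Sz F m)) := ⟨_, rfl⟩
  rw [← hA]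
  obtain ⟨N, hN⟩ : ∃ N : Subgroup ↥(Cfsg.Sz F m),
      N = Subgroup.normalizer (A : Set ↥(Cfsg.Sz F m)) := ⟨_, rfl⟩
  rw [← hN]
  have hle : A ≤ N := by
    rw [hN]
    exact Subgroup.le_normalizer
  have hM := fpf_mat hm hF g.2 hg
  have hM1 : (g.1.1 : Matrix (Fin 4) (Fin 4) F) ≠ 1 :=
    fun h1 => fpf_ne_one hg (Subtype.ext (Subtype.ext h1))
  obtain ⟨hirr, hdeg⟩ :=
    minpoly_irred (q := 2 ^ (2 * m + 1)) hF hs.two (cast_q hm hF) g.1.1 hM hM1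
  obtain ⟨s, hs4, hsmem⟩ := conj_roots_bound g.1.1 hirr hdeg
  let f : ↥N → Matrix (Fin 4) (Fin 4) F := fun n => (n.1 * g * n.1⁻¹).1.1
  have hidx : (A.subgroupOf N).index ≤ s.card := by
    apply index_le_of_fiber (A.subgroupOf N) f s
    · intro n
      have hn : n.1 ∈ Subgroup.normalizer (A : Set ↥(Cfsg.Sz F m)) := by
        rw [← hN]
        exact n.2
      have h1 : n.1 * g * n.1⁻¹ ∈ A :=
        (Subgroup.mem_normalizer_iff.mp hn g).mp (by rw [hA]; exact self_mem_cent g)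
      rw [hA] at h1
      apply hsmem
      · exact congrArg (fun w : Matrix.SpecialLinearGroup (Fin 4) F => w.1)
          (congrArg Subtype.val (mem_cent_iff.mp h1))
      · have hUV : (n.1.1.1 : Matrix (Fin 4) (Fin 4) F) * (n.1⁻¹).1.1 = 1 :=
          congrArg (fun w : ↥(Cfsg.Sz F m) => (w.1.1 : Matrix (Fin 4) (Fin 4) F))
            (mul_inv_cancel n.1)
        have hVU : ((n.1⁻¹).1.1 : Matrix (Fin 4) (Fin 4) F) * n.1.1.1 = 1 :=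
          congrArg (fun w : ↥(Cfsg.Sz F m) => (w.1.1 : Matrix (Fin 4) (Fin 4) F))
            (inv_mul_cancel n.1)
        have e : f n = n.1.1.1 * g.1.1 * (n.1⁻¹).1.1 := rfl
        rw [e, aeval_conj _ _ _ hUV hVU, minpoly.aeval, mul_zero, zero_mul]
    · intro n n' h
      rw [Subgroup.mem_subgroupOf]
      have h1 : n.1 * g * n.1⁻¹ = n'.1 * g * n'.1⁻¹ := Subtype.ext (Subtype.ext h)
      rw [hA, mem_cent_iff]
      show n'.1⁻¹ * n.1 * g = g * (n'.1⁻¹ * n.1)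
      calc n'.1⁻¹ * n.1 * g = n'.1⁻¹ * (n.1 * g * n.1⁻¹) * n.1 := by group
        _ = n'.1⁻¹ * (n'.1 * g * n'.1⁻¹) * n.1 := by rw [h1]
        _ = g * (n'.1⁻¹ * n.1) := by group
  have h1 := Subgroup.card_mul_index (A.subgroupOf N)
  have h2 : Nat.card ↥(A.subgroupOf N) = Nat.card ↥A :=
    Nat.card_congr (Subgroup.subgroupOfEquivOfLe hle).toEquiv
  rw [h2] at h1
  rw [← h1]
  calc Nat.card ↥A * (A.subgroupOf N).index ≤ Nat.card ↥A * 4 :=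
        Nat.mul_le_mul_left _ (hidx.trans hs4)
    _ = 4 * Nat.card ↥A := mul_comm _ _

end Cfsg.Agent.Lib.Helper14.SzTori
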