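import Mathlib
import Cfsg.Prelude.Def_LieExceptional
import Cfsg.Agent.Lib.Helper3.Sz10
import Cfsg.Agent.Lib.Helper14.SzTori3

set_option autoImplicit false
set_option linter.unusedSectionVars false

namespace Cfsg.Agent.Lib.Helper14.SzTori

open Matrix MulAction Polynomial
open Cfsg.Agent.Lib.Helper3.Sz1 Cfsg.Agent.Lib.Helper3.Sz3 Cfsg.Agent.Lib.Helper3.Sz5
open Cfsg.Agent.Lib.Helper3.Sz7 Cfsg.Agent.Lib.Helper3.Sz8 Cfsg.Agent.Lib.Helper3.Sz9

section grp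

variable {G : Type*} [Group G]

/-- conjugation by `x⁻¹` as a bijection. -/
def conjEquiv (x : G) : G ≃ G where
  toFun y := x⁻¹ * y * x
  invFun y := x * y * x⁻¹
  left_inv y := by group
  right_inv y := by group

theorem card_cent_conj (g x : G) :
    Nat.card ↥(Subgroup.centralizer ({x * g * x⁻¹} : Set G)) =
      Nat.card ↥(Subgroup.centralizer ({g} : Set G)) :=
  Nat.card_congr ((conjEquiv x).subtypeEquiv (fun _ => mem_cent_conj))

theorem mem_norm_conj {g x y : G} :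
    y ∈ Subgroup.normalizer
      ((Subgroup.centralizer ({x * g * x⁻¹} : Set G) : Subgroup G) : Set G) ↔
    x⁻¹ * y * x ∈ Subgroup.normalizer
      ((Subgroup.centralizer ({g} : Set G) : Subgroup G) : Set G) := by
  rw [Subgroup.mem_normalizer_iff, Subgroup.mem_normalizer_iff]
  constructor
  · intro h z
    have h1 := h (x * z * x⁻¹)
    rw [mem_cent_conj, mem_cent_conj] at h1
    have e1 : x⁻¹ * (x * z * x⁻¹) * x = z := by group
    have e2 : x⁻¹ * (y * (x * z * x⁻¹) * y⁻¹) * x = x⁻¹ * y * x * z * (x⁻¹ * y * x)⁻¹ := by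
      group
    rw [e1, e2] at h1
    exact h1
  · intro h z
    have h1 := h (x⁻¹ * z * x)
    rw [mem_cent_conj, mem_cent_conj]
    have e2 : x⁻¹ * (y * z * y⁻¹) * x = x⁻¹ * y * x * (x⁻¹ * z * x) * (x⁻¹ * y * x)⁻¹ := by
      group
    rw [e2]
    exact h1

theorem card_norm_conj (g x : G) :
    Nat.card ↥(Subgroup.normalizer
      ((Subgroup.centralizer ({x * g * x⁻¹} : Set G) : Subgroup G) : Set G)) =
    Nat.card ↥(Subgroup.normalizer
      ((Subgroup.centralizer ({g} : Set G) : Subgroup G) : Set G)) :=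
  Nat.card_congr ((conjEquiv x).subtypeEquiv (fun _ => mem_norm_conj))

end grp

variable {F : Type*} [Field F] [Fintype F] {m : ℕ}

theorem card_Sz_gt (hm : 1 ≤ m) (hF : Fintype.card F = 2 ^ (2 * m + 1)) :
    (2 ^ (2 * m + 1)) ^ 2 + 1 < Nat.card ↥(Cfsg.Sz F m) := by
  rw [card_Sz hm hF]
  have hq8 := q_ge hm
  generalize 2 ^ (2 * m + 1) = q at *
  have a1 : 1 ≤ q ^ 2 := Nat.one_le_pow _ _ (by omega)
  have a2 : 2 ≤ q - 1 := by omega
  calc q ^ 2 + 1 < (q ^ 2 + 1) * 2 := by omega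
    _ ≤ (q ^ 2 + 1) * (q - 1) := Nat.mul_le_mul_left _ a2
    _ = 1 * (q ^ 2 + 1) * (q - 1) := by rw [one_mul]
    _ ≤ q ^ 2 * (q ^ 2 + 1) * (q - 1) :=
        Nat.mul_le_mul_right _ (Nat.mul_le_mul_right _ a1)

/-- the centraliser of a fixed-point-free element is not self-normalising (Burnside transfer and
simplicity). -/
theorem norm_ne (hm : 1 ≤ m) (hF : Fintype.card F = 2 ^ (2 * m + 1))
    {g : ↥(Cfsg.Sz F m)} (hg : Fpf g) :
    Subgroup.normalizer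
      ((Subgroup.centralizer ({g} : Set ↥(Cfsg.Sz F m)) : Subgroup ↥(Cfsg.Sz F m)) :
        Set ↥(Cfsg.Sz F m)) ≠ Subgroup.centralizer ({g} : Set ↥(Cfsg.Sz F m)) := by
  intro heq
  have hfin : Finite (Matrix.SpecialLinearGroup (Fin 4) F) := finite_SL
  have hsimple := Cfsg.Agent.Lib.Helper3.Sz10.simple hm hF
  have hcard1 : Nat.card ↥(Subgroup.centralizer ({g} : Set ↥(Cfsg.Sz F m))) ≠ 1 := by
    rw [Ne, Subgroup.card_eq_one]
    intro h
    have h1 := self_mem_cent g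
    rw [h, Subgroup.mem_bot] at h1
    exact fpf_ne_one hg h1
  obtain ⟨p, hp, hdvd⟩ := Nat.exists_prime_and_dvd hcard1
  have hpf : Fact p.Prime := ⟨hp⟩
  obtain ⟨Q, x, hxQ, hx1, hxA, hQA⟩ := exists_sylow_le_cent hm hF hg hdvd
  have hNC : Subgroup.normalizer ((Q : Subgroup ↥(Cfsg.Sz F m)) : Set ↥(Cfsg.Sz F m)) ≤
      Subgroup.centralizer ((Q : Subgroup ↥(Cfsg.Sz F m)) : Set ↥(Cfsg.Sz F m)) := by
    intro n hn
    have h1 : n * x * n⁻¹ ∈ (Q : Subgroup ↥(Cfsg.Sz F m)) :=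
      (Subgroup.mem_normalizer_iff.mp hn x).mp hxQ
    have h2 := ti hm hF hg hxA hx1 (hQA h1)
    rw [heq] at h2
    rw [Subgroup.mem_centralizer_iff]
    intro y hy
    exact cent_comm hm hF hg (hQA hy) h2
  have hcompl := MonoidHom.ker_transferSylow_isComplement' Q hNC
  rcases (MonoidHom.normal_ker (MonoidHom.transferSylow Q hNC)).eq_bot_or_eq_top with h | h
  · rw [h, Subgroup.isComplement'_bot_left] at hcompl
    have h3 : (⊤ : Subgroup ↥(Cfsg.Sz F m)) ≤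
        Subgroup.centralizer ({g} : Set ↥(Cfsg.Sz F m)) := hcompl ▸ hQA
    have h4 := Subgroup.card_le_of_le h3
    rw [Subgroup.card_top] at h4
    have h5 := Nat.le_of_dvd (by positivity) (cent_card_dvd hm hF hg)
    have h6 := card_Sz_gt hm hF
    omega
  · rw [h, Subgroup.isComplement'_top_left] at hcompl
    rw [hcompl, Subgroup.mem_bot] at hxQ
    exact hx1 hxQ

theorem norm_card (hm : 1 ≤ m) (hF : Fintype.card F = 2 ^ (2 * m + 1))
    {g : ↥(Cfsg.Sz F m)} (hg : Fpf g) :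
    Nat.card ↥(Subgroup.normalizer
      ((Subgroup.centralizer ({g} : Set ↥(Cfsg.Sz F m)) : Subgroup ↥(Cfsg.Sz F m)) :
        Set ↥(Cfsg.Sz F m))) =
      2 * Nat.card ↥(Subgroup.centralizer ({g} : Set ↥(Cfsg.Sz F m))) ∨
    Nat.card ↥(Subgroup.normalizer
      ((Subgroup.centralizer ({g} : Set ↥(Cfsg.Sz F m)) : Subgroup ↥(Cfsg.Sz F m)) :
        Set ↥(Cfsg.Sz F m))) =
      4 * Nat.card ↥(Subgroup.centralizer ({g} : Set ↥(Cfsg.Sz F m))) := by
  have hfin : Finite (Matrix.SpecialLinearGroup (Fin 4) F) := finite_SL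
  have hle : Subgroup.centralizer ({g} : Set ↥(Cfsg.Sz F m)) ≤ Subgroup.normalizer
      ((Subgroup.centralizer ({g} : Set ↥(Cfsg.Sz F m)) : Subgroup ↥(Cfsg.Sz F m)) :
        Set ↥(Cfsg.Sz F m)) := Subgroup.le_normalizer
  obtain ⟨w, hw⟩ := Subgroup.card_dvd_of_le hle
  have h4 := norm_card_le hm hF hg
  have hApos : 0 < Nat.card ↥(Subgroup.centralizer ({g} : Set ↥(Cfsg.Sz F m))) := Nat.card_pos
  have hNpos : 0 < Nat.card ↥(Subgroup.normalizer
      ((Subgroup.centralizer ({g} : Set ↥(Cfsg.Sz F m)) : Subgroup ↥(Cfsg.Sz F m)) :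
        Set ↥(Cfsg.Sz F m))) := Nat.card_pos
  have hw4 : w ≤ 4 := by
    rw [hw, mul_comm] at h4
    exact Nat.le_of_mul_le_mul_right h4 hApos
  have hw0 : w ≠ 0 := by
    rintro rfl
    rw [hw, mul_zero] at hNpos
    exact lt_irrefl _ hNpos
  have hw1 : w ≠ 1 := by
    rintro rfl
    apply norm_ne hm hF hg
    exact (Subgroup.eq_of_le_of_card_ge hle (by rw [hw, mul_one])).symm
  have hw3 : w ≠ 3 := by
    rintro rfl
    apply three_not_dvd hm hF
    have h5 : 3 ∣ Nat.card ↥(Subgroup.normalizer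
      ((Subgroup.centralizer ({g} : Set ↥(Cfsg.Sz F m)) : Subgroup ↥(Cfsg.Sz F m)) :
        Set ↥(Cfsg.Sz F m))) := ⟨_, by rw [hw, mul_comm]⟩
    exact dvd_trans h5 (Subgroup.card_subgroup_dvd_card _)
  have hw24 : w = 2 ∨ w = 4 := by omega
  rcases hw24 with rfl | rfl
  · left
    rw [hw, mul_comm]
  · right
    rw [hw, mul_comm]

/-- the centraliser of a fixed-point-free element is a Hall subgroup. -/
theorem hall (hm : 1 ≤ m) (hF : Fintype.card F = 2 ^ (2 * m + 1))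
    {g : ↥(Cfsg.Sz F m)} (hg : Fpf g) :
    Nat.Coprime (Nat.card ↥(Subgroup.centralizer ({g} : Set ↥(Cfsg.Sz F m))))
      (((2 ^ (2 * m + 1)) ^ 2 + 1) /
        Nat.card ↥(Subgroup.centralizer ({g} : Set ↥(Cfsg.Sz F m)))) := by
  have hfin : Finite (Matrix.SpecialLinearGroup (Fin 4) F) := finite_SL
  by_contra hcon
  obtain ⟨p, hp, h1, h2⟩ := Nat.Prime.not_coprime_iff_dvd.mp hcon
  have hpf : Fact p.Prime := ⟨hp⟩
  obtain ⟨Q, x, hxQ, hx1, hxA, hQA⟩ := exists_sylow_le_cent hm hF hg h1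
  have h3 := Sylow.not_dvd_index Q
  have h4 : (Subgroup.centralizer ({g} : Set ↥(Cfsg.Sz F m))).index ∣
      (Q : Subgroup ↥(Cfsg.Sz F m)).index := Subgroup.index_dvd_of_le hQA
  apply h3
  refine dvd_trans (dvd_trans h2 ?_) h4
  obtain ⟨c, hc⟩ := cent_card_dvd hm hF hg
  have hApos : 0 < Nat.card ↥(Subgroup.centralizer ({g} : Set ↥(Cfsg.Sz F m))) := Nat.card_pos
  have h5 := Subgroup.card_mul_index (Subgroup.centralizer ({g} : Set ↥(Cfsg.Sz F m)))
  rw [card_Sz hm hF, hc] at h5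
  rw [hc, Nat.mul_div_cancel_left _ hApos]
  have h6 : (Subgroup.centralizer ({g} : Set ↥(Cfsg.Sz F m))).index =
      (2 ^ (2 * m + 1)) ^ 2 * c * (2 ^ (2 * m + 1) - 1) := by
    apply Nat.eq_of_mul_eq_mul_left hApos
    rw [h5]
    ring
  rw [h6]
  exact dvd_mul_of_dvd_left (dvd_mul_left c _) _

/-- two centralisers of fixed-point-free elements whose orders share a prime are conjugate. -/
theorem rel_of_common_prime (hm : 1 ≤ m) (hF : Fintype.card F = 2 ^ (2 * m + 1))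
    {g h : ↥(Cfsg.Sz F m)} (hg : Fpf g) (hh : Fpf h) {p : ℕ} (hp : p.Prime)
    (h1 : p ∣ Nat.card ↥(Subgroup.centralizer ({g} : Set ↥(Cfsg.Sz F m))))
    (h2 : p ∣ Nat.card ↥(Subgroup.centralizer ({h} : Set ↥(Cfsg.Sz F m)))) :
    ∃ x : ↥(Cfsg.Sz F m), Subgroup.centralizer ({h} : Set ↥(Cfsg.Sz F m)) =
      Subgroup.centralizer ({x * g * x⁻¹} : Set ↥(Cfsg.Sz F m)) := by
  have hfin : Finite (Matrix.SpecialLinearGroup (Fin 4) F) := finite_SL
  have hpf : Fact p.Prime := ⟨hp⟩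
  obtain ⟨Q₁, y, hyQ, hy1, hyA, hQA⟩ := exists_sylow_le_cent hm hF hg h1
  obtain ⟨Q₂, z, hzQ, hz1, hzA, hQB⟩ := exists_sylow_le_cent hm hF hh h2
  obtain ⟨γ, hγ⟩ := MulAction.exists_smul_eq ↥(Cfsg.Sz F m) Q₁ Q₂
  have hmem : ∀ x, x ∈ (Q₂ : Subgroup ↥(Cfsg.Sz F m)) ↔
      γ⁻¹ * x * γ ∈ (Q₁ : Subgroup ↥(Cfsg.Sz F m)) := by
    intro x
    rw [← hγ, Sylow.coe_subgroup_smul, Subgroup.mem_pointwise_smul_iff_inv_smul_mem]
    have e : (MulAut.conj γ)⁻¹ • x = γ⁻¹ * x * γ := by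
      rw [← map_inv, MulAut.smul_def, MulAut.conj_apply, inv_inv]
    rw [e]
  have h3 : γ * y * γ⁻¹ ∈ (Q₂ : Subgroup ↥(Cfsg.Sz F m)) := by
    rw [hmem]
    have e : γ⁻¹ * (γ * y * γ⁻¹) * γ = y := by group
    rw [e]
    exact hyQ
  have hne : γ * y * γ⁻¹ ≠ 1 := fun h => hy1 (conj_eq_one_iff.mp h)
  have h4 := cent_eq_of_mem hm hF hh (hQB h3) hne
  have h5 := cent_eq_of_mem hm hF hg hyA hy1
  refine ⟨γ, ?_⟩
  rw [← h4]
  ext w
  rw [mem_cent_conj, mem_cent_conj, h5]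

end Cfsg.Agent.Lib.Helper14.SzTori
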