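import Mathlib
import Cfsg.Prelude.Def_LieExceptional
import Cfsg.Agent.Lib.Helper3.Sz10
import Cfsg.Agent.Lib.Helper1.CharMore
import Cfsg.Agent.Lib.Helper14.SzTori4

set_option autoImplicit false
set_option linter.unusedSectionVars false

namespace Cfsg.Agent.Lib.Helper14.SzTori

open Matrix MulAction Polynomial
open Cfsg.Agent.Lib.Helper3.Sz1 Cfsg.Agent.Lib.Helper3.Sz3 Cfsg.Agent.Lib.Helper3.Sz5
open Cfsg.Agent.Lib.Helper3.Sz7 Cfsg.Agent.Lib.Helper3.Sz8 Cfsg.Agent.Lib.Helper3.Sz9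

variable {F : Type*} [Field F] [Fintype F] {m : ℕ}

theorem fix_card_le (hm : 1 ≤ m) (hF : Fintype.card F = 2 ^ (2 * m + 1))
    (g : ↥(Cfsg.Sz F m)) (hg : g ≠ 1) :
    Nat.card (MulAction.fixedBy ↥(Cfsg.suzukiOvoid F m) g) ≤ 2 := by
  classical
  have hfin : Finite (Matrix.SpecialLinearGroup (Fin 4) F) := finite_SL
  have hft : Fintype (MulAction.fixedBy ↥(Cfsg.suzukiOvoid F m) g) := Fintype.ofFinite _
  by_contra hcon
  rw [Nat.card_eq_fintype_card, not_le] at hcon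
  obtain ⟨a, b, c, hab, hac, hbc⟩ := Fintype.two_lt_card_iff.mp hcon
  apply hg
  have ha : g.1 • a.1.1 = a.1.1 := congrArg Subtype.val a.2
  have hb : g.1 • b.1.1 = b.1.1 := congrArg Subtype.val b.2
  have hc : g.1 • c.1.1 = c.1.1 := congrArg Subtype.val c.2
  exact Subtype.ext (three_fix hm hF g.2 a.1.2 b.1.2 c.1.2
    (fun h => hab (Subtype.ext (Subtype.ext h))) (fun h => hbc (Subtype.ext (Subtype.ext h)))
    (fun h => hac (Subtype.ext (Subtype.ext h))) ha hb hc)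

theorem fix_card_zero_iff (g : ↥(Cfsg.Sz F m)) :
    Nat.card (MulAction.fixedBy ↥(Cfsg.suzukiOvoid F m) g) = 0 ↔ Fpf g := by
  rw [Finite.card_eq_zero_iff]
  constructor
  · intro h p hp hgp
    exact h.false ⟨⟨p, hp⟩, Subtype.ext hgp⟩
  · intro h
    exact ⟨fun x => h x.1.1 x.1.2 (congrArg Subtype.val x.2)⟩

theorem card_ovoid' (hF : Fintype.card F = 2 ^ (2 * m + 1)) :
    Nat.card ↥(Cfsg.suzukiOvoid F m) = (2 ^ (2 * m + 1)) ^ 2 + 1 := by
  rw [Nat.card_coe_set_eq, card_ovoid hF]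

theorem fix_card_one (hF : Fintype.card F = 2 ^ (2 * m + 1)) :
    Nat.card (MulAction.fixedBy ↥(Cfsg.suzukiOvoid F m) (1 : ↥(Cfsg.Sz F m))) =
      (2 ^ (2 * m + 1)) ^ 2 + 1 := by
  rw [MulAction.fixedBy_one_eq_univ, Nat.card_univ, card_ovoid' hF]

/-- the number of fixed-point-free elements. -/
theorem two_mul_card_fpf (hm : 1 ≤ m) (hF : Fintype.card F = 2 ^ (2 * m + 1)) :
    2 * Nat.card {g : ↥(Cfsg.Sz F m) // Fpf g} =
      (2 ^ (2 * m + 1)) ^ 3 * (2 ^ (2 * m + 1) - 1) ^ 2 := by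
  classical
  have hfin : Finite (Matrix.SpecialLinearGroup (Fin 4) F) := finite_SL
  have hft : Fintype ↥(Cfsg.Sz F m) := Fintype.ofFinite _
  obtain ⟨-, h2t, -, -, -⟩ := zassenhaus hm hF
  have htr : MulAction.IsPretransitive ↥(Cfsg.Sz F m) ↥(Cfsg.suzukiOvoid F m) :=
    MulAction.isPretransitive_of_is_two_pretransitive
  have hX := card_ovoid' (m := m) hF
  have hq8 := q_ge hm
  have hX2 : 2 ≤ Nat.card ↥(Cfsg.suzukiOvoid F m) := by
    rw [hX]
    exact Nat.succ_le_succ (Nat.one_le_pow _ _ (by omega))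
  have S1 : ∑ g : ↥(Cfsg.Sz F m), Nat.card (MulAction.fixedBy ↥(Cfsg.suzukiOvoid F m) g) =
      Nat.card ↥(Cfsg.Sz F m) := by
    rw [Cfsg.Agent.Lib.Helper1.burnside_nat]
    have hs : Subsingleton (MulAction.orbitRel.Quotient ↥(Cfsg.Sz F m) ↥(Cfsg.suzukiOvoid F m)) :=
      (MulAction.pretransitive_iff_subsingleton_quotient _ _).mp htr
    have hn : Nonempty (MulAction.orbitRel.Quotient ↥(Cfsg.Sz F m) ↥(Cfsg.suzukiOvoid F m)) :=
      ⟨Quotient.mk'' ⟨_, pInf_mem m⟩⟩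
    rw [Nat.card_eq_one_iff_unique.mpr ⟨hs, hn⟩, one_mul]
  have S2 : ∑ g : ↥(Cfsg.Sz F m),
      Nat.card (MulAction.fixedBy ↥(Cfsg.suzukiOvoid F m) g) ^ 2 =
      2 * Nat.card ↥(Cfsg.Sz F m) := by
    have h1 := Cfsg.Agent.Lib.Helper1.burnside_nat (G := ↥(Cfsg.Sz F m))
      (↥(Cfsg.suzukiOvoid F m) × ↥(Cfsg.suzukiOvoid F m))
    simp only [Cfsg.Agent.Lib.Helper1.card_fixedBy_prod] at h1
    rw [h1, (Cfsg.Agent.Lib.Helper1.card_orbits_prod_eq_two_iff _ hX2).mpr h2t]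
  have key : ∀ g : ↥(Cfsg.Sz F m),
      ((Nat.card (MulAction.fixedBy ↥(Cfsg.suzukiOvoid F m) g) : ℤ) - 1) *
        ((Nat.card (MulAction.fixedBy ↥(Cfsg.suzukiOvoid F m) g) : ℤ) - 2) =
      (if g = 1 then (((2 ^ (2 * m + 1) : ℕ) : ℤ)) ^ 2 * ((((2 ^ (2 * m + 1) : ℕ) : ℤ)) ^ 2 - 1)
        else 0) +
        2 * (if Fpf g then 1 else 0) := by
    intro g
    by_cases hg : g = 1
    · subst hg
      have hnf : ¬ Fpf (1 : ↥(Cfsg.Sz F m)) := fun h => fpf_ne_one h rfl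
      rw [if_pos rfl, if_neg hnf, fix_card_one hF]
      push_cast
      ring
    · rw [if_neg hg]
      have hle := fix_card_le hm hF g hg
      have hz := fix_card_zero_iff g
      by_cases hf : Fpf g
      · rw [if_pos hf, hz.mpr hf]
        norm_num
      · rw [if_neg hf]
        have hne : Nat.card (MulAction.fixedBy ↥(Cfsg.suzukiOvoid F m) g) ≠ 0 :=
          fun h => hf (hz.mp h)
        have h12 : Nat.card (MulAction.fixedBy ↥(Cfsg.suzukiOvoid F m) g) = 1 ∨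
            Nat.card (MulAction.fixedBy ↥(Cfsg.suzukiOvoid F m) g) = 2 := by omega
        rcases h12 with h | h
        · rw [h]
          norm_num
        · rw [h]
          norm_num
  have hsum := Finset.sum_congr (rfl : (Finset.univ : Finset ↥(Cfsg.Sz F m)) = Finset.univ)
    (fun g _ => key g)
  rw [Finset.sum_add_distrib, Finset.sum_ite_eq' Finset.univ (1 : ↥(Cfsg.Sz F m)),
    if_pos (Finset.mem_univ _), ← Finset.mul_sum, Finset.sum_boole] at hsum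
  have hcard : (Finset.univ.filter (fun g : ↥(Cfsg.Sz F m) => Fpf g)).card =
      Nat.card {g : ↥(Cfsg.Sz F m) // Fpf g} := by
    rw [Nat.card_eq_fintype_card, Fintype.card_subtype]
  rw [hcard] at hsum
  have hL : ∑ g : ↥(Cfsg.Sz F m),
      ((Nat.card (MulAction.fixedBy ↥(Cfsg.suzukiOvoid F m) g) : ℤ) - 1) *
        ((Nat.card (MulAction.fixedBy ↥(Cfsg.suzukiOvoid F m) g) : ℤ) - 2) =
      (Nat.card ↥(Cfsg.Sz F m) : ℤ) := by
    have e : ∀ g : ↥(Cfsg.Sz F m),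
        ((Nat.card (MulAction.fixedBy ↥(Cfsg.suzukiOvoid F m) g) : ℤ) - 1) *
          ((Nat.card (MulAction.fixedBy ↥(Cfsg.suzukiOvoid F m) g) : ℤ) - 2) =
        ((Nat.card (MulAction.fixedBy ↥(Cfsg.suzukiOvoid F m) g) ^ 2 : ℕ) : ℤ) -
          3 * ((Nat.card (MulAction.fixedBy ↥(Cfsg.suzukiOvoid F m) g) : ℕ) : ℤ) + 2 := by
      intro g
      push_cast
      ring
    rw [Finset.sum_congr rfl (fun g _ => e g), Finset.sum_add_distrib, Finset.sum_sub_distrib,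
      ← Nat.cast_sum, S2, ← Finset.mul_sum, ← Nat.cast_sum, S1, Finset.sum_const,
      Finset.card_univ, ← Nat.card_eq_fintype_card]
    push_cast
    simp only [nsmul_eq_mul]
    ring
  rw [hL, card_Sz hm hF] at hsum
  have hq1 : 1 ≤ 2 ^ (2 * m + 1) := Nat.one_le_two_pow
  generalize 2 ^ (2 * m + 1) = q at hsum hq1 ⊢
  obtain ⟨k, rfl⟩ : ∃ k, q = k + 1 := ⟨q - 1, by omega⟩
  simp only [Nat.add_sub_cancel] at hsum ⊢
  push_cast at hsum
  zify
  linear_combination -hsum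

end Cfsg.Agent.Lib.Helper14.SzTori
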