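import Mathlib
import Cfsg.Prelude.Def_LieExceptional
import Cfsg.Agent.Lib.Helper3.Sz10
import Cfsg.Agent.Lib.Helper14.SzTori5

set_option autoImplicit false
set_option linter.unusedSectionVars false

namespace Cfsg.Agent.Lib.Helper14.SzTori

open Matrix MulAction Polynomial
open Cfsg.Agent.Lib.Helper3.Sz1 Cfsg.Agent.Lib.Helper3.Sz3 Cfsg.Agent.Lib.Helper3.Sz5
open Cfsg.Agent.Lib.Helper3.Sz7 Cfsg.Agent.Lib.Helper3.Sz8 Cfsg.Agent.Lib.Helper3.Sz9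

theorem card_ne' {α : Type*} [Finite α] (x : α) :
    Nat.card {a : α // a ≠ x} = Nat.card α - 1 := by
  classical
  have h := Nat.card_congr (Equiv.optionSubtypeNe x)
  rw [Finite.card_option] at h
  omega

variable {F : Type*} [Field F] [Fintype F] {m : ℕ}

/-- the non-identity elements of the conjugates of the centraliser of `g`. -/
def Phi (g : ↥(Cfsg.Sz F m)) : Set ↥(Cfsg.Sz F m) :=
  {h | ∃ x : ↥(Cfsg.Sz F m), ∃ a ∈ Subgroup.centralizer ({g} : Set ↥(Cfsg.Sz F m)),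
    a ≠ 1 ∧ h = x * a * x⁻¹}

theorem Phi_fpf (hm : 1 ≤ m) (hF : Fintype.card F = 2 ^ (2 * m + 1))
    {g h : ↥(Cfsg.Sz F m)} (hg : Fpf g) (hh : h ∈ Phi g) : Fpf h := by
  obtain ⟨x, a, ha, ha1, rfl⟩ := hh
  exact fpf_conj (fpf_of_mem_cent hm hF hg ha ha1) x

theorem Phi_cent (hm : 1 ≤ m) (hF : Fintype.card F = 2 ^ (2 * m + 1))
    {g h : ↥(Cfsg.Sz F m)} (hg : Fpf g) (hh : h ∈ Phi g) :
    ∃ x : ↥(Cfsg.Sz F m), Subgroup.centralizer ({h} : Set ↥(Cfsg.Sz F m)) =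
      Subgroup.centralizer ({x * g * x⁻¹} : Set ↥(Cfsg.Sz F m)) := by
  obtain ⟨x, a, ha, ha1, rfl⟩ := hh
  refine ⟨x, ?_⟩
  ext w
  rw [mem_cent_conj, mem_cent_conj, cent_eq_of_mem hm hF hg ha ha1]

theorem mem_Phi_of_cent {g h : ↥(Cfsg.Sz F m)} (hh : Fpf h) (x : ↥(Cfsg.Sz F m))
    (e : Subgroup.centralizer ({h} : Set ↥(Cfsg.Sz F m)) =
      Subgroup.centralizer ({x * g * x⁻¹} : Set ↥(Cfsg.Sz F m))) : h ∈ Phi g := by
  have h1 : h ∈ Subgroup.centralizer ({x * g * x⁻¹} : Set ↥(Cfsg.Sz F m)) :=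
    e ▸ self_mem_cent h
  rw [mem_cent_conj] at h1
  refine ⟨x, x⁻¹ * h * x, h1, ?_, by group⟩
  intro h2
  apply fpf_ne_one hh
  have h3 : h = x * (x⁻¹ * h * x) * x⁻¹ := by group
  rw [h3, h2]
  group

theorem mem_Phi_self {g : ↥(Cfsg.Sz F m)} (hg : Fpf g) : g ∈ Phi g := by
  apply mem_Phi_of_cent hg 1
  simp

theorem Phi_disj (hm : 1 ≤ m) (hF : Fintype.card F = 2 ^ (2 * m + 1))
    {g₁ g₂ h : ↥(Cfsg.Sz F m)} (hg₁ : Fpf g₁) (hg₂ : Fpf g₂) (h1 : h ∈ Phi g₁)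
    (h2 : h ∈ Phi g₂) : g₂ ∈ Phi g₁ := by
  obtain ⟨x, e1⟩ := Phi_cent hm hF hg₁ h1
  obtain ⟨y, e2⟩ := Phi_cent hm hF hg₂ h2
  apply mem_Phi_of_cent hg₂ (y⁻¹ * x)
  rw [e1] at e2
  ext w
  have h3 : y * w * y⁻¹ ∈ Subgroup.centralizer ({y * g₂ * y⁻¹} : Set ↥(Cfsg.Sz F m)) ↔
      w ∈ Subgroup.centralizer ({g₂} : Set ↥(Cfsg.Sz F m)) := by
    rw [mem_cent_conj]
    have e : y⁻¹ * (y * w * y⁻¹) * y = w := by group
    rw [e]
  rw [← h3, ← e2, mem_cent_conj, mem_cent_conj]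
  have e : x⁻¹ * (y * w * y⁻¹) * x = (y⁻¹ * x)⁻¹ * w * (y⁻¹ * x) := by group
  rw [e]

theorem norm_conj_mem {G : Type*} [Group G] {H : Subgroup G} {n a : G}
    (hn : n ∈ Subgroup.normalizer (H : Set G)) (ha : a ∈ H) : n⁻¹ * a * n ∈ H :=
  (Subgroup.mem_normalizer_iff''.mp hn a).mp ha

theorem card_Phi (hm : 1 ≤ m) (hF : Fintype.card F = 2 ^ (2 * m + 1))
    {g : ↥(Cfsg.Sz F m)} (hg : Fpf g) :
    Nat.card (Phi g) * Nat.card ↥(Subgroup.normalizer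
      ((Subgroup.centralizer ({g} : Set ↥(Cfsg.Sz F m)) : Subgroup ↥(Cfsg.Sz F m)) :
        Set ↥(Cfsg.Sz F m))) =
    Nat.card ↥(Cfsg.Sz F m) *
      (Nat.card ↥(Subgroup.centralizer ({g} : Set ↥(Cfsg.Sz F m))) - 1) := by
  classical
  have hfin : Finite (Matrix.SpecialLinearGroup (Fin 4) F) := finite_SL
  have hex : ∀ h : Phi g, ∃ x : ↥(Cfsg.Sz F m), ∃ a : ↥(Cfsg.Sz F m),
      a ∈ Subgroup.centralizer ({g} : Set ↥(Cfsg.Sz F m)) ∧ a ≠ 1 ∧ h.1 = x * a * x⁻¹ := by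
    intro h
    obtain ⟨x, a, ha, ha1, e⟩ := h.2
    exact ⟨x, a, ha, ha1, e⟩
  choose x₀ a₀ ha₀ ha₀1 he using hex
  let φ : Phi g × ↥(Subgroup.normalizer
      ((Subgroup.centralizer ({g} : Set ↥(Cfsg.Sz F m)) : Subgroup ↥(Cfsg.Sz F m)) :
        Set ↥(Cfsg.Sz F m))) →
      ↥(Cfsg.Sz F m) × {a : ↥(Subgroup.centralizer ({g} : Set ↥(Cfsg.Sz F m))) // a ≠ 1} :=
    fun hn => (x₀ hn.1 * hn.2.1,
      ⟨⟨hn.2.1⁻¹ * a₀ hn.1 * hn.2.1, norm_conj_mem hn.2.2 (ha₀ hn.1)⟩, by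
        intro h
        have h1 : hn.2.1⁻¹ * a₀ hn.1 * hn.2.1 = 1 := congrArg Subtype.val h
        apply ha₀1 hn.1
        have h2 : a₀ hn.1 = hn.2.1 * (hn.2.1⁻¹ * a₀ hn.1 * hn.2.1) * hn.2.1⁻¹ := by group
        rw [h2, h1]
        group⟩)
  have hφ1 : ∀ hn, (φ hn).1 = x₀ hn.1 * hn.2.1 := fun _ => rfl
  have hφ2 : ∀ hn, ((φ hn).2.1.1 : ↥(Cfsg.Sz F m)) = hn.2.1⁻¹ * a₀ hn.1 * hn.2.1 := fun _ => rfl
  have hbij : Function.Bijective φ := by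
    constructor
    · rintro ⟨h, n⟩ ⟨h', n'⟩ heq
      have E1 : x₀ h * n.1 = x₀ h' * n'.1 := by
        have := congrArg Prod.fst heq
        rw [hφ1, hφ1] at this
        exact this
      have E2 : n.1⁻¹ * a₀ h * n.1 = n'.1⁻¹ * a₀ h' * n'.1 := by
        have := congrArg (fun z => (z.2.1.1 : ↥(Cfsg.Sz F m))) heq
        simp only [hφ2] at this
        exact this
      have hh : h = h' := by
        apply Subtype.ext
        have c1 : h.1 = (x₀ h * n.1) * (n.1⁻¹ * a₀ h * n.1) * (x₀ h * n.1)⁻¹ := by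
          rw [he h]
          group
        have c2 : h'.1 = (x₀ h' * n'.1) * (n'.1⁻¹ * a₀ h' * n'.1) * (x₀ h' * n'.1)⁻¹ := by
          rw [he h']
          group
        rw [c1, c2, E1, E2]
      subst hh
      have hn : n = n' := Subtype.ext (mul_left_cancel E1)
      rw [hn]
    · rintro ⟨x, a⟩
      have ha1 : (a.1.1 : ↥(Cfsg.Sz F m)) ≠ 1 := fun h => a.2 (Subtype.ext h)
      let h : Phi g := ⟨x * a.1.1 * x⁻¹, ⟨x, a.1.1, a.1.2, ha1, rfl⟩⟩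
      have hh : x * a.1.1 * x⁻¹ = x₀ h * a₀ h * (x₀ h)⁻¹ := he h
      have hconj : ((x₀ h)⁻¹ * x) * a.1.1 * ((x₀ h)⁻¹ * x)⁻¹ = a₀ h := by
        calc ((x₀ h)⁻¹ * x) * a.1.1 * ((x₀ h)⁻¹ * x)⁻¹
            = (x₀ h)⁻¹ * (x * a.1.1 * x⁻¹) * x₀ h := by group
          _ = (x₀ h)⁻¹ * (x₀ h * a₀ h * (x₀ h)⁻¹) * x₀ h := by rw [hh]
          _ = a₀ h := by group
      have hn : (x₀ h)⁻¹ * x ∈ Subgroup.normalizer
          ((Subgroup.centralizer ({g} : Set ↥(Cfsg.Sz F m)) : Subgroup ↥(Cfsg.Sz F m)) :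
            Set ↥(Cfsg.Sz F m)) := by
        apply ti hm hF hg a.1.2 ha1
        rw [hconj]
        exact ha₀ h
      refine ⟨(h, ⟨(x₀ h)⁻¹ * x, hn⟩), ?_⟩
      apply Prod.ext
      · rw [hφ1]
        show x₀ h * ((x₀ h)⁻¹ * x) = x
        group
      · apply Subtype.ext
        apply Subtype.ext
        rw [hφ2]
        show ((x₀ h)⁻¹ * x)⁻¹ * a₀ h * ((x₀ h)⁻¹ * x) = a.1.1
        rw [← hconj]
        group
  have hcard := Nat.card_eq_of_bijective φ hbij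
  rw [Nat.card_prod, Nat.card_prod, card_ne'] at hcard
  exact hcard

end Cfsg.Agent.Lib.Helper14.SzTori
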