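import Mathlib

set_option autoImplicit false

namespace Cfsg.Agent.Lib.Helper14.SzTori

section counting

variable {α : Type*} [Finite α]

theorem card3_le (P₁ P₂ P₃ Q : α → Prop) (h1 : ∀ x, P₁ x → Q x) (h2 : ∀ x, P₂ x → Q x)
    (h3 : ∀ x, P₃ x → Q x) (d12 : ∀ x, P₁ x → ¬ P₂ x) (d13 : ∀ x, P₁ x → ¬ P₃ x)
    (d23 : ∀ x, P₂ x → ¬ P₃ x) :
    Nat.card {x // P₁ x} + Nat.card {x // P₂ x} + Nat.card {x // P₃ x} ≤ Nat.card {x // Q x} := by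
  let f : ({x // P₁ x} ⊕ {x // P₂ x}) ⊕ {x // P₃ x} → {x // Q x} := fun s =>
    match s with
    | Sum.inl (Sum.inl x) => ⟨x.1, h1 _ x.2⟩
    | Sum.inl (Sum.inr x) => ⟨x.1, h2 _ x.2⟩
    | Sum.inr x => ⟨x.1, h3 _ x.2⟩
  have hf : Function.Injective f := by
    rintro ((x | x) | x) ((y | y) | y) h
    · have h' : x.1 = y.1 := congrArg (fun z : {x // Q x} => z.1) h
      rw [Subtype.ext h']
    · have h' : x.1 = y.1 := congrArg (fun z : {x // Q x} => z.1) h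
      exact absurd y.2 (d12 _ (h' ▸ x.2))
    · have h' : x.1 = y.1 := congrArg (fun z : {x // Q x} => z.1) h
      exact absurd y.2 (d13 _ (h' ▸ x.2))
    · have h' : x.1 = y.1 := congrArg (fun z : {x // Q x} => z.1) h
      exact absurd x.2 (d12 _ (h' ▸ y.2))
    · have h' : x.1 = y.1 := congrArg (fun z : {x // Q x} => z.1) h
      rw [Subtype.ext h']
    · have h' : x.1 = y.1 := congrArg (fun z : {x // Q x} => z.1) h
      exact absurd y.2 (d23 _ (h' ▸ x.2))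
    · have h' : x.1 = y.1 := congrArg (fun z : {x // Q x} => z.1) h
      exact absurd x.2 (d13 _ (h' ▸ y.2))
    · have h' : x.1 = y.1 := congrArg (fun z : {x // Q x} => z.1) h
      exact absurd x.2 (d23 _ (h' ▸ y.2))
    · have h' : x.1 = y.1 := congrArg (fun z : {x // Q x} => z.1) h
      rw [Subtype.ext h']
  have h4 := Nat.card_le_card_of_injective f hf
  rw [Nat.card_sum, Nat.card_sum] at h4
  exact h4

theorem card2_eq (P₁ P₂ Q : α → Prop) (h1 : ∀ x, P₁ x → Q x) (h2 : ∀ x, P₂ x → Q x)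
    (d12 : ∀ x, P₁ x → ¬ P₂ x) (hQ : ∀ x, Q x → P₁ x ∨ P₂ x) :
    Nat.card {x // P₁ x} + Nat.card {x // P₂ x} = Nat.card {x // Q x} := by
  let f : {x // P₁ x} ⊕ {x // P₂ x} → {x // Q x} := fun s =>
    match s with
    | Sum.inl x => ⟨x.1, h1 _ x.2⟩
    | Sum.inr x => ⟨x.1, h2 _ x.2⟩
  have hf : Function.Bijective f := by
    constructor
    · rintro (x | x) (y | y) h
      · have h' : x.1 = y.1 := congrArg (fun z : {x // Q x} => z.1) h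
        rw [Subtype.ext h']
      · have h' : x.1 = y.1 := congrArg (fun z : {x // Q x} => z.1) h
        exact absurd y.2 (d12 _ (h' ▸ x.2))
      · have h' : x.1 = y.1 := congrArg (fun z : {x // Q x} => z.1) h
        exact absurd x.2 (d12 _ (h' ▸ y.2))
      · have h' : x.1 = y.1 := congrArg (fun z : {x // Q x} => z.1) h
        rw [Subtype.ext h']
    · rintro ⟨x, hx⟩
      rcases hQ x hx with h | h
      · exact ⟨Sum.inl ⟨x, h⟩, rfl⟩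
      · exact ⟨Sum.inr ⟨x, h⟩, rfl⟩
  have h4 := Nat.card_eq_of_bijective f hf
  rw [Nat.card_sum] at h4
  exact h4

theorem card1_eq {α : Type*} (P Q : α → Prop) (h : ∀ x, P x ↔ Q x) :
    Nat.card {x // P x} = Nat.card {x // Q x} :=
  Nat.card_congr (Equiv.subtypeEquivRight h)

end counting

section nt

theorem five_phi {Γ φ a ν : ℕ} (ha : 5 ≤ a) (hν : ν ≤ 4 * a) (h : φ * ν = Γ * (a - 1)) :
    Γ ≤ 5 * φ := by
  obtain ⟨c, rfl⟩ : ∃ c, a = c + 5 := ⟨a - 5, by omega⟩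
  have e : c + 5 - 1 = c + 4 := by omega
  rw [e] at h
  have h1 := Nat.mul_le_mul_left φ hν
  nlinarith

theorem nt_three {q Γ φ₁ φ₂ φ₃ N₀ : ℕ} (hq : 8 ≤ q) (hΓ : Γ = q ^ 2 * (q ^ 2 + 1) * (q - 1))
    (h1 : Γ ≤ 5 * φ₁) (h2 : Γ ≤ 5 * φ₂) (h3 : Γ ≤ 5 * φ₃) (hle : φ₁ + φ₂ + φ₃ ≤ N₀)
    (hN : 2 * N₀ = q ^ 3 * (q - 1) ^ 2) : False := by
  obtain ⟨k, rfl⟩ : ∃ k, q = k + 8 := ⟨q - 8, by omega⟩
  have e : k + 8 - 1 = k + 7 := by omega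
  rw [e] at hΓ hN
  have h4 : 6 * Γ ≤ 5 * ((k + 8) ^ 3 * (k + 7) ^ 2) := by
    rw [← hN]
    omega
  have h5 : 5 * ((k + 8) ^ 3 * (k + 7) ^ 2) + (k + 8) ^ 2 * (k + 7) * (k ^ 2 + 21 * k + 110) =
      6 * ((k + 8) ^ 2 * ((k + 8) ^ 2 + 1) * (k + 7)) := by ring
  have h6 : 0 < (k + 8) ^ 2 * (k + 7) * (k ^ 2 + 21 * k + 110) := by positivity
  rw [← hΓ] at h5
  omega

theorem nt_one {q w φ : ℕ} (hq : 8 ≤ q) (hw : w = 2 ∨ w = 4)
    (h₁ : φ * (w * (q ^ 2 + 1)) = q ^ 2 * (q ^ 2 + 1) * (q - 1) * (q ^ 2 + 1 - 1))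
    (hN : 2 * φ = q ^ 3 * (q - 1) ^ 2) : False := by
  obtain ⟨k, rfl⟩ : ∃ k, q = k + 8 := ⟨q - 8, by omega⟩
  have e : k + 8 - 1 = k + 7 := by omega
  have e2 : (k + 8) ^ 2 + 1 - 1 = (k + 8) ^ 2 := by omega
  rw [e, e2] at h₁
  rw [e] at hN
  have h3 : 2 * (k + 8) = (k + 7) * w := by
    have h4 : ((k + 8) ^ 3 * (k + 7) * ((k + 8) ^ 2 + 1)) * (2 * (k + 8)) =
        ((k + 8) ^ 3 * (k + 7) * ((k + 8) ^ 2 + 1)) * ((k + 7) * w) := by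
      calc ((k + 8) ^ 3 * (k + 7) * ((k + 8) ^ 2 + 1)) * (2 * (k + 8))
          = 2 * ((k + 8) ^ 2 * ((k + 8) ^ 2 + 1) * (k + 7) * (k + 8) ^ 2) := by ring
        _ = 2 * (φ * (w * ((k + 8) ^ 2 + 1))) := by rw [h₁]
        _ = (2 * φ) * (w * ((k + 8) ^ 2 + 1)) := by ring
        _ = ((k + 8) ^ 3 * (k + 7) * ((k + 8) ^ 2 + 1)) * ((k + 7) * w) := by
          rw [hN]
          ring
    exact Nat.eq_of_mul_eq_mul_left (by positivity) h4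
  rcases hw with rfl | rfl <;> omega

theorem nt_two {q r a b w₁ w₂ φ₁ φ₂ : ℕ} (hq : q = 2 * r ^ 2) (hr : 2 ≤ r)
    (hab : a * b = q ^ 2 + 1) (ha : 5 ≤ a) (hb : 5 ≤ b)
    (hw₁ : w₁ = 2 ∨ w₁ = 4) (hw₂ : w₂ = 2 ∨ w₂ = 4)
    (h₁ : φ₁ * (w₁ * a) = q ^ 2 * (q ^ 2 + 1) * (q - 1) * (a - 1))
    (h₂ : φ₂ * (w₂ * b) = q ^ 2 * (q ^ 2 + 1) * (q - 1) * (b - 1))
    (hN : 2 * (φ₁ + φ₂) = q ^ 3 * (q - 1) ^ 2) :
    w₁ = 4 ∧ w₂ = 4 ∧ ((a = q + 2 * r + 1 ∧ b = q - 2 * r + 1) ∨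
      (a = q - 2 * r + 1 ∧ b = q + 2 * r + 1)) := by
  have hq8 : 8 ≤ q := by
    rw [hq]
    nlinarith
  have h2r : 2 * r ≤ q := by
    rw [hq]
    nlinarith
  have hq1 : 1 ≤ q := by omega
  have ha1 : 1 ≤ a := by omega
  have hb1 : 1 ≤ b := by omega
  have hab' : (a : ℤ) * b = (q : ℤ) ^ 2 + 1 := by exact_mod_cast hab
  have h₁' : (φ₁ : ℤ) * (w₁ * a) = (q : ℤ) ^ 2 * ((q : ℤ) ^ 2 + 1) * ((q : ℤ) - 1) * ((a : ℤ) - 1) := by
    have := congrArg (Nat.cast : ℕ → ℤ) h₁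
    push_cast [Nat.cast_sub hq1, Nat.cast_sub ha1] at this
    exact this
  have h₂' : (φ₂ : ℤ) * (w₂ * b) = (q : ℤ) ^ 2 * ((q : ℤ) ^ 2 + 1) * ((q : ℤ) - 1) * ((b : ℤ) - 1) := by
    have := congrArg (Nat.cast : ℕ → ℤ) h₂
    push_cast [Nat.cast_sub hq1, Nat.cast_sub hb1] at this
    exact this
  have hN' : 2 * ((φ₁ : ℤ) + φ₂) = (q : ℤ) ^ 3 * ((q : ℤ) - 1) ^ 2 := by
    have := congrArg (Nat.cast : ℕ → ℤ) hN
    push_cast [Nat.cast_sub hq1] at this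
    exact this
  have hq' : (q : ℤ) = 2 * (r : ℤ) ^ 2 := by exact_mod_cast hq
  have hQ8 : (8 : ℤ) ≤ q := by exact_mod_cast hq8
  have hA5 : (5 : ℤ) ≤ a := by exact_mod_cast ha
  have hB5 : (5 : ℤ) ≤ b := by exact_mod_cast hb
  have E : (q : ℤ) * ((q : ℤ) - 1) * w₁ * w₂ =
      2 * (((a : ℤ) - 1) * b * w₂ + ((b : ℤ) - 1) * a * w₁) := by
    have hne : (q : ℤ) ^ 2 * ((q : ℤ) ^ 2 + 1) * ((q : ℤ) - 1) ≠ 0 := by
      apply ne_of_gt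
      exact mul_pos (mul_pos (by positivity) (by positivity)) (by linarith)
    have key : (q : ℤ) ^ 2 * ((q : ℤ) ^ 2 + 1) * ((q : ℤ) - 1) *
        ((q : ℤ) * ((q : ℤ) - 1) * w₁ * w₂ -
          2 * (((a : ℤ) - 1) * b * w₂ + ((b : ℤ) - 1) * a * w₁)) = 0 := by
      linear_combination (-((q : ℤ) ^ 2 + 1) * w₁ * w₂) * hN' + (2 * (b : ℤ) * w₂) * h₁' +
        (2 * (a : ℤ) * w₁) * h₂' - (2 * (w₁ : ℤ) * w₂ * ((φ₁ : ℤ) + φ₂)) * hab'
    have h0 := (mul_eq_zero.mp key).resolve_left hne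
    linarith
  rcases hw₁ with rfl | rfl <;> rcases hw₂ with rfl | rfl
  · exfalso
    push_cast at E
    nlinarith [mul_nonneg (sub_nonneg.mpr hA5) (sub_nonneg.mpr hB5)]
  · exfalso
    push_cast at E
    nlinarith [mul_nonneg (sub_nonneg.mpr hA5) (sub_nonneg.mpr hB5)]
  · exfalso
    push_cast at E
    nlinarith [mul_nonneg (sub_nonneg.mpr hA5) (sub_nonneg.mpr hB5)]
  · refine ⟨rfl, rfl, ?_⟩
    push_cast at E
    have hsum : (a : ℤ) + b = 2 * q + 2 := by linarith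
    have hroot : ((a : ℤ) - (q + 1 + 2 * r)) * ((a : ℤ) - (q + 1 - 2 * r)) = 0 := by
      linear_combination (a : ℤ) * hsum - hab' + 2 * hq'
    rcases mul_eq_zero.mp hroot with h | h
    · left
      constructor <;> omega
    · right
      constructor <;> omega

end nt

end Cfsg.Agent.Lib.Helper14.SzTori
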