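import Mathlib
import Cfsg.Prelude.Def_LieExceptional
import Cfsg.Agent.Lib.Helper3.Sz10
import Cfsg.Agent.Lib.Helper14.SzTori6
import Cfsg.Agent.Lib.Helper14.SzTori7

set_option autoImplicit false
set_option linter.unusedSectionVars false

namespace Cfsg.Agent.Lib.Helper14.SzTori

open Matrix MulAction Polynomial
open Cfsg.Agent.Lib.Helper3.Sz1 Cfsg.Agent.Lib.Helper3.Sz3 Cfsg.Agent.Lib.Helper3.Sz5
open Cfsg.Agent.Lib.Helper3.Sz7 Cfsg.Agent.Lib.Helper3.Sz8 Cfsg.Agent.Lib.Helper3.Sz9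

variable {F : Type*} [Field F] [Fintype F] {m : ℕ}

/-- order of the centraliser. -/
noncomputable def cA (g : ↥(Cfsg.Sz F m)) : ℕ :=
  Nat.card ↥(Subgroup.centralizer ({g} : Set ↥(Cfsg.Sz F m)))

/-- order of the normaliser of the centraliser. -/
noncomputable def cN (g : ↥(Cfsg.Sz F m)) : ℕ :=
  Nat.card ↥(Subgroup.normalizer
    ((Subgroup.centralizer ({g} : Set ↥(Cfsg.Sz F m)) : Subgroup ↥(Cfsg.Sz F m)) :
      Set ↥(Cfsg.Sz F m)))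

theorem cA_dvd (hm : 1 ≤ m) (hF : Fintype.card F = 2 ^ (2 * m + 1))
    {g : ↥(Cfsg.Sz F m)} (hg : Fpf g) : cA g ∣ (2 ^ (2 * m + 1)) ^ 2 + 1 :=
  cent_card_dvd hm hF hg

theorem cA_ge (hm : 1 ≤ m) (hF : Fintype.card F = 2 ^ (2 * m + 1))
    {g : ↥(Cfsg.Sz F m)} (hg : Fpf g) : 5 ≤ cA g := by
  have hfin : Finite (Matrix.SpecialLinearGroup (Fin 4) F) := finite_SL
  have hd := cA_dvd hm hF hg
  have hcard1 : cA g ≠ 1 := by
    unfold cA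
    rw [Ne, Subgroup.card_eq_one]
    intro h
    have h1 := self_mem_cent g
    rw [h, Subgroup.mem_bot] at h1
    exact fpf_ne_one hg h1
  have hpos : 0 < cA g := Nat.card_pos
  have h3 := q_mod_three m
  have hn3 : ((2 ^ (2 * m + 1)) ^ 2 + 1) % 3 = 2 := by
    rw [Nat.add_mod, Nat.pow_mod, h3]
  have hn2 : ((2 ^ (2 * m + 1)) ^ 2 + 1) % 2 = 1 := by
    have h1 : 2 ∣ (2 ^ (2 * m + 1)) ^ 2 := dvd_pow (dvd_pow_self 2 (by omega)) (by norm_num)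
    omega
  obtain ⟨c, hc⟩ := hd
  generalize (2 ^ (2 * m + 1)) ^ 2 + 1 = n at *
  generalize cA g = a at *
  by_contra hlt
  push Not at hlt
  interval_cases a <;> omega

theorem cN_eq (hm : 1 ≤ m) (hF : Fintype.card F = 2 ^ (2 * m + 1))
    {g : ↥(Cfsg.Sz F m)} (hg : Fpf g) : cN g = 2 * cA g ∨ cN g = 4 * cA g :=
  norm_card hm hF hg

theorem cA_hall (hm : 1 ≤ m) (hF : Fintype.card F = 2 ^ (2 * m + 1))
    {g : ↥(Cfsg.Sz F m)} (hg : Fpf g) :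
    Nat.Coprime (cA g) (((2 ^ (2 * m + 1)) ^ 2 + 1) / cA g) :=
  hall hm hF hg

theorem card_Phi' (hm : 1 ≤ m) (hF : Fintype.card F = 2 ^ (2 * m + 1))
    {g : ↥(Cfsg.Sz F m)} (hg : Fpf g) :
    Nat.card (Phi g) * cN g = Nat.card ↥(Cfsg.Sz F m) * (cA g - 1) :=
  card_Phi hm hF hg

theorem cA_of_mem_Phi (hm : 1 ≤ m) (hF : Fintype.card F = 2 ^ (2 * m + 1))
    {g h : ↥(Cfsg.Sz F m)} (hg : Fpf g) (hh : h ∈ Phi g) : cA h = cA g ∧ cN h = cN g := by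
  obtain ⟨x, e⟩ := Phi_cent hm hF hg hh
  unfold cA cN
  rw [e]
  exact ⟨card_cent_conj g x, card_norm_conj g x⟩

theorem mem_Phi_of_prime (hm : 1 ≤ m) (hF : Fintype.card F = 2 ^ (2 * m + 1))
    {g h : ↥(Cfsg.Sz F m)} (hg : Fpf g) (hh : Fpf h) {p : ℕ} (hp : p.Prime)
    (h1 : p ∣ cA g) (h2 : p ∣ cA h) : h ∈ Phi g := by
  obtain ⟨x, e⟩ := rel_of_common_prime hm hF hg hh hp h1 h2
  exact mem_Phi_of_cent hh x e

theorem exists_prime_class (hm : 1 ≤ m) (hF : Fintype.card F = 2 ^ (2 * m + 1)) {p : ℕ}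
    (hp : p.Prime) (hdvd : p ∣ (2 ^ (2 * m + 1)) ^ 2 + 1) :
    ∃ x : ↥(Cfsg.Sz F m), Fpf x ∧ p ∣ cA x := by
  have hfin : Finite (Matrix.SpecialLinearGroup (Fin 4) F) := finite_SL
  have hpf : Fact p.Prime := ⟨hp⟩
  have hG : p ∣ Nat.card ↥(Cfsg.Sz F m) := by
    rw [card_Sz hm hF]
    exact dvd_mul_of_dvd_left (dvd_mul_of_dvd_right hdvd _) _
  obtain ⟨x, hx⟩ := exists_prime_orderOf_dvd_card' p hG
  have hx1 : x ≠ 1 := by
    rintro rfl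
    rw [orderOf_one] at hx
    exact hp.one_lt.ne hx
  have hpg : IsPGroup p ↥(Subgroup.zpowers x) := by
    apply IsPGroup.of_card (n := 1)
    rw [Nat.card_zpowers, hx, pow_one]
  obtain ⟨Q, hQ⟩ := hpg.exists_le_sylow
  have hxQ := hQ (Subgroup.mem_zpowers x)
  refine ⟨x, sylow_fpf hm hF hdvd Q hxQ hx1, ?_⟩
  rw [← hx]
  exact Subgroup.orderOf_dvd_natCard _ (self_mem_cent x)

/-- the centralisers of the fixed-point-free elements: orders `q ± 2r + 1`, index 4 in the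
normaliser, both orders occur. -/
theorem main (hm : 1 ≤ m) (hF : Fintype.card F = 2 ^ (2 * m + 1)) :
    (∀ h : ↥(Cfsg.Sz F m), Fpf h →
      (cA h = 2 ^ (2 * m + 1) + 2 ^ (m + 1) + 1 ∨ cA h = 2 ^ (2 * m + 1) - 2 ^ (m + 1) + 1) ∧
        cN h = 4 * cA h) ∧
    (∃ g : ↥(Cfsg.Sz F m), Fpf g ∧ cA g = 2 ^ (2 * m + 1) + 2 ^ (m + 1) + 1) ∧
    (∃ g : ↥(Cfsg.Sz F m), Fpf g ∧ cA g = 2 ^ (2 * m + 1) - 2 ^ (m + 1) + 1) := by
  classical
  have hfin : Finite (Matrix.SpecialLinearGroup (Fin 4) F) := finite_SL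
  have hq8 := q_ge hm
  have hN := two_mul_card_fpf hm hF
  have hΓ := card_Sz hm hF
  have hex1 : ∃ g₁ : ↥(Cfsg.Sz F m), Fpf g₁ := by
    by_contra hcon
    push Not at hcon
    have h0 : Nat.card {g : ↥(Cfsg.Sz F m) // Fpf g} = 0 := by
      rw [Finite.card_eq_zero_iff]
      exact ⟨fun x => hcon x.1 x.2⟩
    rw [h0] at hN
    have hpos : 0 < (2 ^ (2 * m + 1)) ^ 3 * (2 ^ (2 * m + 1) - 1) ^ 2 :=
      Nat.mul_pos (by positivity) (pow_pos (by omega) 2)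
    omega
  obtain ⟨g₁, hg₁⟩ := hex1
  have hex2 : ∃ g₂ : ↥(Cfsg.Sz F m), Fpf g₂ ∧ g₂ ∉ Phi g₁ := by
    by_contra hcon
    push Not at hcon
    have hcardeq : Nat.card {g : ↥(Cfsg.Sz F m) // Fpf g} = Nat.card (Phi g₁) :=
      card1_eq _ _ (fun x => ⟨hcon x, Phi_fpf hm hF hg₁⟩)
    have han : cA g₁ = (2 ^ (2 * m + 1)) ^ 2 + 1 := by
      obtain ⟨c, hc⟩ := cA_dvd hm hF hg₁
      have hapos : 0 < cA g₁ := by
        have := cA_ge hm hF hg₁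
        omega
      by_cases hc1 : c = 1
      · rw [hc, hc1, mul_one]
      · exfalso
        obtain ⟨p, hp, hpc⟩ := Nat.exists_prime_and_dvd hc1
        have hpn : p ∣ (2 ^ (2 * m + 1)) ^ 2 + 1 := by
          rw [hc]
          exact dvd_mul_of_dvd_right hpc _
        obtain ⟨x, hx, hpx⟩ := exists_prime_class hm hF hp hpn
        have hxa := (cA_of_mem_Phi hm hF hg₁ (hcon x hx)).1
        rw [hxa] at hpx
        have hall := cA_hall hm hF hg₁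
        rw [hc, Nat.mul_div_cancel_left _ hapos] at hall
        exact Nat.Prime.not_coprime_iff_dvd.mpr ⟨p, hp, hpx, hpc⟩ hall
    have hcP := card_Phi' hm hF hg₁
    rw [← hcardeq, hΓ, han] at hcP
    rcases cN_eq hm hF hg₁ with hw | hw
    · rw [hw, han] at hcP
      exact nt_one hq8 (Or.inl rfl) hcP hN
    · rw [hw, han] at hcP
      exact nt_one hq8 (Or.inr rfl) hcP hN
  obtain ⟨g₂, hg₂, hg₂1⟩ := hex2
  have hall12 : ∀ h : ↥(Cfsg.Sz F m), Fpf h → h ∈ Phi g₁ ∨ h ∈ Phi g₂ := by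
    intro g₃ hg₃
    by_contra hcon
    push Not at hcon
    obtain ⟨h31, h32⟩ := hcon
    have hle : Nat.card (Phi g₁) + Nat.card (Phi g₂) + Nat.card (Phi g₃) ≤
        Nat.card {g : ↥(Cfsg.Sz F m) // Fpf g} :=
      card3_le (fun h => h ∈ Phi g₁) (fun h => h ∈ Phi g₂) (fun h => h ∈ Phi g₃) Fpf
        (fun x => Phi_fpf hm hF hg₁) (fun x => Phi_fpf hm hF hg₂) (fun x => Phi_fpf hm hF hg₃)
        (fun x h1 h2 => hg₂1 (Phi_disj hm hF hg₁ hg₂ h1 h2))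
        (fun x h1 h2 => h31 (Phi_disj hm hF hg₁ hg₃ h1 h2))
        (fun x h1 h2 => h32 (Phi_disj hm hF hg₂ hg₃ h1 h2))
    have five : ∀ g : ↥(Cfsg.Sz F m), Fpf g →
        Nat.card ↥(Cfsg.Sz F m) ≤ 5 * Nat.card (Phi g) := by
      intro g hg
      apply five_phi (cA_ge hm hF hg) _ (card_Phi' hm hF hg)
      rcases cN_eq hm hF hg with h | h <;> rw [h] <;> omega
    exact nt_three hq8 hΓ (five g₁ hg₁) (five g₂ hg₂) (five g₃ hg₃) hle hN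
  have hsum : Nat.card (Phi g₁) + Nat.card (Phi g₂) =
      Nat.card {g : ↥(Cfsg.Sz F m) // Fpf g} :=
    card2_eq (fun h => h ∈ Phi g₁) (fun h => h ∈ Phi g₂) Fpf (fun x => Phi_fpf hm hF hg₁)
      (fun x => Phi_fpf hm hF hg₂) (fun x h1 h2 => hg₂1 (Phi_disj hm hF hg₁ hg₂ h1 h2)) hall12
  have hcop : Nat.Coprime (cA g₁) (cA g₂) := by
    by_contra hcon
    obtain ⟨p, hp, h1, h2⟩ := Nat.Prime.not_coprime_iff_dvd.mp hcon
    exact hg₂1 (mem_Phi_of_prime hm hF hg₁ hg₂ hp h1 h2)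
  have ha1pos : 0 < cA g₁ := by
    have := cA_ge hm hF hg₁
    omega
  have ha2pos : 0 < cA g₂ := by
    have := cA_ge hm hF hg₂
    omega
  have hprod : cA g₁ * cA g₂ = (2 ^ (2 * m + 1)) ^ 2 + 1 := by
    have hd := Nat.Coprime.mul_dvd_of_dvd_of_dvd hcop (cA_dvd hm hF hg₁) (cA_dvd hm hF hg₂)
    obtain ⟨c, hc⟩ := hd
    by_cases hc1 : c = 1
    · rw [hc, hc1, mul_one]
    · exfalso
      obtain ⟨p, hp, hpc⟩ := Nat.exists_prime_and_dvd hc1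
      have hpn : p ∣ (2 ^ (2 * m + 1)) ^ 2 + 1 := by
        rw [hc]
        exact dvd_mul_of_dvd_right hpc _
      obtain ⟨x, hx, hpx⟩ := exists_prime_class hm hF hp hpn
      rcases hall12 x hx with hx1 | hx2
      · have hxa := (cA_of_mem_Phi hm hF hg₁ hx1).1
        rw [hxa] at hpx
        have hall := cA_hall hm hF hg₁
        rw [hc, mul_assoc, Nat.mul_div_cancel_left _ ha1pos] at hall
        exact Nat.Prime.not_coprime_iff_dvd.mpr ⟨p, hp, hpx, dvd_mul_of_dvd_right hpc _⟩ hall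
      · have hxa := (cA_of_mem_Phi hm hF hg₂ hx2).1
        rw [hxa] at hpx
        have hall := cA_hall hm hF hg₂
        have e : cA g₁ * cA g₂ * c = cA g₂ * (cA g₁ * c) := by ring
        rw [hc, e, Nat.mul_div_cancel_left _ ha2pos] at hall
        exact Nat.Prime.not_coprime_iff_dvd.mpr ⟨p, hp, hpx, dvd_mul_of_dvd_right hpc _⟩ hall
  obtain ⟨w₁, hw₁, hN₁⟩ : ∃ w, (w = 2 ∨ w = 4) ∧ cN g₁ = w * cA g₁ := by
    rcases cN_eq hm hF hg₁ with h | h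
    · exact ⟨2, Or.inl rfl, h⟩
    · exact ⟨4, Or.inr rfl, h⟩
  obtain ⟨w₂, hw₂, hN₂⟩ : ∃ w, (w = 2 ∨ w = 4) ∧ cN g₂ = w * cA g₂ := by
    rcases cN_eq hm hF hg₂ with h | h
    · exact ⟨2, Or.inl rfl, h⟩
    · exact ⟨4, Or.inr rfl, h⟩
  have hP1 := card_Phi' hm hF hg₁
  have hP2 := card_Phi' hm hF hg₂
  rw [hΓ, hN₁] at hP1
  rw [hΓ, hN₂] at hP2
  rw [← hsum] at hN
  have hqr : 2 ^ (2 * m + 1) = 2 * (2 ^ m) ^ 2 := by ring
  have hr2 : 2 ≤ 2 ^ m := by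
    calc 2 = 2 ^ 1 := rfl
      _ ≤ 2 ^ m := Nat.pow_le_pow_right (by norm_num) hm
  obtain ⟨e1, e2, hcases⟩ :=
    nt_two hqr hr2 hprod (cA_ge hm hF hg₁) (cA_ge hm hF hg₂) hw₁ hw₂ hP1 hP2 hN
  subst e1 e2
  have h2r : 2 ^ (m + 1) = 2 * 2 ^ m := by ring
  rw [h2r]
  refine ⟨?_, ?_, ?_⟩
  · intro h hh
    rcases hall12 h hh with hx | hx
    · obtain ⟨ea, en⟩ := cA_of_mem_Phi hm hF hg₁ hx
      rw [ea, en, hN₁]
      refine ⟨?_, rfl⟩
      rcases hcases with ⟨c1, c2⟩ | ⟨c1, c2⟩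
      · left
        exact c1
      · right
        exact c1
    · obtain ⟨ea, en⟩ := cA_of_mem_Phi hm hF hg₂ hx
      rw [ea, en, hN₂]
      refine ⟨?_, rfl⟩
      rcases hcases with ⟨c1, c2⟩ | ⟨c1, c2⟩
      · right
        exact c2
      · left
        exact c2
  · rcases hcases with ⟨c1, c2⟩ | ⟨c1, c2⟩
    · exact ⟨g₁, hg₁, c1⟩
    · exact ⟨g₂, hg₂, c2⟩
  · rcases hcases with ⟨c1, c2⟩ | ⟨c1, c2⟩
    · exact ⟨g₂, hg₂, c2⟩
    · exact ⟨g₁, hg₁, c1⟩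

end Cfsg.Agent.Lib.Helper14.SzTori
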