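import Mathlib
import Cfsg.Prelude.Def_LieExceptional
import Cfsg.Agent.Lib.Helper3.Sz10
import Cfsg.Agent.Lib.Helper14.SzTori8

set_option autoImplicit false
set_option linter.unusedSectionVars false

namespace Cfsg.Agent.Lib.Helper14.SzPart

open Matrix MulAction
open Cfsg.Agent.Lib.Helper3.Sz1 Cfsg.Agent.Lib.Helper3.Sz3 Cfsg.Agent.Lib.Helper3.Sz5
open Cfsg.Agent.Lib.Helper3.Sz6
open Cfsg.Agent.Lib.Helper3.Sz7 Cfsg.Agent.Lib.Helper3.Sz8 Cfsg.Agent.Lib.Helper3.Sz9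
open Cfsg.Agent.Lib.Helper3.Sz10
open Cfsg.Agent.Lib.Helper14.SzTori

section grp

variable {G : Type*} [Group G]

theorem cyclic_le_cent {V : Subgroup G} (hV : IsCyclic ↥V) {g : G} (hg : g ∈ V) :
    V ≤ Subgroup.centralizer ({g} : Set G) := by
  obtain ⟨c, hc⟩ := hV.exists_generator
  intro y hy
  rw [mem_cent_iff]
  obtain ⟨i, hi⟩ := Subgroup.mem_zpowers_iff.mp (hc ⟨y, hy⟩)
  obtain ⟨j, hj⟩ := Subgroup.mem_zpowers_iff.mp (hc ⟨g, hg⟩)
  have h1 : (⟨y, hy⟩ : ↥V) * ⟨g, hg⟩ = ⟨g, hg⟩ * ⟨y, hy⟩ := by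
    rw [← hi, ← hj, ← _root_.zpow_add, ← _root_.zpow_add, add_comm]
  exact congrArg Subtype.val h1

theorem pow_card_of_mem [Finite G] {V : Subgroup G} {g : G} (hg : g ∈ V) :
    g ^ Nat.card ↥V = 1 := by
  have h1 : (⟨g, hg⟩ : ↥V) ^ Nat.card ↥V = 1 := pow_card_eq_one'
  exact congrArg Subtype.val h1

theorem eq_one_of_pow_coprime {g : G} {a b : ℕ} (ha : g ^ a = 1) (hb : g ^ b = 1)
    (hab : Nat.Coprime a b) : g = 1 := by
  have h6 := pow_gcd_eq_one.mpr ⟨ha, hb⟩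
  rw [hab, pow_one] at h6
  exact h6

end grp

variable {F : Type*} [Field F] [Fintype F] {m : ℕ}

/-- the centraliser of an element conjugate to a non-trivial diagonal element is cyclic of order
`q - 1`. -/
theorem typeD_cent (hm : 1 ≤ m) (hF : Fintype.card F = 2 ^ (2 * m + 1))
    (g x : ↥(Cfsg.Sz F m)) (k : Fˣ) (hk1 : k ≠ 1)
    (hk : x.1 * g.1 * x.1⁻¹ = D (2 ^ (m + 1)) k) :
    IsCyclic ↥(Subgroup.centralizer ({g} : Set ↥(Cfsg.Sz F m))) ∧
      Nat.card ↥(Subgroup.centralizer ({g} : Set ↥(Cfsg.Sz F m))) = 2 ^ (2 * m + 1) - 1 := by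
  have hfin : Finite (Matrix.SpecialLinearGroup (Fin 4) F) := finite_SL
  have hgk : g = x⁻¹ * DHom hm hF k * x := by
    apply Subtype.ext
    show g.1 = x.1⁻¹ * D (2 ^ (m + 1)) k * x.1
    rw [← hk]
    group
  let ψ : Fˣ →* ↥(Cfsg.Sz F m) :=
    { toFun := fun k' => x⁻¹ * DHom hm hF k' * x
      map_one' := by
        rw [map_one]
        group
      map_mul' := by
        intro a b
        rw [map_mul]
        group }
  have hψ : ∀ k', ψ k' = x⁻¹ * DHom hm hF k' * x := fun _ => rfl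
  have hinj : Function.Injective ψ := by
    intro a b hab
    rw [hψ, hψ] at hab
    have h1 : DHom hm hF a = DHom hm hF b := mul_left_cancel (mul_right_cancel hab)
    exact D_inj (congrArg Subtype.val h1)
  have hrange : ψ.range = Subgroup.centralizer ({g} : Set ↥(Cfsg.Sz F m)) := by
    ext h
    rw [MonoidHom.mem_range, mem_cent_iff]
    constructor
    · rintro ⟨k', rfl⟩
      rw [hψ, hgk]
      calc x⁻¹ * DHom hm hF k' * x * (x⁻¹ * DHom hm hF k * x)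
          = x⁻¹ * (DHom hm hF k' * DHom hm hF k) * x := by group
        _ = x⁻¹ * (DHom hm hF k * DHom hm hF k') * x := by
          rw [← map_mul, ← map_mul, mul_comm]
        _ = x⁻¹ * DHom hm hF k * x * (x⁻¹ * DHom hm hF k' * x) := by group
    · intro hc
      have hc' : (x.1 * h.1 * x.1⁻¹) * D (2 ^ (m + 1)) k =
          D (2 ^ (m + 1)) k * (x.1 * h.1 * x.1⁻¹) := by
        have h1 : h.1 * g.1 = g.1 * h.1 := congrArg Subtype.val hc
        rw [← hk]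
        calc x.1 * h.1 * x.1⁻¹ * (x.1 * g.1 * x.1⁻¹) = x.1 * (h.1 * g.1) * x.1⁻¹ := by group
          _ = x.1 * (g.1 * h.1) * x.1⁻¹ := by rw [h1]
          _ = x.1 * g.1 * x.1⁻¹ * (x.1 * h.1 * x.1⁻¹) := by group
      obtain ⟨k', hk'⟩ := cent_D hm hF hk1 (mul_mem (mul_mem x.2 h.2) (inv_mem x.2)) hc'
      refine ⟨k', ?_⟩
      rw [hψ]
      apply Subtype.ext
      show x.1⁻¹ * D (2 ^ (m + 1)) k' * x.1 = h.1
      rw [← hk']
      group
  rw [← hrange]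
  constructor
  · exact isCyclic_of_surjective ψ.rangeRestrict ψ.rangeRestrict_surjective
  · rw [← Nat.card_congr (MonoidHom.ofInjective hinj).toEquiv, Nat.card_units,
      Nat.card_eq_fintype_card, hF]

/-- a non-identity 2-element lies in a unique Sylow 2-subgroup. -/
theorem sylow_unique (hm : 1 ≤ m) (hF : Fintype.card F = 2 ^ (2 * m + 1))
    (g : ↥(Cfsg.Sz F m)) (hg : g ≠ 1) (P P' : Sylow 2 ↥(Cfsg.Sz F m))
    (hP : g ∈ (P : Subgroup ↥(Cfsg.Sz F m))) (hP' : g ∈ (P' : Subgroup ↥(Cfsg.Sz F m))) :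
    P = P' := by
  have hs := hyp_of_card hm hF
  obtain ⟨γ, hγ⟩ := sylow_conj hm hF P
  obtain ⟨γ', hγ'⟩ := sylow_conj hm hF P'
  obtain ⟨a, b, hab⟩ := (hγ g).mp hP
  obtain ⟨a', b', hab'⟩ := (hγ' g).mp hP'
  have hne : ¬ (a = 0 ∧ b = 0) := by
    rintro ⟨rfl, rfl⟩
    rw [u_zero] at hab
    apply hg
    have h1 : g = γ * (γ⁻¹ * g * γ) * γ⁻¹ := by group
    rw [h1, hab]
    group
  -- `γ⁻¹ γ'` fixes the point at infinity
  have hfix : (γ⁻¹ * γ').1 • Cfsg.suzukiPointInfinity F = Cfsg.suzukiPointInfinity F := by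
    apply T_fix hm hF hne (smul_mem_ovoid (γ⁻¹ * γ').2 (pInf_mem m))
    have h1 : T (2 ^ (m + 1)) a b = (γ⁻¹ * g * γ).1 := (congrArg Subtype.val hab).symm
    have h2 : T (2 ^ (m + 1)) a' b' = (γ'⁻¹ * g * γ').1 := (congrArg Subtype.val hab').symm
    have h3 : (γ⁻¹ * g * γ) * (γ⁻¹ * γ') = (γ⁻¹ * γ') * (γ'⁻¹ * g * γ') := by group
    rw [h1, ← mul_smul]
    have h4 : (γ⁻¹ * g * γ).1 * (γ⁻¹ * γ').1 = (γ⁻¹ * γ').1 * (γ'⁻¹ * g * γ').1 :=
      congrArg Subtype.val h3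
    rw [h4, mul_smul, ← h2, T_pInf]
  have hnorm := norm_of_fix hm hF (γ⁻¹ * γ') hfix
  have hle : (P' : Subgroup ↥(Cfsg.Sz F m)) ≤ (P : Subgroup ↥(Cfsg.Sz F m)) := by
    intro y hy
    rw [hγ]
    have h1 := hnorm _ ((hγ' y).mp hy)
    have e : γ⁻¹ * γ' * (γ'⁻¹ * y * γ') * (γ⁻¹ * γ')⁻¹ = γ⁻¹ * y * γ := by group
    rw [e] at h1
    exact h1
  exact Sylow.ext (P'.is_maximal' P.isPGroup' hle)

end Cfsg.Agent.Lib.Helper14.SzPart
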